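import Mathlib
import Cfsg.Agent.H1.Coprime

/-! Local lemmas for fusion systems over a Sylow subgroup of `Sp₄(q)`: quadratic action. -/

set_option autoImplicit false
set_option linter.unusedSectionVars false

namespace Cfsg.Agent.H4.Sp

section Trick

variable {Γ V : Type*} [Group Γ] [Finite Γ] [AddCommGroup V] [DistribMulAction Γ V]
  {p : ℕ} [Fact p.Prime]

/-- A `p`-element fixing `d` and moving `x` to `x + d`, both fixed by a Sylow subgroup. -/
theorem trick (P : Sylow p Γ) {x d : V} (hx : ∀ s ∈ (P : Subgroup Γ), s • x = x)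
    (hd : ∀ s ∈ (P : Subgroup Γ), s • d = d) {σ : Γ} {k : ℕ} (hσ : σ ^ p ^ k = 1)
    (h1 : σ • d = d) (h2 : σ • x = x + d) : d = 0 := by
  let H : Subgroup Γ :=
    { carrier := {g | g • d = d ∧ ∃ n : ℤ, g • x = x + n • d}
      one_mem' := ⟨one_smul _ _, 0, by simp⟩
      mul_mem' := by
        rintro a b ⟨a1, m, a2⟩ ⟨b1, n, b2⟩
        refine ⟨by rw [mul_smul, b1, a1], m + n, ?_⟩
        rw [mul_smul, b2, smul_add, a2, smul_comm a n d, a1, add_smul, add_assoc]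
      inv_mem' := by
        rintro a ⟨a1, m, a2⟩
        refine ⟨by rw [inv_smul_eq_iff, a1], -m, ?_⟩
        rw [inv_smul_eq_iff, smul_add, a2, smul_comm a (-m) d, a1]
        simp }
  have hPH : (P : Subgroup Γ) ≤ H := fun s hs => ⟨hd s hs, 0, by simp [hx s hs]⟩
  have hσH : σ ∈ H := ⟨h1, 1, by simp [h2]⟩
  have hp : IsPGroup p (Subgroup.zpowers (⟨σ, hσH⟩ : H)) := by
    rintro ⟨_, n, rfl⟩
    refine ⟨k, Subtype.ext (Subtype.ext ?_)⟩
    change (σ ^ n) ^ p ^ k = 1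
    rw [← zpow_natCast, ← zpow_mul, mul_comm, zpow_mul, zpow_natCast, hσ, one_zpow]
  obtain ⟨R, hR⟩ := hp.exists_le_sylow
  obtain ⟨c, hc⟩ := MulAction.exists_smul_eq H R (P.subtype hPH)
  have hm : c * ⟨σ, hσH⟩ * c⁻¹ ∈ ((P.subtype hPH : Sylow p H) : Subgroup H) := by
    rw [← hc, Sylow.smul_def, Sylow.pointwise_smul_def]
    exact Subgroup.smul_mem_pointwise_smul _ (MulAut.conj c) _ (hR (Subgroup.mem_zpowers _))
  have hm' : (c : Γ) * σ * (c : Γ)⁻¹ ∈ (P : Subgroup Γ) := hm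
  obtain ⟨c1, n, c2⟩ := (c⁻¹).2
  have e := hx _ hm'
  change (c : Γ)⁻¹ • d = d at c1
  change (c : Γ)⁻¹ • x = _ at c2
  rw [mul_smul, mul_smul, smul_eq_iff_eq_inv_smul, c2, smul_add, h2, smul_comm σ n d, h1] at e
  simpa using e

theorem sylow_pow (P : Sylow p Γ) {s : Γ} (hs : s ∈ (P : Subgroup Γ)) (a : Γ) :
    ∃ k, (a⁻¹ * s * a) ^ p ^ k = 1 := by
  obtain ⟨k, hk⟩ := P.isPGroup' ⟨s, hs⟩
  refine ⟨k, ?_⟩
  have : s ^ p ^ k = 1 := congrArg Subtype.val hk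
  have e : a⁻¹ * s * a = a⁻¹ * s * a⁻¹⁻¹ := by simp
  rw [e, conj_pow, this]; simp

end Trick

section Quad

variable {Γ K : Type*} [Group Γ] [Finite Γ] [Field K] [Finite K] [DistribMulAction Γ (K × K)]
  {p : ℕ} [Fact p.Prime]

theorem eta0 {A B : Type*} [Zero A] {v : A × B} (h : v.1 = 0) : ((0 : A), v.2) = v :=
  Prod.ext h.symm rfl

/-- `P` acts on `K × K` as the group of lower unitriangular matrices. -/
structure Quad (K : Type*) [Field K] [DistribMulAction Γ (K × K)] (P : Subgroup Γ) : Prop where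
  form : ∀ s ∈ P, ∃ t : K, ∀ x y : K, s • (x, y) = (x, y + t * x)
  surj : ∀ t : K, ∃ s ∈ P, ∀ x y : K, s • (x, y) = (x, y + t * x)

theorem Quad.disj {P : Sylow p Γ} (h : Quad K (P : Subgroup Γ)) (a : Γ) {y : K} (hy : y ≠ 0)
    (h0 : (a • ((0 : K), y)).1 = 0) (y' : K) : (a • ((0 : K), y')).1 = 0 := by
  by_contra hv
  obtain ⟨s, hs, e⟩ := h.surj ((a • ((0 : K), y)).2 / (a • ((0 : K), y')).1)
  obtain ⟨k, hk⟩ := sylow_pow P hs a
  have fx : ∀ z : K, ∀ s ∈ (P : Subgroup Γ), s • ((0 : K), z) = (0, z) := fun z s hs => by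
    obtain ⟨t, ht⟩ := h.form s hs
    simp [ht]
  have := trick P (fx y') (fx y) hk (by
    rw [mul_smul, mul_smul, inv_smul_eq_iff, ← Prod.eta (a • ((0 : K), y)), e, h0]; simp) (by
    rw [mul_smul, mul_smul, inv_smul_eq_iff, smul_add, ← Prod.eta (a • ((0 : K), y')), e]
    refine Prod.ext (by simp [h0]) ?_
    simp only [Prod.snd_add]
    field_simp)
  exact hy (congrArg Prod.snd this)

theorem Quad.opp {P : Sylow p Γ} (h : Quad K (P : Subgroup Γ)) {g : Γ} {y₀ : K}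
    (hg : (g • ((0 : K), y₀)).1 ≠ 0) :
    ∃ γ : K →+ K, (∀ x, ∃ y, g • ((0 : K), y) = (x, γ x)) ∧ ∀ r : K, ∃ s ∈ (P : Subgroup Γ),
      ∀ x y, (g * s * g⁻¹) • (x, y + γ x) = (x + r * y, y + γ (x + r * y)) := by
  let ι : K →+ K × K := (DistribSMul.toAddMonoidHom (K × K) g).comp (AddMonoidHom.inr K K)
  have hι : ∀ y, ι y = g • ((0 : K), y) := fun _ => rfl
  let φ : K →+ K := (AddMonoidHom.fst K K).comp ι
  have hφ : ∀ y, φ y = (g • ((0 : K), y)).1 := fun _ => rfl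
  have hinj : Function.Injective φ := (injective_iff_map_eq_zero φ).2 fun y hy => by
    by_contra h0
    exact hg (h.disj g h0 hy y₀)
  let e : K ≃+ K := AddEquiv.ofBijective φ (Finite.injective_iff_bijective.1 hinj)
  let γ : K →+ K := ((AddMonoidHom.snd K K).comp ι).comp e.symm.toAddMonoidHom
  have hγ : ∀ x, g • ((0 : K), e.symm x) = (x, γ x) := fun x =>
    Prod.ext (e.apply_symm_apply x) rfl
  have hγ' : ∀ y, g • ((0 : K), y) = (φ y, γ (φ y)) := fun y => by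
    have := hγ (e y); rwa [e.symm_apply_apply] at this
  refine ⟨γ, fun x => ⟨_, hγ x⟩, fun r => ?_⟩
  have key : ∀ s ∈ (P : Subgroup Γ), (∀ y, (g * s * g⁻¹) • ((0 : K), y) = (r * y, y + γ (r * y))) →
      ∀ x y, (g * s * g⁻¹) • (x, y + γ x) = (x + r * y, y + γ (x + r * y)) := by
    intro s hs hy x y
    obtain ⟨t, ht⟩ := h.form s hs
    have e1 : (x, y + γ x) = ((0 : K), y) + (x, γ x) := by simp
    have e2 : (g * s * g⁻¹) • (x, γ x) = (x, γ x) := by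
      rw [← hγ x, mul_smul, inv_smul_smul, mul_smul, ht]; simp
    rw [e1, smul_add, hy, e2]
    refine Prod.ext (by simp [add_comm]) ?_
    simp only [Prod.snd_add, map_add]; ring
  by_cases hr : r = 0
  · exact ⟨1, one_mem _, key 1 (one_mem _) fun y => by simp [hr]⟩
  have hz : (g⁻¹ • ((0 : K), (1 : K))).1 ≠ 0 := fun hz => by
    have e1 : g • ((0 : K), (g⁻¹ • ((0 : K), (1 : K))).2) = (0, 1) := by
      rw [eta0 hz, smul_inv_smul]
    have e2 : (g⁻¹ • ((0 : K), (1 : K))).2 = 0 := hinj (by rw [hφ, e1]; simp)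
    rw [e2] at e1
    simpa using congrArg Prod.snd ((smul_zero g).symm.trans e1)
  obtain ⟨s, hs, ht⟩ := h.surj (e.symm r / (g⁻¹ • ((0 : K), (1 : K))).1)
  have hs' : ∀ y, (g * s * g⁻¹) • ((0 : K), y) = (0, y) + g • ((0 : K),
      e.symm r / (g⁻¹ • ((0 : K), (1 : K))).1 * (g⁻¹ • ((0 : K), y)).1) := fun y => by
    rw [mul_smul, mul_smul, ← Prod.eta (g⁻¹ • ((0 : K), y)), ht, ← smul_inv_smul g (0, y),
      ← smul_add, inv_smul_smul]
    congr 1
    exact Prod.ext (by simp) (by simp)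
  obtain ⟨s₁, hs₁, ht₁⟩ := h.surj r⁻¹
  refine ⟨s, hs, key s hs fun y => ?_⟩
  have e1 : ((s₁ * g)⁻¹ * (g * s * g⁻¹)) • ((0 : K), (1 : K)) = (0, e.symm r) := by
    rw [mul_smul, inv_smul_eq_iff, hs', div_mul_cancel₀ _ hz, mul_smul, hγ, ht₁]
    refine Prod.ext (by simp) ?_
    simp only [Prod.snd_add]
    field_simp
    ring
  have e2 := h.disj _ one_ne_zero (by rw [e1]) y
  have e3 : (g * s * g⁻¹) • ((0 : K), y) =
      (s₁ * g) • ((0 : K), (((s₁ * g)⁻¹ * (g * s * g⁻¹)) • ((0 : K), y)).2) := by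
    rw [eta0 e2, ← mul_smul (s₁ * g), mul_inv_cancel_left]
  have e4 := e3
  rw [hs', mul_smul, hγ', hγ', ht₁] at e4
  rw [e3, mul_smul, hγ', ht₁]
  have a1 := congrArg Prod.fst e4
  have a2 := congrArg Prod.snd e4
  simp only [Prod.fst_add, Prod.snd_add, zero_add] at a1 a2
  rw [a1] at a2
  generalize φ _ = x at a2 ⊢
  have a3 : x = r * y := by
    field_simp at a2
    linear_combination -a2
  rw [a3]
  refine Prod.ext rfl ?_
  field_simp
  ring

theorem Quad.torus {P : Sylow p Γ} (h : Quad K (P : Subgroup Γ)) {g : Γ} {y₀ : K}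
    (hg : (g • ((0 : K), y₀)).1 ≠ 0) (N : Subgroup Γ) [hN : N.Normal]
    (hPN : (P : Subgroup Γ) ≤ N) :
    ∃ γ : K →+ K, ∀ c : K, c ≠ 0 → ∃ a ∈ N,
      ∀ x y, a • (x, y + γ x) = (x / c, c * y + γ (x / c)) := by
  obtain ⟨γ, -, h2⟩ := h.opp hg
  have key : ∀ t : K, t ≠ 0 → ∃ w ∈ N,
      ∀ x y, w • (x, y + γ x) = (-y / t, t * x + γ (-y / t)) := by
    intro t ht
    obtain ⟨s, hs, e⟩ := h2 (-t⁻¹)
    obtain ⟨s₁, hs₁, e₁⟩ := h.surj t
    have hm : g * s * g⁻¹ ∈ N := hN.conj_mem _ (hPN hs) g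
    refine ⟨(g * s * g⁻¹) * s₁ * (g * s * g⁻¹), N.mul_mem (N.mul_mem hm (hPN hs₁)) hm,
      fun x y => ?_⟩
    rw [mul_smul, mul_smul _ s₁, e, e₁]
    have : y + γ (x + -t⁻¹ * y) + t * (x + -t⁻¹ * y) = t * x + γ (x + -t⁻¹ * y) := by
      field_simp; ring
    rw [this, e]
    have : x + -t⁻¹ * y + -t⁻¹ * (t * x) = -y / t := by field_simp; ring
    rw [this]
  refine ⟨γ, fun c hc => ?_⟩
  obtain ⟨w, hw, e⟩ := key c hc
  obtain ⟨w₁, hw₁, e₁⟩ := key (-1) (by simp)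
  refine ⟨w * w₁, N.mul_mem hw hw₁, fun x y => ?_⟩
  rw [mul_smul, e₁, e]
  simp

end Quad

end Cfsg.Agent.H4.Sp
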