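import Cfsg.Agent.H7.Heis
import Cfsg.Agent.L.Transport2
import Cfsg.Agent.L.Model

/-! General lemmas on fusion systems used for a Sylow subgroup of `Sp₄(q)`. -/

set_option autoImplicit false
set_option linter.unusedSectionVars false
set_option linter.style.haveILetI false

open Equiv
open scoped commutatorElement

namespace Cfsg.Agent.H4.Sp

open Cfsg.Fus Cfsg.FusionSystem

universe u

variable {Ω : Type u} [Group Ω] {S : Subgroup Ω} [Finite S] {F : FusionSystem S}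
  {E : Subgroup Ω} {σ : Perm Ω} {p : ℕ} [hp : Fact p.Prime]

theorem exists_setup (h : F.IsFullyAutomized p E) {V : Type*} [AddCommGroup V] (π : Ω → V)
    (hπ : ∀ x ∈ E, ∀ y ∈ E, π (x * y) = π x + π y) (hs : ∀ v, ∃ x ∈ E, π x = v)
    (hk : ∀ τ, F.Iso E E τ → ∀ x ∈ E, π x = 0 → π (τ x) = 0) :
    ∃ (Γ : Type u) (_ : Group Γ) (_ : Finite Γ) (_ : DistribMulAction Γ V) (P : Sylow p Γ)
      (ρ : Γ →* Perm Ω), (∀ a, F.Iso E E (ρ a)) ∧
      (∀ τ, F.Iso E E τ → ∃ a, ∀ x ∈ E, ρ a x = τ x) ∧ (∀ a, ρ a ∈ fixP E → a = 1) ∧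
      (∀ a, a ∈ (P : Subgroup Γ) ↔ ρ a ∈ innS S E) ∧ ∀ a, ∀ x ∈ E, a • π x = π (ρ a x) := by
  have hE := h.le
  haveI := finite_of_le hE
  obtain ⟨P, hP⟩ := h.2
  choose sec hsec hsec' using hs
  let ρ : F.autGroup E →* Perm Ω := (extAut E).comp (F.autGroup E).subtype
  have hρ : ∀ a, F.Iso E E (ρ a) := fun a => (mem_autGroup_iff hE).1 a.2
  have h1 : π 1 = 0 := by simpa using hπ 1 E.one_mem 1 E.one_mem
  have key : ∀ a, ∀ x ∈ E, π (ρ a (sec (π x))) = π (ρ a x) := fun a x hx => by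
    have m := E.mul_mem (E.inv_mem (hsec (π x))) hx
    have e0 : π (sec (π x))⁻¹ + π (sec (π x)) = 0 := by
      rw [← hπ _ (E.inv_mem (hsec _)) _ (hsec _), inv_mul_cancel, h1]
    have e1 := hk _ (hρ a) _ m (by rw [hπ _ (E.inv_mem (hsec _)) _ hx, ← e0, hsec'])
    have e2 : x = sec (π x) * ((sec (π x))⁻¹ * x) := by simp
    conv_rhs => rw [e2, (hρ a).homOn (hsec _) m, hπ _ ((hρ a).mem (hsec _)) _ ((hρ a).mem m), e1,
      add_zero]
  letI : DistribMulAction (F.autGroup E) V :=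
    { smul := fun a v => π (ρ a (sec v))
      one_smul := fun v => by
        change π (ρ 1 (sec v)) = v
        rw [map_one, Perm.one_apply, hsec']
      mul_smul := fun a b v => by
        change π (ρ (a * b) (sec v)) = π (ρ a (sec (π (ρ b (sec v)))))
        rw [key a _ ((hρ b).mem (hsec v)), map_mul, Perm.mul_apply]
      smul_zero := fun a => hk _ (hρ a) _ (hsec 0) (hsec' 0)
      smul_add := fun a v w => by
        change π (ρ a (sec (v + w))) = π (ρ a (sec v)) + π (ρ a (sec w))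
        rw [← hπ _ ((hρ a).mem (hsec v)) _ ((hρ a).mem (hsec w)), ← (hρ a).homOn (hsec v) (hsec w),
          ← key a _ (E.mul_mem (hsec v) (hsec w)), hπ _ (hsec v) _ (hsec w), hsec', hsec'] }
  refine ⟨F.autGroup E, inferInstance, inferInstance, inferInstance, P, ρ, hρ,
    fun τ hτ => ⟨⟨_, hτ.resAut_mem⟩, fun x hx => extAut_resAut hτ.mem_autStab hx⟩,
    fun a ha => Subtype.ext (extAut_mem_fixP.1 ha), fun a => ?_, key⟩
  rw [hP, Subgroup.mem_subgroupOf]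
  exact extAut_mem_liftAut.symm

theorem mem_innS_of_chain (h : F.IsFullyAutomized p E) (hS : IsPGroup p S) {C : ℕ → Subgroup Ω}
    {n : ℕ} (hC : ∀ i ≤ n, C i ≤ E) (hm : ∀ i < n, C i ≤ C (i + 1)) (h0 : C 0 = ⊥) (hn : C n = E)
    (hI : ∀ g ∈ S, g ∈ Subgroup.normalizer (E : Set Ω) → ∀ i < n, ∀ x ∈ C (i + 1),
      x⁻¹ * (g * x * g⁻¹) ∈ C i) (hσ : F.Iso E E σ)
    (h1 : ∀ i < n, ∀ x ∈ C (i + 1), x⁻¹ * σ x ∈ C i) : σ ∈ innS S E := by
  have key : ∀ τ, F.Iso E E τ → (∀ i < n, ∀ x ∈ C (i + 1), x⁻¹ * τ x ∈ C i) →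
      τ ∈ F.stab E ⊓ ⨅ i : Fin n, trivOn (C i) (C (i + 1)) := fun τ hτ h2 => by
    refine ⟨hτ.mem_stab, Subgroup.mem_iInf.2 fun i => ?_⟩
    haveI := finite_of_le ((hC _ i.2).trans h.le)
    refine mem_trivOn.2 ⟨⟨hτ.homOn.mono (hC _ i.2), mem_setStab_of_finite fun x hx => ?_⟩,
      h2 i i.2⟩
    simpa using (C (i + 1)).mul_mem hx (hm _ i.2 (h2 i i.2 x hx))
  refine (h.le_innS (A := F.stab E ⊓ ⨅ i : Fin n, trivOn (C i) (C (i + 1))) (fun u hu => ?_)
    inf_le_left fun τ hτ => ?_).le (key σ hσ h1)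
  · obtain ⟨g, a, b, c⟩ := mem_innS.1 hu
    refine key u ((mem_stab h.le).1 (F.innS_le_stab h.le hu)) fun i hi x hx => ?_
    rw [c x (hC _ hi hx)]
    exact hI g a b i hi x hx
  · rw [← hn]
    exact exists_pow_mem_fixP_of_chain hS (fun i hi => (hC i hi).trans h.le)
      ⟨0, by rw [h0, pow_zero, pow_one]; exact fixP_bot_of_homOn ((mem_stab h.le).1 hτ.1).homOn⟩
      fun i hi => Subgroup.mem_iInf.1 hτ.2 ⟨i, hi⟩

theorem isConstrained_of_comm (hF : F.IsSaturated p) (hS : IsPGroup p S) {x : Ω} (hx : x ∈ F.core)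
    (h : ∀ a ∈ S, ∀ b ∈ S, x * a = a * x → x * b = b * x → a * b = b * a) : F.IsConstrained p := by
  have hQ := F.isNormal_core9
  refine ⟨hF, _, hQ, hQ.stronglyClosed.weaklyClosed.isCentric ?_⟩
  refine (hQ.stronglyClosed_centralizerIn.isNormal_of_comm hF hS ?_).le_core
  rw [Subgroup.commutator_eq_bot_iff_le_centralizer]
  intro a ha
  exact Subgroup.mem_centralizer_iff.2 fun b hb => h b hb.1 a ha.1
    (Subgroup.mem_centralizer_iff.1 hb.2 x hx) (Subgroup.mem_centralizer_iff.1 ha.2 x hx)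

theorem isRealizable_of_constrained (hS : IsPGroup p S) (h : F.IsConstrained p) :
    F.IsRealizable p := by
  obtain ⟨G, _, ι, h⟩ := L.exists_model hS h
  exact ⟨G, _, h.1, ι, h.2.1, h.2.2.1⟩

theorem essential_img (h : F.IsEssential p E) (hσ : F.Iso S S σ) : F.IsEssential p (img σ E) := by
  have t : L.Transp S S σ ⇑σ⁻¹ F F :=
    ⟨⟨hσ.homOn, fun _ hx => hσ.mem hx, fun _ hx => hσ.inv_mem hx, fun x _ => by simp,
      fun x _ => by simp⟩, le_rfl, hσ.img_eq, fun P f hf =>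
      (((hσ.restrict hf.le).symm.isMap).comp hf fun _ hx => (hσ.restrict hf.le).inv_mem hx).comp
        hσ.isMap fun _ hx => hf.mem ((hσ.restrict hf.le).inv_mem hx), fun P f hf =>
      ((by simpa using (hσ.symm.restrict hf.le).symm.isMap : F.IsMap (img (⇑σ⁻¹) P) σ).comp hf
        fun _ hx => by simpa using (hσ.symm.restrict hf.le).inv_mem hx).comp
        hσ.symm.isMap fun _ hx => hf.mem (by simpa using (hσ.symm.restrict hf.le).inv_mem hx)⟩
  exact t.isEssential h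

theorem exists_ext_top (h : F.IsReceptive E) (hn : S ≤ Subgroup.normalizer (E : Set Ω))
    (hσ : F.Iso E E σ) (hc : ∀ g ∈ S, σ * cj g * σ⁻¹ ∈ innS S E) :
    ∃ α, F.Iso S S α ∧ ∀ x ∈ E, α x = σ x := by
  obtain ⟨α, h1, h2⟩ := h.exists_ext_of_le hσ (T := S) (le_inf le_rfl hn) hc
  rw [sup_eq_right.2 h.le] at h1
  exact ⟨α, h1.iso_self fun _ hx => h1.mem hx, h2⟩

theorem exists_sq (hF : F.IsSaturated 2) (hS : IsPGroup 2 S) (hσ : F.Iso S S σ) :
    ∃ β, F.Iso S S β ∧ ∃ g ∈ S, ∀ x ∈ S, σ x = g * β (β x) * g⁻¹ := by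
  have ho : 0 < orderOf (resAut S σ) := orderOf_pos _
  obtain ⟨k, m, hm, e⟩ := Nat.exists_eq_two_pow_mul_odd ho.ne'
  have h1 : (σ ^ m) ^ 2 ^ k ∈ fixP S := by
    rw [← pow_mul, mul_comm, ← e, ← resAut_eq_one_iff ((autStab S).pow_mem hσ.mem_autStab _),
      (homOn_resAut S).map_pow hσ.mem_autStab, pow_orderOf_eq_one]
  obtain ⟨χ, c1, c2⟩ := (hF.isFullyAutomized_top hS).exists_conj_elt (hσ.pow m) h1
  obtain ⟨g, hg, c3⟩ := mem_innS_self.1 ((conj_mem_innS_self_iff c1.mem_autStab).1 c2)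
  obtain ⟨l, rfl⟩ := hm
  refine ⟨σ ^ (l + 1), hσ.pow _, g⁻¹, S.inv_mem hg, fun x hx => ?_⟩
  rw [← Perm.mul_apply, ← pow_add, show l + 1 + (l + 1) = 2 * l + 1 + 1 by ring, pow_succ _ (_ + 1),
    Perm.mul_apply, c3 _ (hσ.mem hx)]
  group

end Cfsg.Agent.H4.Sp
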