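import Mathlib

/-! The average size of fixed point subgroups of a solvable group on an irreducible module. -/

set_option autoImplicit false
set_option maxHeartbeats 400000
set_option linter.unusedSectionVars false
set_option linter.style.haveILetI false

namespace Cfsg.Agent.H4

open Subgroup

universe u

/-- The fixed points of an endomorphism. -/
def fixS {V : Type*} [AddCommGroup V] (f : Module.End ℤ V) : Submodule ℤ V := LinearMap.ker (f - 1)

theorem mem_fixS {V : Type*} [AddCommGroup V] {f : Module.End ℤ V} {v : V} :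
    v ∈ fixS f ↔ f v = v := by
  simp [fixS, sub_eq_zero]

theorem eq_zero_of_coprime_smul {V : Type*} [AddCommGroup V] {n : ℕ} (h : n.Coprime (Nat.card V))
    {v : V} (hv : n • v = 0) : v = 0 := by
  have h1 := addOrderOf_dvd_of_nsmul_eq_zero hv
  have h2 := addOrderOf_dvd_natCard v
  exact AddMonoid.addOrderOf_eq_one_iff.1 (Nat.eq_one_of_dvd_coprimes h h1 h2)

theorem card_mul_le_of_disjoint {V : Type*} [AddCommGroup V] [Finite V] {U W : Submodule ℤ V}
    (h : ∀ v ∈ U, v ∈ W → v = 0) : Nat.card U * Nat.card W ≤ Nat.card V := by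
  rw [← Nat.card_prod]
  refine Nat.card_le_card_of_injective (fun x : U × W => (x.1 : V) + x.2) fun x y e => ?_
  have h1 : (x.1 : V) - y.1 = y.2 - x.2 := by
    simp only at e
    rw [sub_eq_sub_iff_add_eq_add, e, add_comm]
  have h2 := h _ (sub_mem x.1.2 y.1.2) (h1 ▸ sub_mem y.2.2 x.2.2)
  exact Prod.ext (Subtype.ext (sub_eq_zero.1 h2)) (Subtype.ext (sub_eq_zero.1 (h1 ▸ h2)).symm)

theorem card_fixS_le {V : Type*} [AddCommGroup V] [Finite V] (f : Module.End ℤ V)
    (U : Submodule ℤ V) (h : U ≤ U.comap f) :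
    Nat.card (fixS f) ≤ Nat.card (fixS (f.restrict h)) * Nat.card (fixS (U.mapQ U f h)) := by
  let φ : fixS f →ₗ[ℤ] fixS (U.mapQ U f h) :=
    (U.mkQ.comp (fixS f).subtype).codRestrict _ fun v => by
      rw [mem_fixS]
      simp [mem_fixS.1 v.2]
  haveI : Finite (V ⧸ U) := Finite.of_surjective _ U.mkQ_surjective
  rw [Submodule.card_eq_card_quotient_mul_card (LinearMap.ker φ)]
  refine Nat.mul_le_mul ?_ ?_
  · refine Nat.card_le_card_of_injective (fun v => ⟨⟨v.1.1, ?_⟩, ?_⟩) fun x y e => ?_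
    · exact (Submodule.Quotient.mk_eq_zero U).1 (congrArg Subtype.val (LinearMap.mem_ker.1 v.2))
    · rw [mem_fixS]
      exact Subtype.ext (mem_fixS.1 v.1.2)
    · simp only [Subtype.mk.injEq] at e
      exact Subtype.ext (Subtype.ext e)
  · rw [Nat.card_congr φ.quotKerEquivRange.toEquiv]
    exact Nat.card_le_card_of_injective _ Subtype.val_injective

theorem prod_fix_sq_le {A : Type*} [Group A] (N : Subgroup A) [hN : N.Normal] [Fintype N]
    (hc : ∀ a ∈ N, ∀ b ∈ N, a * b = b * a) (x : A) (hA : ∀ a : A, ∃ n ∈ N, ∃ i : ℕ, a = n * x ^ i)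
    (m : ℕ) : ∀ (V : Type u) [AddCommGroup V] [Finite V] (ρ : Representation ℤ A V),
      Nat.card V = m → (Nat.card N).Coprime (Nat.card V) → (∀ v, (∀ n ∈ N, ρ n v = v) → v = 0) →
      ∏ n : N, Nat.card (fixS (ρ (x * n))) ^ 2 ≤ Nat.card V ^ Nat.card N := by
  induction m using Nat.strong_induction_on with
  | _ m ih =>
  intro V _ _ ρ hm hcop hfix
  classical
  have hmul : ∀ a b v, ρ a (ρ b v) = ρ (a * b) v := fun a b v => by rw [map_mul]; rfl
  by_cases hirr : ∃ U : Submodule ℤ V, U ≠ ⊥ ∧ U ≠ ⊤ ∧ ∀ g, U ≤ U.comap (ρ g)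
  · obtain ⟨U, h1, h2, hU⟩ := hirr
    haveI : Finite (V ⧸ U) := Finite.of_surjective _ U.mkQ_surjective
    have hcard := Submodule.card_eq_card_quotient_mul_card U
    have hU1 : 1 < Nat.card U := Finite.one_lt_card_iff_nontrivial.2
      (Submodule.nontrivial_iff_ne_bot.2 h1)
    have hQ1 : 1 < Nat.card (V ⧸ U) := Finite.one_lt_card_iff_nontrivial.2
      (Submodule.Quotient.nontrivial_iff.2 h2)
    have k1 := ih (Nat.card U) (by rw [← hm, hcard]; nlinarith) U (ρ.subrepresentation U hU) rfl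
      (hcop.coprime_dvd_right ⟨_, hcard⟩) fun v hv =>
        Subtype.ext (hfix v fun n hn => congrArg Subtype.val (hv n hn))
    have hcq := hcop.coprime_dvd_right ⟨_, hcard.trans (mul_comm _ _)⟩
    have k2 := ih (Nat.card (V ⧸ U)) (by rw [← hm, hcard]; nlinarith) (V ⧸ U) (ρ.quotient U hU) rfl
      hcq fun v hv => by
        obtain ⟨v, rfl⟩ := U.mkQ_surjective v
        have h3 : ∑ n : N, ρ n v = 0 := hfix _ fun a ha => by
          rw [map_sum]
          exact Fintype.sum_equiv (Equiv.mulLeft ⟨a, ha⟩) _ _ fun n => hmul _ _ _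
        refine eq_zero_of_coprime_smul hcq ?_
        have h4 := congrArg U.mkQ h3
        rw [map_sum, map_zero, Finset.sum_congr rfl fun (n : N) _ =>
          show U.mkQ (ρ n v) = U.mkQ v from hv n n.2] at h4
        simpa using h4
    calc ∏ n : N, Nat.card (fixS (ρ (x * n))) ^ 2
        ≤ ∏ n : N, Nat.card (fixS (ρ.subrepresentation U hU (x * n))) ^ 2 *
          Nat.card (fixS (ρ.quotient U hU (x * n))) ^ 2 := by
          refine Finset.prod_le_prod' fun n _ => ?_
          rw [← mul_pow]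
          exact Nat.pow_le_pow_left (card_fixS_le _ U (hU _)) 2
      _ ≤ _ := by
          rw [Finset.prod_mul_distrib, hcard, mul_pow]
          exact Nat.mul_le_mul k1 k2
  have hirr' : ∀ U : Submodule ℤ V, (∀ g, U ≤ U.comap (ρ g)) → U = ⊥ ∨ U = ⊤ := fun U hU => by
    by_contra h
    exact hirr ⟨U, fun e => h (Or.inl e), fun e => h (Or.inr e), hU⟩
  suffices h : ∃ σ : N ≃ N, ∀ n : N,
      Nat.card (fixS (ρ (x * n))) * Nat.card (fixS (ρ (x * σ n))) ≤ Nat.card V by
    obtain ⟨σ, hσ⟩ := h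
    calc ∏ n : N, Nat.card (fixS (ρ (x * n))) ^ 2
        = ∏ n : N, Nat.card (fixS (ρ (x * n))) * Nat.card (fixS (ρ (x * σ n))) := by
          rw [Finset.prod_mul_distrib, Equiv.prod_comp σ fun n => Nat.card (fixS (ρ (x * n))),
            ← Finset.prod_mul_distrib]
          simp only [sq]
      _ ≤ ∏ _n : N, Nat.card V := Finset.prod_le_prod' fun n _ => hσ n
      _ = _ := by simp
  rcases subsingleton_or_nontrivial V with hV | hV
  · refine ⟨Equiv.refl _, fun n => card_mul_le_of_disjoint fun v _ _ => Subsingleton.elim _ _⟩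
  obtain ⟨H, -, ⟨w, hw0, hw⟩, hmax⟩ :=
    Finite.exists_le_maximal (p := fun H : Subgroup N => ∃ w : V, w ≠ 0 ∧
      ∀ h ∈ H, ρ (h : N) w = w) (a := ⊥) (by
        obtain ⟨w, hw⟩ := exists_ne (0 : V)
        exact ⟨w, hw, fun h hh => by rw [mem_bot.1 hh]; simp⟩)
  let W : Submodule ℤ V :=
    { carrier := {v | ∀ h ∈ H, ρ (h : N) v = v}
      zero_mem' := fun h _ => map_zero _
      add_mem' := fun ha hb h hh => by rw [map_add, ha h hh, hb h hh]
      smul_mem' := fun c v hv h hh => by rw [map_smul, hv h hh] }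
  have hWN : ∀ n ∈ N, ∀ v ∈ W, ρ n v ∈ W := fun n hn v hv h hh => by
    rw [hmul, hc _ h.2 _ hn, ← hmul, hv h hh]
  have hkey : ∀ v ∈ W, ∀ n : N, n ∉ H → ρ n v = v → v = 0 := by
    intro v hv n hn e
    by_contra h0
    let H' : Subgroup N :=
      { carrier := {h | ρ h v = v}
        one_mem' := by simp
        mul_mem' := fun {a b} ha hb => by
          change ρ (a * b) v = v
          rw [← hmul, hb, ha]
        inv_mem' := fun {a} ha => by
          change ρ (a : A)⁻¹ v = v
          nth_rw 1 [← show ρ a v = v from ha]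
          rw [hmul, inv_mul_cancel, map_one]; rfl }
    exact hn (hmax ⟨v, h0, fun h hh => hh⟩ (show H ≤ H' from fun h hh => hv h hh) e)
  by_cases hx : ∀ h ∈ H, (⟨x⁻¹ * h * x, by simpa using hN.conj_mem _ h.2 x⁻¹⟩ : N) ∈ H
  · have hWx : ∀ v ∈ W, ρ x v ∈ W := fun v hv h hh => by
      have := hv _ (hx h hh)
      nth_rw 2 [← this]
      rw [hmul, hmul]
      congr 2
      simp [mul_assoc]
    have hW : W = ⊤ := (hirr' W fun g v hv => by
      obtain ⟨n, hn, i, rfl⟩ := hA g
      rw [Submodule.mem_comap, ← hmul]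
      refine hWN n hn _ ?_
      induction i with
      | zero => simpa using hv
      | succ i ih => rw [pow_succ', ← hmul]; exact hWx _ ih).resolve_left fun e =>
        hw0 (by have : w ∈ W := hw; rwa [e, Submodule.mem_bot] at this)
    obtain ⟨n₀, hn₀⟩ : ∃ n₀ : N, n₀ ∉ H := by
      by_contra h
      push Not at h
      exact hw0 (hfix w fun n hn => hw ⟨n, hn⟩ (h _))
    refine ⟨Equiv.mulRight n₀, fun n => card_mul_le_of_disjoint fun v h1 h2 =>
      hkey v (hW ▸ trivial) n₀ hn₀ ?_⟩
    rw [mem_fixS] at h1 h2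
    have h3 : ρ (x * n) (ρ n₀ v) = ρ (x * n) v := by
      rw [h1, hmul, mul_assoc]; exact h2
    have := congrArg (ρ (x * n)⁻¹) h3
    simpa only [hmul, inv_mul_cancel_left, inv_mul_cancel, map_one, Module.End.one_apply] using this
  · push Not at hx
    obtain ⟨h₀, hh₀, hx⟩ := hx
    let e : V →ₗ[ℤ] V := ∑ h : H, ρ (h : N)
    have he : ∀ v, e v = ∑ h : H, ρ (h : N) v := fun v => by simp [e]
    have heW : ∀ v, e v ∈ W := fun v a ha => by
      rw [he, map_sum]
      exact Fintype.sum_equiv (Equiv.mulLeft ⟨a, ha⟩) _ _ fun n => hmul _ _ _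
    let Z : Submodule ℤ V := ⨅ a : A, LinearMap.ker (e.comp (ρ a))
    have hZ : Z = ⊥ := (hirr' Z fun g v hv => by
      simp only [Z, Submodule.mem_comap, Submodule.mem_iInf, LinearMap.mem_ker,
        LinearMap.comp_apply, hmul] at hv ⊢
      exact fun a => hv _).resolve_right fun h => by
        have h1 : w ∈ Z := h ▸ trivial
        simp only [Z, Submodule.mem_iInf, LinearMap.mem_ker, LinearMap.comp_apply] at h1
        have h2 := h1 1
        rw [map_one, Module.End.one_apply, he, Finset.sum_congr rfl fun (h : H) _ => hw h h.2] at h2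
        refine hw0 (eq_zero_of_coprime_smul (hcop.coprime_dvd_left H.card_subgroup_dvd_card) ?_)
        simpa using h2
    have hle : ∀ n : N, Nat.card (fixS (ρ (x * n))) ≤ Nat.card W := by
      intro n
      refine Nat.card_le_card_of_injective ((e.comp (fixS _).subtype).codRestrict W fun v => heW v)
        ((injective_iff_map_eq_zero _).2 fun v hv => Subtype.ext ?_)
      have h1 : e v = 0 := congrArg Subtype.val hv
      have h2 := mem_fixS.1 v.2
      have h3 : ∀ i : ℕ, ∃ n' ∈ N, ρ (x ^ i) v = ρ n' v := by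
        intro i
        induction i with
        | zero => exact ⟨1, one_mem _, by simp⟩
        | succ i ih =>
          obtain ⟨n', hn', e⟩ := ih
          refine ⟨x * (n' * (n : A)⁻¹) * x⁻¹, hN.conj_mem _ (mul_mem hn' (inv_mem n.2)) x, ?_⟩
          rw [pow_succ', ← hmul, e]
          nth_rw 2 [← h2]
          rw [hmul, hmul]
          congr 2
          group
      have h4 : ∀ n' ∈ N, e (ρ n' v) = 0 := fun n' hn' => by
        rw [he, Finset.sum_congr rfl fun (h : H) _ => show ρ (h : N) (ρ n' v) = ρ n' (ρ (h : N) v) by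
          rw [hmul, hmul, hc _ (h : N).2 _ hn'], ← map_sum, ← he, h1, map_zero]
      rw [ZeroMemClass.coe_zero, ← Submodule.mem_bot ℤ, ← hZ]
      simp only [Z, Submodule.mem_iInf, LinearMap.mem_ker, LinearMap.comp_apply]
      intro a
      obtain ⟨n₁, hn₁, i, rfl⟩ := hA a
      obtain ⟨n', hn', e'⟩ := h3 i
      rw [← hmul, e', hmul]
      exact h4 _ (mul_mem hn₁ hn')
    have hinj : Function.Injective (ρ x) := fun a b e => by
      have := congrArg (ρ x⁻¹) e
      simpa only [hmul, inv_mul_cancel, map_one, Module.End.one_apply] using this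
    have hWW : Nat.card W * Nat.card (W.map (ρ x)) ≤ Nat.card V := by
      refine card_mul_le_of_disjoint ?_
      rintro _ h1 ⟨v, hv, rfl⟩
      rw [hkey v hv _ hx (hinj ?_), map_zero]
      rw [hmul, ← h1 h₀ hh₀, hmul]
      congr 2
      simp [mul_assoc]
    rw [← Nat.card_congr (Submodule.equivMapOfInjective _ hinj W).toEquiv] at hWW
    exact ⟨Equiv.refl _, fun n => (Nat.mul_le_mul (hle n) (hle n)).trans hWW⟩

end Cfsg.Agent.H4
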