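import Cfsg.Agent.H4.FixAvg
import Cfsg.Agent.H1.SchurZ

/-! The average size of fixed point subgroups of a solvable group on an irreducible module. -/

set_option autoImplicit false
set_option maxHeartbeats 400000
set_option linter.unusedSectionVars false
set_option linter.style.haveILetI false

namespace Cfsg.Agent.H4

open Subgroup

section
variable {G : Type*} [Group G] {V : Type*} [AddCommGroup V]

/-- The representation has no proper nonzero invariant submodule. -/
def IrrZ (ρ : Representation ℤ G V) : Prop :=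
  ∀ U : Submodule ℤ V, (∀ g, U ≤ U.comap (ρ g)) → U = ⊥ ∨ U = ⊤

theorem IrrZ.fix_normal {ρ : Representation ℤ G V} (h : IrrZ ρ) (M : Subgroup G) [hM : M.Normal] :
    (∀ v, (∀ n ∈ M, ρ n v = v) → v = 0) ∨ ∀ n ∈ M, ρ n = 1 := by
  let W : Submodule ℤ V :=
    { carrier := {v | ∀ n ∈ M, ρ n v = v}
      add_mem' := fun ha hb n hn => by rw [map_add, ha n hn, hb n hn]
      zero_mem' := fun n _ => map_zero _
      smul_mem' := fun c v hv n hn => by rw [map_smul, hv n hn] }
  rcases h W (fun g v hv n hn => by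
    have := hv _ (hM.conj_mem' n hn g)
    rw [← Module.End.mul_apply, ← map_mul, show n * g = g * (g⁻¹ * n * g) by group, map_mul,
      Module.End.mul_apply, this]) with h | h
  · exact Or.inl fun v hv => by have : v ∈ W := hv; rwa [h, Submodule.mem_bot] at this
  · exact Or.inr fun n hn => LinearMap.ext fun v => (show v ∈ W from h ▸ Submodule.mem_top) n hn

theorem IrrZ.eq_one_of_pow [Finite V] {ρ : Representation ℤ G V} (h : IrrZ ρ) {p k : ℕ}
    [Fact p.Prime] (hV : Nat.card V = p ^ k) (M : Subgroup G) [hM : M.Normal]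
    (hp : ∀ m ∈ M, ∃ j : ℕ, ρ (m ^ p ^ j) = 1) : ∀ m ∈ M, ρ m = 1 := by
  rcases subsingleton_or_nontrivial V with hV1 | hV1
  · exact fun m _ => Subsingleton.elim _ _
  refine (h.fix_normal M).resolve_left fun h0 => ?_
  let P := M.map ρ.asGroupHom
  have hP : IsPGroup p P := by
    rintro ⟨_, m, hm, rfl⟩
    obtain ⟨j, hj⟩ := hp m hm
    refine ⟨j, Subtype.ext (Units.ext ?_)⟩
    rw [SubgroupClass.coe_pow, ← map_pow, Representation.asGroupHom_apply, hj]
    rfl
  have hd : p ∣ Nat.card V := by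
    rw [hV]
    refine dvd_pow_self p fun e => ?_
    rw [e, pow_zero] at hV
    exact (Finite.one_lt_card (α := V)).ne' hV
  obtain ⟨b, hb, hb0⟩ := hP.exists_fixed_point_of_prime_dvd_card_of_fixed_point V hd (a := 0)
    (fun g => smul_zero g)
  exact hb0 (h0 b fun n hn => hb ⟨_, n, hn, rfl⟩).symm

theorem prod_comp_hom {H M : Type*} [Group H] [Fintype G] [Fintype H] [CommMonoid M] (f : G →* H)
    (hf : Function.Surjective f) (F : H → M) :
    ∏ g, F (f g) = ∏ h, F h ^ Nat.card f.ker := by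
  classical
  rw [← Finset.prod_fiberwise Finset.univ f]
  refine Finset.prod_congr rfl fun h _ => ?_
  rw [Finset.prod_congr rfl fun g hg => by rw [(Finset.mem_filter.1 hg).2], Finset.prod_const,
    MonoidHom.card_fiber_eq_of_mem_range f (hf h) (hf 1), Nat.card_eq_fintype_card,
    Fintype.card_subtype]
  simp

theorem prod_fix_sq_le_faithful [Fintype G] [Finite V] (hs : Group.IsSolvable G) [Nontrivial G]
    {ρ : Representation ℤ G V} (h : IrrZ ρ) {p k : ℕ} [hp : Fact p.Prime] (hV : Nat.card V = p ^ k)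
    (hf : ∀ g, ρ g = 1 → g = 1) :
    ∏ g, Nat.card (fixS (ρ g)) ^ 2 ≤ Nat.card V ^ Nat.card G := by
  classical
  obtain ⟨N, hN, hN1, -, hmin⟩ := H1.exists_minimal_normal_le (N := (⊤ : Subgroup G)) inferInstance
    top_ne_bot
  obtain ⟨hc, q, hq, hNq⟩ := H1.elementary_of_minimal_normal inferInstance hN1 hmin
  have hnt : ¬ ∀ n ∈ N, ρ n = 1 := fun e => hN1 (eq_bot_iff.2 fun n hn => hf n (e n hn))
  have hqp : q ≠ p := by
    rintro rfl
    exact hnt (h.eq_one_of_pow hV N fun m hm => ⟨1, by rw [pow_one, hNq m hm, map_one]⟩)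
  have hcop : (Nat.card N).Coprime (Nat.card V) := by
    haveI := Fact.mk hq
    obtain ⟨j, hj⟩ := IsPGroup.iff_card.1 (show IsPGroup q N from fun n =>
      ⟨1, Subtype.ext (by simpa using hNq n n.2)⟩)
    rw [hj, hV]
    exact ((Nat.coprime_primes hq hp.out).2 hqp).pow _ _
  have h0 := (h.fix_normal N).resolve_right hnt
  have key : ∀ x : G, ∏ n : N, Nat.card (fixS (ρ (x * n))) ^ 2 ≤ Nat.card V ^ Nat.card N := by
    intro x
    let A := N ⊔ zpowers x
    have hNA : N ≤ A := le_sup_left
    have := prod_fix_sq_le (N.subgroupOf A) (fun a ha b hb => Subtype.ext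
      (setLike_mul_comm (s := N) ha hb)) ⟨x, mem_sup_right (mem_zpowers x)⟩ (fun a => by
        obtain ⟨n, hn, y, hy, e⟩ := mem_sup_of_normal_left.1 a.2
        obtain ⟨i, rfl⟩ := (mem_powers_iff_mem_zpowers).2 hy
        exact ⟨⟨n, hNA hn⟩, hn, i, Subtype.ext e.symm⟩) _ V (ρ.comp A.subtype) rfl
      (by rwa [Nat.card_congr (subgroupOfEquivOfLe hNA).toEquiv])
      fun v hv => h0 v fun n hn => hv ⟨n, hNA hn⟩ hn
    rw [Nat.card_congr (subgroupOfEquivOfLe hNA).toEquiv] at this
    refine le_of_eq_of_le ?_ this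
    exact (Fintype.prod_equiv (subgroupOfEquivOfLe hNA).toEquiv _ _ fun n => rfl).symm
  refine (Nat.pow_le_pow_iff_left (Nat.card_pos (α := N)).ne').1 ?_
  calc (∏ g, Nat.card (fixS (ρ g)) ^ 2) ^ Nat.card N
      = ∏ n : N, ∏ g, Nat.card (fixS (ρ (g * n))) ^ 2 := by
        rw [Finset.prod_congr rfl fun (n : N) _ => Fintype.prod_equiv (Equiv.mulRight (n : G))
          (fun g => Nat.card (fixS (ρ (g * n))) ^ 2) (fun g => Nat.card (fixS (ρ g)) ^ 2)
          fun _ => rfl]
        simp
    _ ≤ ∏ _g : G, Nat.card V ^ Nat.card N := by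
        rw [Finset.prod_comm]
        exact Finset.prod_le_prod' fun g _ => key g
    _ = _ := by simp [← pow_mul, mul_comm]

/-- The average dimension of the fixed point spaces of a solvable group on a nontrivial
irreducible module is at most half the dimension. -/
theorem prod_fix_sq_le_of_solvable [Fintype G] [Finite V] (hs : Group.IsSolvable G)
    {ρ : Representation ℤ G V} (h : IrrZ ρ) {p k : ℕ} [Fact p.Prime] (hV : Nat.card V = p ^ k)
    (hnt : ∃ g, ρ g ≠ 1) :
    ∏ g, Nat.card (fixS (ρ g)) ^ 2 ≤ Nat.card V ^ Nat.card G := by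
  classical
  let f := ρ.asGroupHom.rangeRestrict
  have hf : Function.Surjective f := ρ.asGroupHom.rangeRestrict_surjective
  haveI : Finite ρ.asGroupHom.range := Finite.of_surjective _ hf
  haveI := Fintype.ofFinite ρ.asGroupHom.range
  let σ : Representation ℤ ρ.asGroupHom.range V := (Units.coeHom _).comp (Subgroup.subtype _)
  have hσ : ∀ g, σ (f g) = ρ g := fun g => rfl
  haveI : Nontrivial ρ.asGroupHom.range := by
    obtain ⟨g, hg⟩ := hnt
    exact ⟨f g, 1, fun e => hg (by rw [← hσ, e, map_one])⟩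
  have h1 := prod_fix_sq_le_faithful (Group.isSolvable_of_surjective hf) (ρ := σ)
    (fun U hU => h U fun g => hU (f g)) hV fun g hg => Subtype.ext (Units.ext hg)
  have h2 : Nat.card G = Nat.card ρ.asGroupHom.range * Nat.card f.ker := by
    rw [← f.ker.index_mul_card, index_ker, MonoidHom.range_eq_top.2 hf, card_top]
  calc ∏ g, Nat.card (fixS (ρ g)) ^ 2 = ∏ g, Nat.card (fixS (σ (f g))) ^ 2 := rfl
    _ = _ := prod_comp_hom f hf fun g => Nat.card (fixS (σ g)) ^ 2
    _ ≤ _ := by
      rw [Finset.prod_pow, h2, pow_mul]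
      exact Nat.pow_le_pow_left h1 _

end

end Cfsg.Agent.H4
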