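import Cfsg.Agent.H4.TI
import Cfsg.Agent.H3.Basic

/-! Generalized characters of `GL(2,3)` in coordinates. -/

set_option autoImplicit false
set_option linter.unusedSectionVars false
set_option linter.style.haveILetI false

namespace Cfsg.Agent.H4.GL23

open Cfsg Cfsg.Agent.H3
open scoped ComplexConjugate

abbrev Q3 := ZMod 3 × ZMod 3 × ZMod 3 × ZMod 3
abbrev R2 := ℤ√(-2)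

def qmul {α : Type} [Mul α] [Add α] (x y : α × α × α × α) : α × α × α × α :=
  (x.1 * y.1 + x.2.1 * y.2.2.1, x.1 * y.2.1 + x.2.1 * y.2.2.2,
    x.2.2.1 * y.1 + x.2.2.2 * y.2.2.1, x.2.2.1 * y.2.1 + x.2.2.2 * y.2.2.2)

def qdet (x : Q3) : ZMod 3 := x.1 * x.2.2.2 - x.2.1 * x.2.2.1
def Qs : Finset Q3 := Finset.univ.filter (qdet · ≠ 0)
def qone : Q3 := (1, 0, 0, 1)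
def qneg : Q3 := (2, 0, 0, 2)

def tab : List (R2 × R2 × R2 × R2) :=
  [(⟨0,0⟩,⟨0,0⟩,⟨0,0⟩,⟨0,0⟩), (⟨0,0⟩,⟨0,0⟩,⟨0,0⟩,⟨0,0⟩), (⟨0,0⟩,⟨0,0⟩,⟨0,0⟩,⟨0,0⟩),
   (⟨0,0⟩,⟨0,0⟩,⟨0,0⟩,⟨0,0⟩), (⟨0,0⟩,⟨0,0⟩,⟨0,0⟩,⟨0,0⟩), (⟨0,0⟩,⟨0,0⟩,⟨0,0⟩,⟨0,0⟩),
   (⟨0,0⟩,⟨0,0⟩,⟨0,0⟩,⟨0,0⟩), (⟨0,0⟩,⟨0,0⟩,⟨0,0⟩,⟨0,0⟩), (⟨0,0⟩,⟨0,0⟩,⟨0,0⟩,⟨0,0⟩),
   (⟨0,0⟩,⟨0,0⟩,⟨0,0⟩,⟨0,0⟩), (⟨0,0⟩,⟨0,0⟩,⟨0,0⟩,⟨0,0⟩), (⟨0,0⟩,⟨0,0⟩,⟨0,0⟩,⟨0,0⟩),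
   (⟨-1,1⟩,⟨-2,0⟩,⟨-1,-1⟩,⟨1,-1⟩), (⟨1,0⟩,⟨1,0⟩,⟨0,1⟩,⟨-1,1⟩), (⟨0,-1⟩,⟨1,0⟩,⟨1,0⟩,⟨0,0⟩),
   (⟨1,-1⟩,⟨2,0⟩,⟨0,1⟩,⟨-1,1⟩), (⟨0,1⟩,⟨-1,0⟩,⟨-1,-1⟩,⟨1,-1⟩), (⟨-1,0⟩,⟨-1,0⟩,⟨1,0⟩,⟨0,0⟩),
   (⟨0,0⟩,⟨0,0⟩,⟨0,0⟩,⟨0,0⟩), (⟨0,0⟩,⟨0,0⟩,⟨0,0⟩,⟨0,0⟩), (⟨0,0⟩,⟨0,0⟩,⟨0,0⟩,⟨0,0⟩),
   (⟨-1,1⟩,⟨-2,0⟩,⟨0,-1⟩,⟨1,-1⟩), (⟨1,0⟩,⟨1,0⟩,⟨-1,0⟩,⟨0,0⟩), (⟨0,-1⟩,⟨1,0⟩,⟨1,1⟩,⟨-1,1⟩),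
   (⟨1,-1⟩,⟨2,0⟩,⟨1,1⟩,⟨-1,1⟩), (⟨0,1⟩,⟨-1,0⟩,⟨-1,0⟩,⟨0,0⟩), (⟨-1,0⟩,⟨-1,0⟩,⟨0,-1⟩,⟨1,-1⟩),
   (⟨0,0⟩,⟨0,0⟩,⟨0,0⟩,⟨0,0⟩), (⟨1,0⟩,⟨0,0⟩,⟨0,0⟩,⟨1,0⟩), (⟨-1,0⟩,⟨0,0⟩,⟨1,-1⟩,⟨1,0⟩),
   (⟨0,0⟩,⟨0,0⟩,⟨0,0⟩,⟨0,0⟩), (⟨-2,0⟩,⟨-1,-1⟩,⟨1,-1⟩,⟨1,0⟩), (⟨-1,0⟩,⟨-1,-1⟩,⟨0,0⟩,⟨1,0⟩),
   (⟨0,0⟩,⟨0,0⟩,⟨0,0⟩,⟨0,0⟩), (⟨1,0⟩,⟨1,1⟩,⟨-1,1⟩,⟨-2,0⟩), (⟨2,0⟩,⟨1,1⟩,⟨-1,1⟩,⟨-2,0⟩),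
   (⟨0,0⟩,⟨0,0⟩,⟨0,0⟩,⟨0,0⟩), (⟨-1,-1⟩,⟨1,-1⟩,⟨1,0⟩,⟨0,1⟩), (⟨1,1⟩,⟨-1,1⟩,⟨-2,0⟩,⟨-1,-1⟩),
   (⟨0,0⟩,⟨1,0⟩,⟨1,0⟩,⟨0,1⟩), (⟨0,0⟩,⟨0,0⟩,⟨0,0⟩,⟨0,0⟩), (⟨1,1⟩,⟨0,1⟩,⟨-2,0⟩,⟨-1,-1⟩),
   (⟨0,0⟩,⟨-1,0⟩,⟨1,0⟩,⟨1,0⟩), (⟨-1,-1⟩,⟨0,-1⟩,⟨1,0⟩,⟨1,0⟩), (⟨0,0⟩,⟨0,0⟩,⟨0,0⟩,⟨0,0⟩),
   (⟨0,0⟩,⟨0,0⟩,⟨0,0⟩,⟨0,0⟩), (⟨0,1⟩,⟨-1,1⟩,⟨-1,0⟩,⟨-1,-1⟩), (⟨0,-1⟩,⟨1,-1⟩,⟨1,1⟩,⟨0,1⟩),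
   (⟨1,-1⟩,⟨1,0⟩,⟨1,1⟩,⟨0,1⟩), (⟨1,0⟩,⟨0,1⟩,⟨-1,0⟩,⟨-1,-1⟩), (⟨0,0⟩,⟨0,0⟩,⟨0,0⟩,⟨0,0⟩),
   (⟨-1,1⟩,⟨-1,0⟩,⟨0,-1⟩,⟨1,0⟩), (⟨0,0⟩,⟨0,0⟩,⟨0,0⟩,⟨0,0⟩), (⟨-1,0⟩,⟨0,-1⟩,⟨0,-1⟩,⟨1,0⟩),
   (⟨0,0⟩,⟨0,0⟩,⟨0,0⟩,⟨0,0⟩), (⟨1,0⟩,⟨0,0⟩,⟨-1,1⟩,⟨-1,0⟩), (⟨-1,0⟩,⟨0,0⟩,⟨0,0⟩,⟨-1,0⟩),
   (⟨0,0⟩,⟨0,0⟩,⟨0,0⟩,⟨0,0⟩), (⟨-2,0⟩,⟨-1,-1⟩,⟨1,-1⟩,⟨2,0⟩), (⟨-1,0⟩,⟨-1,-1⟩,⟨1,-1⟩,⟨2,0⟩),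
   (⟨0,0⟩,⟨0,0⟩,⟨0,0⟩,⟨0,0⟩), (⟨1,0⟩,⟨1,1⟩,⟨0,0⟩,⟨-1,0⟩), (⟨2,0⟩,⟨1,1⟩,⟨-1,1⟩,⟨-1,0⟩),
   (⟨0,0⟩,⟨0,0⟩,⟨0,0⟩,⟨0,0⟩), (⟨0,1⟩,⟨-1,1⟩,⟨-1,-1⟩,⟨0,-1⟩), (⟨0,-1⟩,⟨1,-1⟩,⟨1,0⟩,⟨1,1⟩),
   (⟨1,-1⟩,⟨1,0⟩,⟨0,1⟩,⟨-1,0⟩), (⟨1,0⟩,⟨0,1⟩,⟨0,1⟩,⟨-1,0⟩), (⟨0,0⟩,⟨0,0⟩,⟨0,0⟩,⟨0,0⟩),
   (⟨-1,1⟩,⟨-1,0⟩,⟨-1,-1⟩,⟨0,-1⟩), (⟨0,0⟩,⟨0,0⟩,⟨0,0⟩,⟨0,0⟩), (⟨-1,0⟩,⟨0,-1⟩,⟨1,0⟩,⟨1,1⟩),
   (⟨0,0⟩,⟨0,0⟩,⟨0,0⟩,⟨0,0⟩), (⟨-1,-1⟩,⟨1,-1⟩,⟨2,0⟩,⟨1,1⟩), (⟨1,1⟩,⟨-1,1⟩,⟨-1,0⟩,⟨0,-1⟩),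
   (⟨0,0⟩,⟨1,0⟩,⟨-1,0⟩,⟨-1,0⟩), (⟨0,0⟩,⟨0,0⟩,⟨0,0⟩,⟨0,0⟩), (⟨1,1⟩,⟨0,1⟩,⟨-1,0⟩,⟨-1,0⟩),
   (⟨0,0⟩,⟨-1,0⟩,⟨-1,0⟩,⟨0,-1⟩), (⟨-1,-1⟩,⟨0,-1⟩,⟨2,0⟩,⟨1,1⟩), (⟨0,0⟩,⟨0,0⟩,⟨0,0⟩,⟨0,0⟩)]

def rho (x : Q3) : R2 × R2 × R2 × R2 :=
  tab.getD (x.1.val + 3 * x.2.1.val + 9 * x.2.2.1.val + 27 * x.2.2.2.val) 0

def psi (x : Q3) : R2 := (rho x).1 + (rho x).2.2.2
def eps (x : Q3) : R2 := if qdet x = 1 then 1 else -1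
def f3 (x : Q3) : R2 := psi x * (eps x * psi x) - 1
def f4 (x : Q3) : R2 := psi x * f3 x - psi x
def f2 (x : Q3) : R2 := f3 x * f3 x - 1 - eps x * f3 x - f3 x

def th : Fin 5 → Q3 → R2 :=
  ![fun x => f2 x - psi x, fun x => f2 x - eps x * psi x, fun x => 1 + f3 x - f4 x,
    fun x => eps x + eps x * f3 x - f4 x, fun x => f2 x + f4 x - eps x * f3 x - f3 x]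

def gram : Fin 5 → Fin 5 → ℤ :=
  ![![2, 1, 0, 0, 1], ![1, 2, 0, 0, 1], ![0, 0, 3, 1, -2], ![0, 0, 1, 3, -2], ![1, 1, -2, -2, 4]]

def invs (k : Bool) : Finset Q3 :=
  Qs.filter fun q => q = qneg ∨ (k = true ∧ qmul q q = qone ∧ q ≠ qone)

theorem rho_mul : ∀ x ∈ Qs, ∀ y ∈ Qs, rho (qmul x y) = qmul (rho x) (rho y) := by decide +kernel
theorem rho_one : rho qone = (1, 0, 0, 1) := by decide +kernel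
theorem eps_mul : ∀ x ∈ Qs, ∀ y ∈ Qs, eps (qmul x y) = eps x * eps y := by decide +kernel
theorem card_Qs : Qs.card = 48 := by decide +kernel
theorem th_gram : ∀ i j, ∑ q ∈ Qs, th i q * star (th j q) = 48 * (gram i j : R2) := by
  decide +kernel
theorem th_sum : ∀ i, ∑ q ∈ Qs, th i q = 48 * (if i = 2 then 1 else 0) := by decide +kernel
theorem th_supp : ∀ i, ∀ q ∈ Qs, th i q ≠ 0 → q = qneg ∨ qmul q q = qneg ∨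
    qmul (qmul q q) q = qneg ∨ qmul (qmul (qmul q q) q) q = qneg := by decide +kernel
theorem th_one : ∀ i, th i qone = 0 := by decide +kernel
theorem th_delta : ∀ q ∈ Qs, 2 * th 0 q + 2 * th 1 q + th 2 q + th 3 q - 2 * th 4 q =
    if q = qneg then 48 else 0 := by decide +kernel
theorem th_congr : ∀ q ∈ Qs, 8 * (1 + f2 q + f3 q) -
    (2 * th 0 q + 2 * th 1 q + 7 * th 2 q - th 3 q + 2 * th 4 q) = if q = qone then 48 else 0 := by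
  decide +kernel
theorem central : ∀ q ∈ Qs, (∀ y ∈ Qs, qmul q y = qmul y q) → q = qone ∨ q = qneg := by
  decide +kernel
theorem inv_conj : ∀ q ∈ Qs, qmul q q = qone → q ≠ qone → q ≠ qneg →
    ∃ y ∈ Qs, qmul y (1, 0, 0, 2) = qmul q y := by decide +kernel
theorem th_invs : ∀ k : Bool, (∑ u ∈ invs k, ∑ v ∈ invs k, th 2 (qmul u v) = if k then 192 else 0) ∧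
    ∑ u ∈ invs k, ∑ v ∈ invs k, th 3 (qmul u v) = if k then 192 else 0 := by decide +kernel

noncomputable def io : R2 →+* ℂ :=
  Zsqrtd.lift ⟨(√2 : ℝ) * Complex.I, by
    rw [mul_mul_mul_comm, Complex.I_mul_I, ← Complex.ofReal_mul, Real.mul_self_sqrt zero_le_two]
    simp⟩

theorem io_star (z : R2) : io (star z) = conj (io z) := by
  simp [io, Zsqrtd.lift_apply_apply]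

/-- Coordinates on a group isomorphic to `GL(2,3)`. -/
structure Mod {H : Type*} [Group H] (φ : H → Q3) : Prop where
  inj : Function.Injective φ
  mul : ∀ a b, φ (a * b) = qmul (φ a) (φ b)
  one : φ 1 = qone
  mem : ∀ a, φ a ∈ Qs
  surj : ∀ q ∈ Qs, ∃ a, φ a = q

theorem exists_mod {H : Type*} [Group H] (e : H ≃* Matrix.GeneralLinearGroup (Fin 2) (ZMod 3)) :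
    ∃ φ : H → Q3, Mod φ := by
  refine ⟨fun a => ((e a).1 0 0, (e a).1 0 1, (e a).1 1 0, (e a).1 1 1), fun a b h => ?_,
    fun a b => ?_, ?_, fun a => ?_, fun q hq => ?_⟩
  · simp only [Prod.mk.injEq] at h
    refine e.injective (Units.ext (Matrix.ext fun i j => ?_))
    fin_cases i <;> fin_cases j <;> simp [h]
  · simp [qmul, Matrix.mul_apply, Fin.sum_univ_two]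
  · simp [qone]
  · have := (e a).det_ne_zero
    rw [Matrix.det_fin_two] at this
    exact Finset.mem_filter.2 ⟨Finset.mem_univ _, this⟩
  · refine ⟨e.symm (Matrix.GeneralLinearGroup.mkOfDetNeZero !![q.1, q.2.1; q.2.2.1, q.2.2.2] ?_), ?_⟩
    · simpa [qdet, Matrix.det_fin_two] using (Finset.mem_filter.1 hq).2
    · simp

variable {H : Type*} [Group H] {φ : H → Q3}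

theorem Mod.sum [Fintype H] (h : Mod φ) {M : Type*} [AddCommMonoid M] (F : Q3 → M) :
    ∑ a, F (φ a) = ∑ q ∈ Qs, F q :=
  Finset.sum_bij (fun a _ => φ a) (fun a _ => h.mem a) (fun _ _ _ _ e => h.inj e)
    (fun q hq => (h.surj q hq).imp fun _ e => ⟨Finset.mem_univ _, e⟩) fun _ _ => rfl

theorem Mod.card (h : Mod φ) [Fintype H] : Nat.card H = 48 := by
  simpa [card_Qs] using h.sum fun _ => (1 : ℕ)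

/-- The function is a generalized character in the coordinates. -/
def GC (φ : H → Q3) (F : Q3 → R2) : Prop := IsGeneralizedCharacter H fun a => io (F (φ a))

theorem GC.add {F F' : Q3 → R2} (h : GC φ F) (h' : GC φ F') : GC φ fun x => F x + F' x := by
  simp only [GC, map_add]
  exact IsGeneralizedCharacter.add h h'
theorem GC.sub {F F' : Q3 → R2} (h : GC φ F) (h' : GC φ F') : GC φ fun x => F x - F' x := by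
  simp only [GC, map_sub]
  exact IsGeneralizedCharacter.sub h h'
theorem GC.mul {F F' : Q3 → R2} (h : GC φ F) (h' : GC φ F') : GC φ fun x => F x * F' x := by
  simp only [GC, map_mul]
  exact IsGeneralizedCharacter.mul h h'
theorem GC.one : GC φ fun _ => 1 := by
  simp only [GC, map_one]
  exact isGeneralizedCharacter_one (G := H)

theorem Mod.gc_eps (h : Mod φ) : GC φ eps :=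
  (isIrrCharacter_monoidHom (G := H)
    { toFun := fun a => io (eps (φ a))
      map_one' := by rw [h.one]; simp [eps, qone, qdet]
      map_mul' := fun a b => by
        rw [h.mul, eps_mul _ (h.mem a) _ (h.mem b), map_mul] }).isGeneralizedCharacter

theorem Mod.gc_psi (h : Mod φ) : GC φ psi := by
  let m : H →* Matrix (Fin 2) (Fin 2) ℂ :=
    { toFun := fun a => !![io (rho (φ a)).1, io (rho (φ a)).2.1;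
        io (rho (φ a)).2.2.1, io (rho (φ a)).2.2.2]
      map_one' := by rw [h.one, rho_one]; simp [Matrix.one_fin_two]
      map_mul' := fun a b => by
        rw [h.mul, rho_mul _ (h.mem a) _ (h.mem b)]
        simp [qmul] }
  let ρ : Representation ℂ H (Fin 2 → ℂ) := (Matrix.toLinAlgEquiv' (R := ℂ)).toMonoidHom.comp m
  have := (isCharacter_character ρ).isGeneralizedCharacter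
  refine (congrArg (IsGeneralizedCharacter H) (funext fun a => ?_)).mp this
  change LinearMap.trace ℂ _ (Matrix.toLin' (m a)) = _
  rw [Matrix.trace_toLin'_eq]
  simp [m, psi]

theorem Mod.gc_f3 (h : Mod φ) : GC φ f3 := (h.gc_psi.mul (h.gc_eps.mul h.gc_psi)).sub GC.one
theorem Mod.gc_f4 (h : Mod φ) : GC φ f4 := (h.gc_psi.mul h.gc_f3).sub h.gc_psi
theorem Mod.gc_f2 (h : Mod φ) : GC φ f2 :=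
  (((h.gc_f3.mul h.gc_f3).sub GC.one).sub (h.gc_eps.mul h.gc_f3)).sub h.gc_f3

theorem Mod.gc_th (h : Mod φ) (i : Fin 5) : GC φ (th i) := by
  fin_cases i
  · exact h.gc_f2.sub h.gc_psi
  · exact h.gc_f2.sub (h.gc_eps.mul h.gc_psi)
  · exact (GC.one.add h.gc_f3).sub h.gc_f4
  · exact (h.gc_eps.add (h.gc_eps.mul h.gc_f3)).sub h.gc_f4
  · exact ((h.gc_f2.add h.gc_f4).sub (h.gc_eps.mul h.gc_f3)).sub h.gc_f3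

end Cfsg.Agent.H4.GL23
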