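import Cfsg.Agent.H4.AmGm
import Cfsg.Agent.H4.FrobGroup

/-! Counting conjugacy classes in extensions of abelian groups. -/

set_option autoImplicit false

namespace Cfsg.Agent.H4

open Cfsg Cfsg.Agent.H3
open scoped ComplexConjugate

theorem card_conjClasses_congr {G H : Type*} [Group G] [Group H] [Finite G] (e : G ≃* H) :
    Nat.card (ConjClasses G) = Nat.card (ConjClasses H) := by
  have h1 := card_comm_eq_card_conjClasses_mul_card G
  have h2 := card_comm_eq_card_conjClasses_mul_card H
  have h3 : Nat.card { p : G × G // Commute p.1 p.2 } =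
      Nat.card { p : H × H // Commute p.1 p.2 } :=
    Nat.card_congr (Equiv.subtypeEquiv (e.toEquiv.prodCongr e.toEquiv) fun p =>
      (commute_map_iff e.injective).symm)
  rw [h3, h2, ← Nat.card_congr e.toEquiv] at h1
  exact (Nat.eq_of_mul_eq_mul_right Nat.card_pos h1).symm

section Infl
variable {G : Type*} [Group G] [Finite G]

/-- Inflation of irreducible characters. -/
def irrInflate (N : Subgroup G) [N.Normal] (φ : IrrCharacter (G ⧸ N)) : IrrCharacter G :=
  ⟨fun g => (φ : G ⧸ N → ℂ) g, φ.2.inflate N⟩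

omit [Finite G] in
@[simp] theorem irrInflate_apply (N : Subgroup G) [N.Normal] (φ : IrrCharacter (G ⧸ N)) (g : G) :
    (irrInflate N φ : G → ℂ) g = (φ : G ⧸ N → ℂ) g := rfl

omit [Finite G] in
theorem irrInflate_injective (N : Subgroup G) [N.Normal] : Function.Injective (irrInflate N) := by
  intro φ ψ h
  apply Subtype.ext
  funext q
  induction q using QuotientGroup.induction_on with
  | H x => exact congrFun (congrArg Subtype.val h) x

theorem mem_range_irrInflate (N : Subgroup G) [N.Normal] (χ : IrrCharacter G) :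
    χ ∈ Set.range (irrInflate N) ↔ ∀ n ∈ N, (χ : G → ℂ) n = (χ : G → ℂ) 1 := by
  constructor
  · rintro ⟨φ, rfl⟩ n hn
    simp only [irrInflate_apply, (QuotientGroup.eq_one_iff n).2 hn, QuotientGroup.mk_one]
  · intro h
    obtain ⟨φ, h1, h2⟩ := χ.2.exists_quotient N h
    exact ⟨⟨φ, h1⟩, Subtype.ext (funext h2)⟩

theorem sum_irr_filter_ker {M : Type*} [AddCommMonoid M] (N : Subgroup G) [N.Normal]
    [DecidablePred fun χ : IrrCharacter G => ∀ n ∈ N, (χ : G → ℂ) n = (χ : G → ℂ) 1]
    (F : IrrCharacter G → M) :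
    ∑ χ ∈ Finset.univ.filter
      (fun χ : IrrCharacter G => ∀ n ∈ N, (χ : G → ℂ) n = (χ : G → ℂ) 1), F χ =
      ∑ φ : IrrCharacter (G ⧸ N), F (irrInflate N φ) := by
  symm
  refine Finset.sum_bij (fun φ _ => irrInflate N φ) (fun φ _ => ?_)
    (fun a _ b _ h => irrInflate_injective N h) (fun χ hχ => ?_) (fun _ _ => rfl)
  · rw [Finset.mem_filter]
    exact ⟨Finset.mem_univ _, (mem_range_irrInflate N _).1 ⟨φ, rfl⟩⟩
  · obtain ⟨φ, h⟩ := (mem_range_irrInflate N χ).2 (Finset.mem_filter.1 hχ).2
    exact ⟨φ, Finset.mem_univ _, h⟩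

end Infl

section Koszul

theorem card_ker_koszul {A : Type*} [AddCommGroup A] [Finite A] (α β : AddMonoid.End A)
    (hc : Commute α β) {n : ℕ} (hα : α ^ n = 1) (hβ : β ^ n = 1) (hn : n.Coprime (Nat.card A)) :
    Nat.card {p : A × A // p.1 + α p.2 = p.2 + β p.1} =
      Nat.card A * Nat.card {u : A // α u = u ∧ β u = u} := by
  let Φ : A × A →+ A := AddMonoidHom.coprod (1 - β : AddMonoid.End A) (α - 1 : AddMonoid.End A)
  have hΦ : ∀ v w, Φ (v, w) = (v - β v) + (α w - w) := fun _ _ => rfl
  set a := ∑ i ∈ Finset.range n, α ^ i with ha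
  set b := ∑ i ∈ Finset.range n, β ^ i with hb
  have ha1 : a * (α - 1) = 0 := by rw [ha, geom_sum_mul, hα, sub_self]
  have hb1 : b * (β - 1) = 0 := by rw [hb, geom_sum_mul, hβ, sub_self]
  have ha2 : (α - 1) * a = 0 := by rw [ha, mul_geom_sum, hα, sub_self]
  have hb2 : (β - 1) * b = 0 := by rw [hb, mul_geom_sum, hβ, sub_self]
  have hab : Commute a b := Commute.sum_left _ _ _ fun i _ =>
    Commute.sum_right _ _ _ fun j _ => hc.pow_pow i j
  have hbij : ∀ (S : AddSubgroup A) (u : A), (n * n) • u ∈ S → u ∈ S := by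
    intro S u hu
    have h1 : (n * n).Coprime (addOrderOf u) :=
      (Nat.Coprime.mul_left hn hn).coprime_dvd_right (addOrderOf_dvd_natCard u)
    obtain ⟨k, hk⟩ := exists_nsmul_eq_self_of_coprime h1
    rw [← hk]
    exact S.nsmul_mem hu k
  have hsum : ∀ (γ : AddMonoid.End A) (u : A), (∑ i ∈ Finset.range n, γ ^ i) u - n • u ∈
      AddMonoidHom.range (γ - 1 : AddMonoid.End A) := by
    intro γ u
    have h1 : (∑ i ∈ Finset.range n, γ ^ i) u = ∑ i ∈ Finset.range n, (γ ^ i) u :=
      map_sum (AddMonoidHom.eval u) _ _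
    have h2 : n • u = ∑ i ∈ Finset.range n, u := by simp
    rw [h1, h2, ← Finset.sum_sub_distrib]
    refine AddSubgroup.sum_mem _ fun i _ => ⟨(∑ j ∈ Finset.range i, γ ^ j) u, ?_⟩
    change ((γ - 1) * ∑ j ∈ Finset.range i, γ ^ j) u = _
    rw [mul_geom_sum]; rfl
  have hker : AddMonoidHom.ker (a * b : AddMonoid.End A) = Φ.range := by
    ext u
    constructor
    · intro hu
      apply hbij
      obtain ⟨w, hw⟩ := hsum α (b u)
      obtain ⟨v, hv⟩ := hsum β u
      refine ⟨(n • v, -w), ?_⟩
      have h1 : a (b u) = 0 := hu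
      have h2 : α w - w = a (b u) - n • b u := hw
      have h3 : β v - v = b u - n • u := hv
      rw [hΦ, map_nsmul, map_neg, ← nsmul_sub, ← neg_sub (β v), h3, neg_sub_neg, ← neg_sub (α w),
        h2, h1, mul_nsmul]
      simp [nsmul_sub]
    · rintro ⟨⟨v, w⟩, rfl⟩
      have h1 : (a * b) (β v - v) = 0 := by
        change (a * b * (β - 1)) v = 0
        rw [mul_assoc, hb1, mul_zero]; rfl
      have h2 : (a * b) (α w - w) = 0 := by
        change (a * b * (α - 1)) w = 0
        rw [hab.eq, mul_assoc, ha1, mul_zero]; rfl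
      change (a * b) (Φ (v, w)) = 0
      rw [hΦ, map_add, h2, ← neg_sub, map_neg, h1, neg_zero, add_zero]
  let C : AddSubgroup A := AddMonoidHom.ker (α - 1 : AddMonoid.End A) ⊓
    AddMonoidHom.ker (β - 1 : AddMonoid.End A)
  have hC : ∀ u, u ∈ C ↔ α u = u ∧ β u = u := fun u => by
    change (α u - u = 0 ∧ β u - u = 0) ↔ _
    rw [sub_eq_zero, sub_eq_zero]
  have hfix : ∀ (γ : AddMonoid.End A) (u : A), γ u = u →
      (∑ i ∈ Finset.range n, γ ^ i) u = n • u := by
    intro γ u hu
    have h1 : (∑ i ∈ Finset.range n, γ ^ i) u = ∑ i ∈ Finset.range n, (γ ^ i) u :=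
      map_sum (AddMonoidHom.eval u) _ _
    have h2 : ∀ i, (γ ^ i) u = u := fun i => by
      induction i with
      | zero => rfl
      | succ i ih => rw [pow_succ]; change (γ ^ i) (γ u) = u; rw [hu, ih]
    simp [h1, h2]
  have hrange : AddMonoidHom.range (a * b : AddMonoid.End A) = C := by
    ext u
    constructor
    · rintro ⟨v, rfl⟩
      constructor
      · change ((α - 1) * (a * b)) v = 0
        rw [← mul_assoc, ha2, zero_mul]; rfl
      · change ((β - 1) * (a * b)) v = 0
        rw [hab.eq, ← mul_assoc, hb2, zero_mul]; rfl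
    · intro hu
      apply hbij
      refine ⟨u, ?_⟩
      rw [hC] at hu
      change a (b u) = _
      rw [hfix β u hu.2, map_nsmul, hfix α u hu.1, mul_nsmul]
  have h1 := AddSubgroup.card_mul_index (AddMonoidHom.ker (a * b : AddMonoid.End A))
  rw [(AddSubgroup.index_ker (G := A) (G' := A) (a * b : AddMonoid.End A) :), hker, hrange] at h1
  have h2 := AddSubgroup.card_mul_index Φ.ker
  rw [AddSubgroup.index_ker, Nat.card_prod] at h2
  have h3 : Nat.card {p : A × A // p.1 + α p.2 = p.2 + β p.1} = Nat.card Φ.ker :=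
    Nat.card_congr (Equiv.subtypeEquivRight fun p => by
      rw [AddMonoidHom.mem_ker, show p = (p.1, p.2) from rfl, hΦ]
      constructor
      · intro h
        have : p.1 - β p.1 + (α p.2 - p.2) = (p.1 + α p.2) - (p.2 + β p.1) := by abel
        rw [this, h, sub_self]
      · intro h
        have : p.1 - β p.1 + (α p.2 - p.2) = (p.1 + α p.2) - (p.2 + β p.1) := by abel
        rw [this, sub_eq_zero] at h
        exact h)
  have h4 : Nat.card {u : A // α u = u ∧ β u = u} = Nat.card C :=
    Nat.card_congr (Equiv.subtypeEquivRight fun u => (hC u).symm)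
  rw [h3, h4]
  apply Nat.eq_of_mul_eq_mul_right (Nat.card_pos (α := Φ.range))
  rw [h2, mul_assoc, mul_comm (Nat.card C), h1]

/-- The number of commuting pairs lying over a commuting pair of coprime order. -/
theorem card_commute_over {X : Type*} [Group X] (V : Subgroup X) [hV : V.Normal] [Finite V]
    (hab : ∀ a ∈ V, ∀ b ∈ V, a * b = b * a) {g h : X} (hc : Commute g h) {n : ℕ} (hg : g ^ n = 1)
    (hh : h ^ n = 1) (hn : n.Coprime (Nat.card V)) :
    Nat.card {p : V × V // Commute (p.1 * g) (p.2 * h)} =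
      Nat.card V * Nat.card {u : V // Commute (u : X) g ∧ Commute (u : X) h} := by
  let _ : CommGroup V := { (inferInstance : Group V) with
    mul_comm := fun a b => Subtype.ext (hab a a.2 b b.2) }
  let ρ : X →* AddMonoid.End (Additive V) :=
    { toFun := fun x => MonoidHom.toAdditive (MulAut.conjNormal (H := V) x).toMonoidHom
      map_one' := by rw [map_one]; rfl
      map_mul' := fun x y => by rw [map_mul]; rfl }
  have hρ : ∀ x (v : V), ((Additive.toMul (ρ x (Additive.ofMul v)) : V) : X) = x * v * x⁻¹ :=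
    fun x v => rfl
  have := card_ker_koszul (ρ g) (ρ h) (hc.map ρ) (n := n) (by rw [← map_pow, hg, map_one])
    (by rw [← map_pow, hh, map_one]) hn
  refine Eq.trans ?_ (this.trans ?_)
  · refine Nat.card_congr (Equiv.subtypeEquiv (Additive.ofMul.prodCongr Additive.ofMul) ?_)
    rintro ⟨v, w⟩
    rw [← Additive.toMul.apply_eq_iff_eq, Subtype.ext_iff]
    change _ ↔ (v : X) * (g * w * g⁻¹) = w * (h * v * h⁻¹)
    have e1 : (v : X) * g * (w * h) = v * (g * w * g⁻¹) * (g * h) := by group
    have e2 : (w : X) * h * (v * g) = w * (h * v * h⁻¹) * (h * g) := by group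
    rw [Commute, SemiconjBy, e1, e2, hc.eq, mul_left_inj]
  · congr 1
    symm
    refine Nat.card_congr (Equiv.subtypeEquiv Additive.ofMul ?_)
    intro u
    rw [← Additive.toMul.apply_eq_iff_eq, Subtype.ext_iff, ← Additive.toMul.apply_eq_iff_eq,
      Subtype.ext_iff, hρ, hρ]
    change _ ↔ g * u * g⁻¹ = u ∧ h * u * h⁻¹ = u
    rw [mul_inv_eq_iff_eq_mul, mul_inv_eq_iff_eq_mul]
    exact and_congr ⟨fun h => h.symm, fun h => h.symm⟩ ⟨fun h => h.symm, fun h => h.symm⟩

end Koszul

theorem ncard_conj_orbit_mul {H X : Type*} [Group H] [Group X] (f : H →* X) (s : X) :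
    {u | ∃ g, f g * s * (f g)⁻¹ = u}.ncard * Nat.card {g : H // Commute (f g) s} =
      Nat.card H := by
  let _ : MulAction H X := MulAction.compHom X ((MulAut.conj (G := X)).comp f)
  rw [← (MulAction.stabilizer H s).index_mul_card, MulAction.index_stabilizer]
  congr 1
  exact Nat.card_congr (Equiv.subtypeEquivRight fun g => (mul_inv_eq_iff_eq_mul).symm)

end Cfsg.Agent.H4
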