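import Cfsg.Agent.H4.KGV
import Cfsg.Agent.H4.FixAvg2

/-! Knörr's lattice bound for abelian groups acting coprimely. -/

set_option autoImplicit false
set_option linter.unusedSectionVars false
set_option linter.style.haveILetI false

namespace Cfsg.Agent.H4

open Cfsg Cfsg.Agent.H3 Subgroup
open scoped ComplexConjugate

theorem sum_pairs_ge {ι M : Type*} [Fintype ι] (x : ι → M) (hx : ∃ i j, x i ≠ x j) (F : ι → ι → ℝ)
    {m : ℝ} (h0 : ∀ i j, 0 ≤ F i j) (hm : 0 ≤ m) (h : ∀ i j, x i ≠ x j → m ≤ F i j) :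
    2 * ((Nat.card ι - 1) * m) ≤ ∑ i, ∑ j, F i j := by
  classical
  obtain ⟨i₀, j₀, hx⟩ := hx
  let s := Finset.univ.filter fun i => x i = x i₀
  have h1 : ∀ (s t : Finset ι), (∀ i ∈ s, ∀ j ∈ t, x i ≠ x j) →
      s.card * (t.card * m) ≤ ∑ i ∈ s, ∑ j, F i j := fun s t hst => by
    rw [← nsmul_eq_mul, ← nsmul_eq_mul]
    refine Finset.card_nsmul_le_sum _ _ _ fun i hi => ?_
    exact (Finset.card_nsmul_le_sum _ _ _ fun j hj => h i j (hst i hi j hj)).trans
      (Finset.sum_le_sum_of_subset_of_nonneg (Finset.subset_univ _) fun j _ _ => h0 i j)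
  have h2 := h1 s sᶜ fun i hi j hj e => by
    simp only [s, Finset.mem_compl, Finset.mem_filter, Finset.mem_univ, true_and] at hi hj
    exact hj (e ▸ hi)
  have h3 := h1 sᶜ s fun i hi j hj e => by
    simp only [s, Finset.mem_compl, Finset.mem_filter, Finset.mem_univ, true_and] at hi hj
    exact hi (e ▸ hj)
  rw [← Finset.sum_add_sum_compl s, Nat.card_eq_fintype_card, ← Finset.card_add_card_compl s]
  have h4 : (1 : ℝ) ≤ s.card := by
    exact_mod_cast Finset.card_pos.2 ⟨i₀, by simp [s]⟩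
  have h5 : (1 : ℝ) ≤ sᶜ.card := by
    exact_mod_cast Finset.card_pos.2 ⟨j₀, by simpa [s] using hx.symm⟩
  push_cast
  nlinarith [mul_nonneg (mul_nonneg (sub_nonneg.2 h4) (sub_nonneg.2 h5)) hm]

theorem sum_norm_sub_sq {ι : Type*} [Fintype ι] (x : ι → ℂ) :
    ∑ i, ∑ j, ‖x i - x j‖ ^ 2 = 2 * (Nat.card ι * ∑ i, ‖x i‖ ^ 2 - ‖∑ i, x i‖ ^ 2) := by
  apply Complex.ofReal_injective
  push_cast
  simp only [← Complex.mul_conj', map_sub, map_sum, sub_mul, mul_sub, Finset.sum_sub_distrib,
    Finset.sum_const, Finset.card_univ, nsmul_eq_mul, ← Finset.mul_sum, ← Finset.sum_mul,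
    Nat.card_eq_fintype_card]
  ring

/-- The minimum of the form given by the weight `δ` on generalized characters is at least the
group order. -/
def LatMin (B : Type*) [Group B] [Fintype B] (δ : B → ℝ) : Prop :=
  ∀ θ, IsGeneralizedCharacter B θ → θ ≠ 0 → (Nat.card B : ℝ) ^ 2 ≤ ∑ b, δ b * ‖θ b‖ ^ 2

variable {A B : Type*} [Group A] [Fintype A] [Group B] [Fintype B]

theorem LatMin.pairs {δ : B → ℝ} (h : LatMin B δ) (hδ : ∀ b, 0 ≤ δ b) {ι : Type*} [Fintype ι]
    (x : ι → B → ℂ) (hx : ∀ i, IsGeneralizedCharacter B (x i)) (hne : ∃ i j, x i ≠ x j) :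
    (Nat.card ι - 1) * (Nat.card B : ℝ) ^ 2 ≤
      ∑ b, δ b * (Nat.card ι * ∑ i, ‖x i b‖ ^ 2 - ‖∑ i, x i b‖ ^ 2) := by
  have h1 := sum_pairs_ge x hne (fun i j => ∑ b, δ b * ‖x i b - x j b‖ ^ 2)
    (fun i j => Finset.sum_nonneg fun b _ => mul_nonneg (hδ b) (sq_nonneg _)) (sq_nonneg _)
    fun i j e => h _ ((hx i).sub (hx j)) (sub_ne_zero.2 e)
  rw [Finset.sum_congr rfl fun i _ => Finset.sum_comm, Finset.sum_comm] at h1
  simp only [← Finset.mul_sum, sum_norm_sub_sq, mul_left_comm _ (2 : ℝ)] at h1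
  linarith

theorem isGeneralizedCharacter_cosetAvg (N : Subgroup A) [N.Normal] [Fintype N] {ψ : A → ℂ}
    (hψ : IsGeneralizedCharacter A ψ) : IsGeneralizedCharacter A (cosetAvg N ψ) := by
  obtain ⟨χ, φ, h1, h2, rfl⟩ := hψ
  exact ⟨_, _, isCharacter_cosetAvg N h1, isCharacter_cosetAvg N h2,
    by ext x; simp [cosetAvg, Finset.sum_sub_distrib, mul_sub]⟩

theorem card_irr_of_comm (hc : ∀ a b : A, a * b = b * a) : Nat.card (IrrCharacter A) = Nat.card A := by
  have := sum_irr_norm_sq (1 : A)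
  simp only [fun χ : IrrCharacter A => χ.2.apply_one_of_comm hc, norm_one, one_pow,
    Finset.sum_const, Finset.card_univ, nsmul_eq_mul, mul_one, card_centralizer_one] at this
  rw [Nat.card_eq_fintype_card]
  exact_mod_cast this

theorem exists_fourier (hc : ∀ a b : A, a * b = b * a) {θ : A × B → ℂ}
    (hθ : IsGeneralizedCharacter (A × B) θ) : ∃ x : IrrCharacter A → B → ℂ,
      (∀ l, IsGeneralizedCharacter B (x l)) ∧ (∀ b, θ (1, b) = ∑ l, x l b) ∧
      ∀ b, ∑ a, ‖θ (a, b)‖ ^ 2 = Nat.card A * ∑ l, ‖x l b‖ ^ 2 := by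
  classical
  have hcl : ∀ b, IsClassFunction A fun a => θ (a, b) := fun b g h => by
    simp only [hc h g, mul_inv_cancel_right]
  refine ⟨fun l b => classInner (fun a => θ (a, b)) l, fun l => ?_, fun b => ?_, fun b => ?_⟩
  · let e : A ≃ (MonoidHom.snd A B).ker :=
      ⟨fun a => ⟨(a, 1), rfl⟩, fun n => n.1.1, fun _ => rfl, fun n => Subtype.ext (Prod.ext rfl n.2.symm)⟩
    have := (isGeneralizedCharacter_cosetAvg (MonoidHom.snd A B).ker (hθ.mul
      (l.2.isGeneralizedCharacter.conj.comp (MonoidHom.fst A B)))).comp (MonoidHom.inr A B)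
    refine (congrArg (IsGeneralizedCharacter B) (funext fun b => ?_)).mp this
    simp only [cosetAvg, classInner, ← Nat.card_congr e]
    congr 1
    exact (Fintype.sum_equiv e _ _ fun a => by simp [e]).symm
  · rw [(hcl b).apply_eq_sum_irr 1]
    simp only [fun χ : IrrCharacter A => χ.2.apply_one_of_comm hc, mul_one]
  · have := (hcl b).classInner_eq_sum fun a => θ (a, b)
    rw [classInner, inv_mul_eq_iff_eq_mul₀ (natCard_ne_zero_C A)] at this
    simp only [Complex.mul_conj'] at this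
    exact_mod_cast this

theorem LatMin.prod (hc : ∀ a b : A, a * b = b * a) {δ : B → ℝ} (h : LatMin B δ)
    (hδ : ∀ b, 0 ≤ δ b) {w : A → ℝ} (hw1 : 1 ≤ w 1) (hw : ∀ a ≠ 1, (Nat.card A : ℝ) + 1 ≤ w a) :
    LatMin (A × B) fun q => w q.1 * δ q.2 := by
  classical
  intro θ hθ h0
  obtain ⟨x, h1, h2, h3⟩ := exists_fourier hc hθ
  have h4 := h.pairs hδ (fun i : Option (IrrCharacter A) => i.elim 0 x)
    (fun i => by cases i; exacts [isGeneralizedCharacter_zero, h1 _]) (by
      by_contra hh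
      push Not at hh
      refine h0 (funext fun ⟨a, b⟩ => ?_)
      have := h3 b
      simp only [fun l => show x l = 0 from hh (some l) none, Pi.zero_apply, norm_zero, ne_eq,
        OfNat.ofNat_ne_zero, not_false_eq_true, zero_pow, Finset.sum_const_zero, mul_zero] at this
      simpa using (Finset.sum_eq_zero_iff_of_nonneg fun _ _ => sq_nonneg _).1 this a
        (Finset.mem_univ _))
  simp only [Finite.card_option, card_irr_of_comm hc, Fintype.sum_option, Option.elim, Pi.zero_apply,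
    norm_zero, ne_eq, OfNat.ofNat_ne_zero, not_false_eq_true, zero_pow, zero_add, ← h2, Nat.cast_add,
    Nat.cast_one, add_sub_cancel_right] at h4
  have h5 : (0 : ℝ) ≤ Nat.card A := Nat.cast_nonneg _
  rw [Nat.card_prod, Fintype.sum_prod_type_right, Nat.cast_mul, mul_pow, sq, mul_assoc]
  refine (mul_le_mul_of_nonneg_left h4 h5).trans ?_
  rw [Finset.mul_sum]
  refine Finset.sum_le_sum fun b _ => ?_
  simp only [mul_comm (w _), mul_assoc, ← Finset.mul_sum]
  rw [mul_left_comm]
  refine mul_le_mul_of_nonneg_left ?_ (hδ b)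
  rw [mul_sub, mul_left_comm, ← h3, ← Finset.add_sum_erase _ _ (Finset.mem_univ 1),
    ← Finset.add_sum_erase _ _ (Finset.mem_univ 1), mul_add, Finset.mul_sum]
  have h6 : ∑ a ∈ Finset.univ.erase 1, ((Nat.card A : ℝ) + 1) * ‖θ (a, b)‖ ^ 2 ≤
      ∑ a ∈ Finset.univ.erase 1, ‖θ (a, b)‖ ^ 2 * w a := Finset.sum_le_sum fun a ha =>
    mul_comm (w a) _ ▸ mul_le_mul_of_nonneg_right (hw a (Finset.ne_of_mem_erase ha)) (sq_nonneg _)
  nlinarith [sq_nonneg ‖θ (1, b)‖]

theorem LatMin.comp (hc : ∀ a b : B, a * b = b * a) {δ : B → ℝ} (h : LatMin B δ) (f : A →* B)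
    (hf : Function.Injective f) {w : A → ℝ} (hw : ∀ a, δ (f a) ≤ w a) : LatMin A w := by
  classical
  intro θ hθ h0
  let e := MonoidHom.ofInjective hf
  have h1 : ∀ b, indFun f.range (fun y => θ (e.symm y)) b =
      f.range.index * extendByZero f.range (fun y => θ (e.symm y)) b := fun b => by
    simp only [indFun_apply', hc _ b, mul_inv_cancel_right, Finset.sum_const, Finset.card_univ,
      nsmul_eq_mul, ← Nat.card_eq_fintype_card, ← f.range.card_mul_index, Nat.cast_mul]
    field_simp [natCard_ne_zero_C f.range]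
  have h2 : ∀ a, extendByZero f.range (fun y => θ (e.symm y)) (f a) = θ a := fun a =>
    (ebz_coe _ _ (e a)).trans (by rw [e.symm_apply_apply])
  have hi : (0 : ℝ) < f.range.index := by exact_mod_cast Nat.pos_of_ne_zero index_ne_zero_of_finite
  have h3 := h (indFun f.range fun y => θ (e.symm y))
    (isGeneralizedCharacter_indFun f.range (hθ.comp e.symm.toMonoidHom)) fun e' =>
    h0 (funext fun a => by
      have := (h1 (f a)).symm.trans (congrFun e' (f a))
      rw [h2, Pi.zero_apply, mul_eq_zero] at this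
      exact this.resolve_left (by exact_mod_cast hi.ne'))
  rw [← Finset.sum_subset (Finset.subset_univ (Finset.univ.map ⟨f, hf⟩)) fun b _ hb => by
    rw [h1 b, ebz_of_not_mem _ _ (by simpa using hb)]
    simp, Finset.sum_map, ← f.range.card_mul_index, ← Nat.card_congr e.toEquiv, Nat.cast_mul,
    mul_pow, mul_comm] at h3
  refine le_of_mul_le_mul_left (h3.trans ?_) (pow_pos hi 2)
  rw [Finset.mul_sum]
  refine Finset.sum_le_sum fun a _ => ?_
  rw [Function.Embedding.coeFn_mk, h1 (f a), h2, norm_mul, mul_pow, Complex.norm_natCast,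
    mul_left_comm]
  exact mul_le_mul_of_nonneg_left (mul_le_mul_of_nonneg_right (hw a) (sq_nonneg _)) (sq_nonneg _)

universe u v

theorem latMin_of_rep (m : ℕ) : ∀ (H : Type u) [Group H] [Fintype H] (V : Type v) [AddCommGroup V]
    [Finite V] (ρ : Representation ℤ H V), Nat.card V = m → (∀ a b : H, a * b = b * a) →
    (Nat.card H).Coprime (Nat.card V) → (∀ g, ρ g = 1 → g = 1) →
    LatMin H fun g => (Nat.card V : ℝ) / Nat.card (fixS (ρ g)) := by
  induction m using Nat.strong_induction_on with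
  | _ m ih =>
  intro H _ _ V _ _ ρ hm hc hcop hf
  classical
  rcases subsingleton_or_nontrivial V with hV | hV
  · haveI : Subsingleton H := ⟨fun a b => by
      rw [hf a (Subsingleton.elim _ _), hf b (Subsingleton.elim _ _)]⟩
    haveI : Unique H := uniqueOfSubsingleton 1
    intro θ hθ h0
    obtain ⟨n, hn⟩ := hθ.exists_apply_one
    have h1 : n ≠ 0 := by
      rintro rfl
      exact h0 (funext fun a => by rw [Subsingleton.elim a 1, hn]; simp)
    rw [Fintype.sum_unique, Subsingleton.elim default (1 : H), hn]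
    simp only [Nat.card_unique, Nat.cast_one, div_one, one_mul, Complex.norm_intCast]
    exact pow_le_pow_left₀ zero_le_one (by exact_mod_cast Int.one_le_abs h1) 2
  obtain ⟨U, -, ⟨h1, hU⟩, hmin⟩ := Finite.exists_le_minimal
    (p := fun U : Submodule ℤ V => U ≠ ⊥ ∧ ∀ g, U ≤ U.comap (ρ g)) (a := ⊤)
    ⟨top_ne_bot, fun _ _ _ => trivial⟩
  haveI : Finite (V ⧸ U) := Finite.of_surjective _ U.mkQ_surjective
  have hcard := Submodule.card_eq_card_quotient_mul_card U
  haveI : Nontrivial U := Submodule.nontrivial_iff_ne_bot.2 h1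
  have hU1 : 1 < Nat.card U := Finite.one_lt_card
  let σ := ρ.subrepresentation U hU
  let τ := ρ.quotient U hU
  let f := QuotientGroup.mk' (MonoidHom.ker σ)
  let f' := QuotientGroup.mk' (MonoidHom.ker τ)
  let σ' : Representation ℤ (H ⧸ MonoidHom.ker σ) U := QuotientGroup.lift _ σ le_rfl
  let τ' : Representation ℤ (H ⧸ MonoidHom.ker τ) (V ⧸ U) := QuotientGroup.lift _ τ le_rfl
  haveI := Fintype.ofFinite (H ⧸ MonoidHom.ker σ)
  haveI := Fintype.ofFinite (H ⧸ MonoidHom.ker τ)
  have hq : ∀ (K : Subgroup H) [K.Normal] (a b : H ⧸ K), a * b = b * a := fun K _ a b => by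
    obtain ⟨a, rfl⟩ := QuotientGroup.mk_surjective a
    obtain ⟨b, rfl⟩ := QuotientGroup.mk_surjective b
    exact congrArg _ (hc a b)
  have k1 := ih (Nat.card (V ⧸ U)) (by rw [← hm, hcard]; nlinarith [Nat.card_pos (α := V ⧸ U)])
    _ (V ⧸ U) τ' rfl (hq _) ((hcop.coprime_dvd_right ⟨_, hcard.trans (mul_comm _ _)⟩).coprime_dvd_left
      (card_quotient_dvd_card _)) fun g hg => by
      obtain ⟨g, rfl⟩ := QuotientGroup.mk_surjective g
      exact (QuotientGroup.eq_one_iff _).2 hg
  have hfix : ∀ a ≠ 1, fixS (σ' a) = ⊥ := fun a ha => by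
    obtain ⟨a, rfl⟩ := QuotientGroup.mk_surjective a
    by_contra h
    refine ha ((QuotientGroup.eq_one_iff _).2 (LinearMap.ext fun u => ?_))
    obtain ⟨w, hw, e⟩ := hmin (y := (fixS (σ a)).map U.subtype) ⟨by
      intro e
      exact h (Submodule.map_injective_of_injective U.subtype_injective
        (e.trans (Submodule.map_bot _).symm)), by
        rintro g _ ⟨w, hw, rfl⟩
        refine ⟨σ g w, mem_fixS.2 ?_, rfl⟩
        rw [← Module.End.mul_apply, ← map_mul, hc, map_mul, Module.End.mul_apply, mem_fixS.1 hw]⟩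
      (Submodule.map_subtype_le _ _) u.2
    rw [← Subtype.ext e]
    exact mem_fixS.1 hw
  have hA : Nat.card (H ⧸ MonoidHom.ker σ) + 1 ≤ Nat.card U := by
    obtain ⟨u, hu⟩ := exists_ne (0 : U)
    rw [← Finite.card_option]
    have h2 : ∀ a, σ' a u ≠ 0 := fun a e => hu (by
      rw [← Module.End.one_apply (R := ℤ) u, ← map_one σ', ← inv_mul_cancel a, map_mul, Module.End.mul_apply, e,
        map_zero])
    refine Nat.card_le_card_of_injective (fun o => o.elim 0 fun a => σ' a u) ?_
    rintro (_ | a) (_ | b) e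
    · rfl
    · exact absurd e.symm (h2 b)
    · exact absurd e (h2 a)
    · by_contra h3
      have h4 : u ∈ fixS (σ' (a⁻¹ * b)) := mem_fixS.2 (by
        rw [map_mul, Module.End.mul_apply, ← show σ' a u = σ' b u from e, ← Module.End.mul_apply,
          ← map_mul, inv_mul_cancel, map_one, Module.End.one_apply])
      rw [hfix _ fun e' => h3 (congrArg _ (inv_mul_eq_one.1 e'))] at h4
      exact hu h4
  have hpos : ∀ {W : Type v} [AddCommGroup W] [Finite W] (t : Module.End ℤ W),
      (0 : ℝ) < Nat.card (fixS t) := fun t => by exact_mod_cast Nat.card_pos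
  refine (k1.prod (hq _) (fun b => by positivity)
    (w := fun a => (Nat.card U : ℝ) / Nat.card (fixS (σ' a))) ?_ fun a ha => ?_).comp
    (fun a b => Prod.ext (hq _ _ _) (hq _ _ _)) (f.prod f') ((injective_iff_map_eq_one _).2
      fun g hg => hf g (LinearMap.ext fun v => ?_)) fun g => ?_
  · rw [one_le_div (hpos _)]
    exact_mod_cast Nat.card_le_card_of_injective _ Subtype.val_injective
  · rw [hfix a ha, Nat.card_unique (α := (⊥ : Submodule ℤ U)), Nat.cast_one, div_one]
    exact_mod_cast hA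
  · have h2 : σ g = 1 := (QuotientGroup.eq_one_iff _).1 (congrArg Prod.fst hg)
    have h3 : τ g = 1 := (QuotientGroup.eq_one_iff _).1 (congrArg Prod.snd hg)
    have h4 : ρ g v - v ∈ U := (Submodule.Quotient.eq U).1 (LinearMap.congr_fun h3 (U.mkQ v))
    have h5 : ρ g (ρ g v - v) = ρ g v - v := congrArg Subtype.val (LinearMap.congr_fun h2 ⟨_, h4⟩)
    have h6 : ∀ n : ℕ, ρ (g ^ n) v = v + n • (ρ g v - v) := fun n => by
      induction n with
      | zero => simp
      | succ n ih => rw [pow_succ', map_mul, Module.End.mul_apply, ih, map_add, map_nsmul, h5,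
          succ_nsmul]; abel
    have h7 := h6 (Nat.card H)
    rw [pow_card_eq_one', map_one, Module.End.one_apply, left_eq_add] at h7
    exact sub_eq_zero.1 (eq_zero_of_coprime_smul hcop h7)
  · rw [div_mul_div_comm, hcard, Nat.cast_mul]
    refine div_le_div_of_nonneg_left (by positivity) (hpos _) ?_
    exact_mod_cast card_fixS_le (ρ g) U (hU g)

section Setting
open scoped IsMulCommutative
variable {X : Type*} [Group X] (V : Subgroup X) [hV : V.Normal] [IsMulCommutative V]

/-- The conjugation action on an abelian normal subgroup. -/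
def conjRep : Representation ℤ X (Additive V) :=
  (Representation.ofMulDistribMulAction (ConjAct X) V).comp ConjAct.toConjAct.toMonoidHom

theorem conjRep_apply (g : X) (v : Additive V) :
    ((conjRep V g v).toMul : X) = g * (v.toMul : X) * g⁻¹ := rfl

theorem card_centralizer_mul_le [Finite X] {G : Subgroup X} (hGV : V.IsComplement' G)
    (hcop : (Nat.card V).Coprime (Nat.card G)) {w x : X} (hw : w ∈ V) (hx : x ∈ G)
    (hc : Commute w x) : Nat.card (centralizer ({w * x} : Set X)) ≤ Nat.card (fixS (conjRep V x)) *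
      Nat.card {g : (G ⊓ centralizer {w} : Subgroup X) // Commute (g : X) x} := by
  obtain ⟨m, h1, h2⟩ := Nat.chineseRemainder hcop 1 0
  have h3 : (w * x) ^ m = w := by
    rw [hc.mul_pow, pow_eq_pow_iff_modEq.2 (h1.of_dvd (V.orderOf_dvd_natCard hw)),
      pow_eq_pow_iff_modEq.2 (h2.of_dvd (G.orderOf_dvd_natCard hx)), pow_one, pow_zero, mul_one]
  have key : ∀ y : centralizer ({w * x} : Set X), ∃ q : fixS (conjRep V x) ×
      {g : (G ⊓ centralizer {w} : Subgroup X) // Commute (g : X) x},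
      (y : X) = (q.1.1.toMul : X) * q.2.1 := fun y => by
    have h4 : Commute (y : X) (w * x) := mem_centralizer_singleton_iff.1 y.2
    have h5 : Commute (y : X) w := (congrArg _ h3).mp (h4.pow_right m)
    have h6 : Commute (y : X) x := by simpa using h5.inv_right.mul_right h4
    obtain ⟨⟨a, g⟩, e⟩ := hGV.2 y
    have e' : (g : X) = (a : X)⁻¹ * y := by rw [← e]; simp
    have h7 : Commute (g : X) w := by
      rw [e']
      exact (show Commute (a : X) w from setLike_mul_comm (s := V) a.2 hw).inv_left.mul_left h5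
    have h8 : Commute (g : X) x := by
      refine mul_inv_eq_one.1 (disjoint_def.1 hGV.disjoint ?_
        (mul_mem (mul_mem g.2 hx) (inv_mem (mul_mem hx g.2))))
      rw [e', mul_assoc _ _ x, h6.eq, show (a : X)⁻¹ * (x * y) * (x * ((a : X)⁻¹ * y))⁻¹ =
        (a : X)⁻¹ * (x * a * x⁻¹) by group]
      exact mul_mem (inv_mem a.2) (hV.conj_mem _ a.2 x)
    refine ⟨(⟨Additive.ofMul a, mem_fixS.2 (Additive.toMul.injective (Subtype.ext ?_))⟩,
      ⟨⟨g, g.2, mem_centralizer_singleton_iff.2 h7⟩, h8⟩), e.symm⟩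
    rw [conjRep_apply]
    refine mul_inv_eq_iff_eq_mul.2 ?_
    have : Commute (a : X) x := by
      rw [show (a : X) = y * (g : X)⁻¹ by rw [← e]; simp]
      exact h6.mul_left h8.inv_left
    exact this.symm
  choose f hf using key
  rw [← Nat.card_prod]
  exact Nat.card_le_card_of_injective f fun y z e => Subtype.ext (by rw [hf, hf, e])

end Setting

theorem kgv_setting {X : Type*} [Group X] [Finite X] (p : ℕ) [hp : Fact p.Prime] (V : Subgroup X)
    [V.Normal] (hVexp : ∀ v ∈ V, v ^ p = 1) (hidx : ¬ p ∣ V.index)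
    (hself : centralizer (V : Set X) = V) {G : Subgroup X} (hGV : V.IsComplement' G) :
    IsMulCommutative V ∧ (Nat.card V).Coprime (Nat.card G) ∧
      ∀ χ : X → ℂ, IsIrrCharacter X χ → ∀ d : ℕ, χ 1 = d → ¬ p ∣ d := by
  have hab : ∀ a ∈ V, ∀ b ∈ V, a * b = b * a := fun a ha b hb => (hself.ge hb) a ha
  refine ⟨⟨⟨fun a b => Subtype.ext (hab a a.2 b b.2)⟩⟩, ?_, fun χ hχ d hd h =>
    hidx (h.trans (degree_dvd_index_of_abelian_normal hχ V hab hd))⟩
  obtain ⟨k, hk⟩ := IsPGroup.iff_card.1 (show IsPGroup p V from fun v =>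
    ⟨1, Subtype.ext (by simpa using hVexp v v.2)⟩)
  rw [hk, ← hGV.symm.index_eq_card]
  exact ((Nat.Prime.coprime_iff_not_dvd hp.out).2 hidx).pow_left k

open scoped IsMulCommutative in
theorem kgv_abelian {X : Type*} [Group X] [Finite X] (p : ℕ) [hp : Fact p.Prime] (V : Subgroup X)
    [V.Normal] (hVexp : ∀ v ∈ V, v ^ p = 1) (hidx : ¬ p ∣ V.index)
    (hself : centralizer (V : Set X) = V) {G : Subgroup X} (hGV : V.IsComplement' G) {v : X}
    (hv : v ∈ V) (hab : ∀ a ∈ G ⊓ centralizer {v}, ∀ b ∈ G ⊓ centralizer {v}, a * b = b * a) :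
    Nat.card (ConjClasses X) ≤ Nat.card V := by
  classical
  obtain ⟨hc, hcop, hdeg⟩ := kgv_setting p V hVexp hidx hself hGV
  haveI := Fintype.ofFinite X
  let H := G ⊓ centralizer {v}
  have hL := latMin_of_rep _ H (Additive V) ((conjRep V).comp H.subtype) rfl
    (fun a b => Subtype.ext (hab a a.2 b b.2))
    (hcop.symm.coprime_dvd_left (card_dvd_of_le inf_le_left)) fun g hg => Subtype.ext
      (disjoint_def.1 hGV.disjoint (hself.le fun w hw => (mul_inv_eq_iff_eq_mul.1
        ((conjRep_apply V g (Additive.ofMul ⟨w, hw⟩)).symm.trans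
          (congrArg (fun t : Module.End ℤ (Additive V) => ((t (Additive.ofMul ⟨w, hw⟩)).toMul : X))
            hg))).symm) g.2.1)
  let α : Multiplicative (ZMod p) →* X := MonoidHom.mk' (fun a => v ^ a.toAdd.val) fun a b => by
    rw [toAdd_mul, ZMod.val_add, ← pow_eq_pow_mod _ (hVexp v hv), pow_add]
  have hα : ∀ a (h : H), Commute (α a) (h : X) := fun a h =>
    (show Commute (h : X) v from mem_centralizer_singleton_iff.1 h.2.2).symm.pow_left _
  let δ : H → ℝ := fun g => (Nat.card V : ℝ) / Nat.card (fixS (conjRep V g))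
  have hcA : Nat.card (Multiplicative (ZMod p)) = p := by simp
  have h1 : ∀ χ : IrrCharacter X, (p - 1) * (Nat.card H : ℝ) ^ 2 ≤
      ∑ b : H, δ b * ∑ a ∈ Finset.univ.erase 1, ‖χ.1 (α a * b)‖ ^ 2 := fun χ => by
    obtain ⟨x, h1, h2, h3⟩ := exists_fourier mul_comm
      (χ.2.isGeneralizedCharacter.comp (α.noncommCoprod H.subtype hα))
    have h4 := hL.pairs (fun b => by positivity) x h1 (by
      by_contra hh
      push Not at hh
      obtain ⟨d, -, hd⟩ := χ.2.exists_apply_one
      obtain ⟨n, hn⟩ := (h1 ⟨1, isIrrCharacter_one⟩).exists_apply_one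
      have := h2 1
      rw [Prod.mk_one_one, map_one, hd, Finset.sum_congr rfl fun l _ => (congrFun (hh l _) 1).trans hn,
        Finset.sum_const, Finset.card_univ, ← Nat.card_eq_fintype_card, card_irr_of_comm mul_comm,
        hcA, nsmul_eq_mul] at this
      exact hdeg χ χ.2 d hd (Int.natCast_dvd_natCast.1 ⟨n, by exact_mod_cast this⟩))
    simp only [card_irr_of_comm (A := Multiplicative (ZMod p)) mul_comm, ← h2, ← h3] at h4
    rw [hcA] at h4
    refine h4.trans_eq (Finset.sum_congr rfl fun b _ => ?_)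
    rw [← Finset.add_sum_erase _ _ (Finset.mem_univ 1), add_sub_cancel_left]
    rfl
  have h2 := Finset.sum_le_sum fun χ (_ : χ ∈ Finset.univ) => h1 χ
  rw [Finset.sum_const, Finset.card_univ, ← Nat.card_eq_fintype_card, card_irr_eq_card_conjClasses,
    nsmul_eq_mul, Finset.sum_comm] at h2
  have h3 : ∀ b : H, ∑ χ : IrrCharacter X, δ b * ∑ a ∈ Finset.univ.erase 1, ‖χ.1 (α a * b)‖ ^ 2 ≤
      Nat.card V * ((p - 1) * Nat.card H) := fun b => by
    rw [← Finset.mul_sum, Finset.sum_comm]
    have h4 : ∀ a ∈ Finset.univ.erase 1, ∑ χ : IrrCharacter X, ‖χ.1 (α a * b)‖ ^ 2 ≤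
        (Nat.card (fixS (conjRep V b)) * Nat.card H : ℝ) := fun a ha => by
      rw [sum_irr_norm_sq]
      norm_cast
      refine (card_centralizer_mul_le V hGV hcop (pow_mem hv _) b.2.1 (hα a b)).trans
        (Nat.mul_le_mul_left _ (Nat.card_le_card_of_injective (fun g => ⟨g.1, g.1.2.1, ?_⟩)
          fun x y e => Subtype.ext (Subtype.ext (congrArg Subtype.val e :))))
      have h5 : a.toAdd.val.Coprime (orderOf v) := Nat.Coprime.coprime_dvd_right
        (orderOf_dvd_of_pow_eq_one (hVexp v hv)) ((Nat.coprime_of_lt_prime (by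
          simpa using Finset.ne_of_mem_erase ha) (ZMod.val_lt _) hp.out).symm)
      obtain ⟨k, hk⟩ := exists_pow_eq_self_of_coprime h5
      exact mem_centralizer_singleton_iff.2 ((congrArg (Commute _) hk).mp ((show Commute (g.1 : X)
        (v ^ a.toAdd.val) from mem_centralizer_singleton_iff.1 g.1.2.2).pow_right k))
    refine (mul_le_mul_of_nonneg_left (Finset.sum_le_card_nsmul _ _ _ h4) (by positivity)).trans_eq ?_
    have : (Nat.card (fixS (conjRep V b)) : ℝ) ≠ 0 := by exact_mod_cast Nat.card_pos.ne'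
    rw [Finset.card_erase_of_mem (Finset.mem_univ _), Finset.card_univ, ← Nat.card_eq_fintype_card,
      hcA, nsmul_eq_mul, Nat.cast_pred hp.out.pos]
    simp only [δ]
    field_simp
  have h4 := h2.trans (Finset.sum_le_card_nsmul _ _ _ fun b _ => h3 b)
  rw [Finset.card_univ, ← Nat.card_eq_fintype_card, nsmul_eq_mul] at h4
  have h5 : (0 : ℝ) < (p - 1) * (Nat.card H : ℝ) ^ 2 :=
    mul_pos (sub_pos.2 (by exact_mod_cast hp.out.one_lt)) (pow_pos (by exact_mod_cast Nat.card_pos) 2)
  exact_mod_cast le_of_mul_le_mul_right (c := (Nat.card V : ℝ)) (h4.trans_eq (by ring)) h5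

end Cfsg.Agent.H4
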