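import Mathlib

/-! An ovoid bound for families of subgroups of an abelian group of order `q⁴`. -/

set_option autoImplicit false
set_option linter.style.haveILetI false

open Finset

namespace Cfsg.Agent.H4

theorem ovoid_bound {J ι : Type*} [AddCommGroup J] [Finite J] [Finite ι] {q : ℕ} (hq : 1 < q)
    (hJ : Nat.card J = q ^ 4) (Z H : ι → AddSubgroup J) (hZ : ∀ i, Nat.card (Z i) = q)
    (hH : ∀ i, Nat.card (H i) = q ^ 3) (hle : ∀ i, Z i ≤ H i)
    (hd : ∀ i j, i ≠ j → ∀ x ∈ Z i, x ∈ H j → x = 0) : Nat.card ι ≤ q ^ 2 + 1 := by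
  classical
  haveI := Fintype.ofFinite J
  haveI := Fintype.ofFinite ι
  have q0 : 0 < q := by omega
  have cs : ∀ A : AddSubgroup J, #{x | x ∈ A} = Nat.card A := fun A => by
    rw [Nat.card_eq_fintype_card, Fintype.card_subtype]
  have h2 : ∀ i j, i ≠ j → Nat.card (H i ⊓ H j : AddSubgroup J) = q ^ 2 := fun i j hij => by
    have e1 : Z i ⊔ H j = ⊤ := by
      refine AddSubgroup.eq_top_of_card_eq _ (le_antisymm (AddSubgroup.card_le_card_addGroup _) ?_)
      have := Nat.card_le_card_of_injective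
        (fun x : Z i × H j => (⟨x.1 + x.2, AddSubgroup.add_mem_sup x.1.2 x.2.2⟩ : (Z i ⊔ H j :)))
        fun x y e => by
          have e' : (x.1 : J) + x.2 = y.1 + y.2 := congrArg Subtype.val e
          have h0 := hd i j hij (x.1 - y.1) (sub_mem x.1.2 y.1.2) (by
            rw [show (x.1 : J) - y.1 = y.2 - x.2 by rw [sub_eq_sub_iff_add_eq_add, e', add_comm]]
            exact sub_mem y.2.2 x.2.2)
          rw [sub_eq_zero] at h0
          exact Prod.ext (Subtype.ext h0) (Subtype.ext (by rw [h0] at e'; exact add_left_cancel e'))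
      rwa [Nat.card_prod, hZ, hH, ← pow_succ', ← hJ] at this
    have e2 : H i ⊔ H j = ⊤ := top_le_iff.1 (e1 ▸ sup_le_sup_right (hle i) _)
    have e3 := AddSubgroup.relIndex_sup_right (H i) (H j)
    rw [e2, AddSubgroup.relIndex_top_right, ← AddSubgroup.inf_relIndex_right] at e3
    have e4 := (H j).card_mul_index
    have e5 := AddSubgroup.card_mul_index ((H j ⊓ H i).addSubgroupOf (H i))
    rw [hH, hJ, pow_succ] at e4
    rw [Nat.card_congr (AddSubgroup.addSubgroupOfEquivOfLe inf_le_right).toEquiv,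
      ← AddSubgroup.relIndex, ← e3, Nat.eq_of_mul_eq_mul_left (by positivity) e4, hH, pow_succ,
      inf_comm] at e5
    exact Nat.eq_of_mul_eq_mul_right q0 e5
  set N := Fintype.card ι with hN
  let m : J → ℤ := fun x => ∑ i, if x ∈ H i then 1 else 0
  let o : J → ℤ := fun x => ∑ i, if x ∈ Z i ∧ x ≠ 0 then 1 else 0
  have s1 : ∑ x, m x = N * q ^ 3 := by
    rw [sum_comm]
    simp only [sum_boole, cs, hH]
    simp [hN]
  have s2 : ∑ x, m x ^ 2 = N * q ^ 3 + N * (N - 1) * q ^ 2 := by
    simp only [m, sq, sum_mul_sum]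
    rw [sum_comm, sum_congr rfl fun i _ => sum_comm,
      sum_congr rfl (g := fun _ => (q : ℤ) ^ 3 + (N - 1) * q ^ 2) fun i _ => ?_]
    · simp [hN]; ring
    · rw [← add_sum_erase _ _ (mem_univ i), sum_congr (s₁ := univ.erase i) rfl
        (g := fun _ => (q : ℤ) ^ 2) fun j hj => ?_]
      · simp only [ite_zero_mul_ite_zero, and_self, mul_one, sum_boole, cs, hH, sum_const,
          card_erase_of_mem (mem_univ i), card_univ, nsmul_eq_mul]
        rw [Nat.cast_sub (Fintype.card_pos_iff.2 ⟨i⟩)]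
        simp [hN]
      · simp only [ite_zero_mul_ite_zero, mul_one, sum_boole, ← AddSubgroup.mem_inf, cs,
          h2 i j (ne_of_mem_erase hj).symm]
        simp
  have s3 : ∑ x, o x = N * (q - 1) := by
    rw [sum_comm, sum_congr rfl (g := fun _ => (q : ℤ) - 1) fun i _ => ?_]
    · simp [hN]; ring
    · rw [sum_boole, show ({x | x ∈ Z i ∧ x ≠ 0} : Finset J) = ({x | x ∈ Z i} : Finset J).erase 0 by
        ext x; simp [and_comm], card_erase_of_mem (by simp), cs, hZ, Nat.cast_sub q0]
      simp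
  let r : J → ℤ := fun x => 1 - o x - if x = 0 then 1 else 0
  have key : ∀ x, r x ^ 2 = 1 - o x - (if x = 0 then 1 else 0) ∧
      r x * (r x * m x) = m x - o x - (if x = 0 then (N : ℤ) else 0) ∧
      (r x * m x) ^ 2 = m x ^ 2 - o x - (if x = 0 then (N : ℤ) ^ 2 else 0) := fun x => by
    by_cases h0 : x = 0
    · simp [r, o, m, h0, hN]
    · simp only [r, if_neg h0]
      by_cases h : ∃ i, x ∈ Z i
      · obtain ⟨i, hi⟩ := h
        have a : m x = 1 := by
          simp only [m]
          rw [sum_eq_single i (fun j _ hj => if_neg fun h => h0 (hd i j hj.symm x hi h)) (by simp),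
            if_pos (hle i hi)]
        have b : o x = 1 := by
          simp only [o]
          rw [sum_eq_single i (fun j _ hj => if_neg fun h => h0 (hd i j hj.symm x hi (hle j h.1)))
            (by simp), if_pos ⟨hi, h0⟩]
        simp [a, b]
      · push Not at h
        simp [o, h]
  have h := sum_mul_sq_le_sq_mul_sq univ r fun x => r x * m x
  simp only [key, sum_sub_distrib, s1, s2, s3, sum_ite_eq', mem_univ, if_true, sum_const,
    card_univ, ← Nat.card_eq_fintype_card, hJ, nsmul_eq_mul, mul_one, Nat.cast_pow] at h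
  rw [Nat.card_eq_fintype_card, ← hN]
  by_contra hc
  have h1 : (q : ℤ) ^ 2 + 1 < N := by exact_mod_cast not_le.1 hc
  have h3 : (1 : ℤ) < q := by exact_mod_cast hq
  have h4 : 0 < (N : ℤ) * ((q - 1) * (q ^ 2 - 1)) * ((N - 1 - q ^ 2) * (N - 1 + q ^ 2)) :=
    mul_pos (mul_pos (by nlinarith) (mul_pos (by linarith) (by nlinarith)))
      (mul_pos (by linarith) (by nlinarith))
  nlinarith

end Cfsg.Agent.H4
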