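import Cfsg.Agent.H4.Knorr
import Cfsg.Agent.H4.Clifford
import Cfsg.Agent.H1.SchurZ

/-! Vanishing elements of order divisible by `p` in solvable groups. -/

set_option autoImplicit false
set_option linter.unusedSectionVars false
set_option linter.style.haveILetI false

namespace Cfsg.Agent.H4

open Cfsg Cfsg.Agent.H3 Cfsg.Agent.H1 Subgroup
open scoped commutatorElement

theorem exists_regular_vector {A W : Type*} [Finite A] [CommGroup W] (φ : A → Monoid.End W)
    (hc : ∀ a b, Commute (φ a) (φ b)) (hn : ∀ a, ∃ n, φ a ^ n = 1 ∧ ∀ w : W, w ^ n = 1 → w = 1) :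
    ∃ w, ∀ a, φ a w = w → φ a = 1 := by
  have h1 : ∀ a ν, φ a (φ a ν / ν) = φ a ν / ν → φ a ν = ν := fun a ν h => by
    obtain ⟨n, h1, h2⟩ := hn a
    have : ∀ k : ℕ, (φ a ^ k) ν = ν * (φ a ν / ν) ^ k := fun k => by
      induction k with
      | zero => simp
      | succ k ih => rw [pow_succ', Monoid.End.coe_mul, Function.comp_apply, ih, map_mul, map_pow, h,
          pow_succ', ← mul_assoc, mul_div_cancel]
    have h3 := this n
    rw [h1, Monoid.End.coe_one, id, left_eq_mul] at h3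
    exact div_eq_one.1 (h2 _ h3)
  have h2 : ∀ a b w, φ a (φ b w) = φ b (φ a w) := fun a b w => DFunLike.congr_fun (hc a b).eq w
  have hw := Function.not_lt_argmin fun w : W => {a | φ a w = w}
  generalize Function.argmin (fun w : W => {a | φ a w = w}) = w at hw
  refine ⟨w, fun a ha => MonoidHom.ext fun μ => h1 a μ ?_⟩
  by_contra h
  refine hw (w * (φ a μ / μ)) ⟨fun b hb => ?_, fun hs => h ?_⟩
  · have h3 : φ b w / w = φ a (μ / φ b μ) / (μ / φ b μ) := by
      rw [Set.mem_ofPred_eq, map_mul, map_div, ← h2, ← eq_div_iff_mul_eq'] at hb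
      rw [map_div, hb]
      simp [div_eq_mul_inv, mul_comm, mul_left_comm, mul_assoc]
    have h4 := h1 a (μ / φ b μ) (by rw [← h3, map_div, h2, ha])
    exact div_eq_one.1 (by rw [h3, h4, div_self'])
  · simpa [ha] using hs ha

variable {G : Type*} [Group G] [Finite G] {p : ℕ} [hp : Fact p.Prime]

open scoped IsMulCommutative in
theorem exists_irr_vanish {V Z : Subgroup G} [V.Normal] [hZ : Z.Normal] [IsMulCommutative V]
    (hV : ¬p ∣ Nat.card V) (h1 : ∀ a ∈ Z, ∀ b ∈ Z, ⁅a, b⁆ ∈ V) (h2 : ∀ a ∈ Z, ∃ k, a ^ p ^ k ∈ V)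
    (h3 : Z ⊓ centralizer V ≤ V) : ∃ χ : IrrCharacter G, ∀ x ∈ Z, x ∉ V → χ.1 x = 0 := by
  let Φ : G →* Monoid.End (V →* ℂˣ) :=
    { toFun := fun a => MonoidHom.compHom' (MulAut.conjNormal a⁻¹ : MulAut V).toMonoidHom
      map_one' := by rw [inv_one, map_one]; rfl
      map_mul' := fun a b => by rw [mul_inv_rev, map_mul]; rfl }
  have hΦ : ∀ a μ v, Φ a μ v = μ (MulAut.conjNormal a⁻¹ v) := fun _ _ _ => rfl
  have h4 : ∀ a ∈ V, Φ a = 1 := fun a ha => MonoidHom.ext fun μ => MonoidHom.ext fun v =>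
    congrArg μ (Subtype.ext (mul_inv_eq_iff_eq_mul.2 (setLike_mul_comm (s := V) (inv_mem ha) v.2)))
  obtain ⟨l, hl⟩ := exists_regular_vector (fun a : Z => Φ a) (fun a b => by
    rw [Commute, SemiconjBy, ← map_mul, ← map_mul, ← one_mul (Φ (b * a)), ← h4 _ (h1 a a.2 b b.2),
      ← map_mul]
    congr 1
    group) fun a => by
      obtain ⟨k, hk⟩ := h2 a a.2
      refine ⟨p ^ k, by rw [← map_pow, h4 _ hk], fun w hw => MonoidHom.ext fun v => ?_⟩
      exact (pow_eq_one_iff_of_coprime (((Nat.Prime.coprime_iff_not_dvd hp.out).2 hV).pow_left k)).1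
        ⟨DFunLike.congr_fun hw v, by rw [← map_pow, pow_card_eq_one', map_one]⟩
  haveI := Fintype.ofFinite G
  haveI := Fintype.ofFinite V
  have h5 := isIrrCharacter_unitsHom l
  obtain ⟨χ, hχ, h6⟩ := exists_irr_over V h5
  obtain ⟨ψ, -, -, rfl⟩ := clifford_corr_exists V h5 _ rfl (le_inertia V h5.isClassFunction) hχ h6
  refine ⟨⟨_, hχ⟩, fun x hx hxV => indFun_eq_zero_of_not_conj _ _ fun g hg => hxV ?_⟩
  have h7 := hZ.conj_mem x hx g
  have h8 := hl ⟨_, inv_mem h7⟩ (MonoidHom.ext fun v => by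
    rw [hΦ, inv_inv]
    exact Units.ext (congrFun hg v))
  have h9 : g * x * g⁻¹ ∈ V := h3 ⟨h7, fun v hv => by
    by_contra h
    obtain ⟨μ, hμ⟩ := CommGroup.exists_apply_ne_one_of_hasEnoughRootsOfUnity V ℂ
      (a := MulAut.conjNormal (g * x * g⁻¹) ⟨v, hv⟩ / ⟨v, hv⟩) fun e =>
        h (mul_inv_eq_iff_eq_mul.1 (congrArg Subtype.val (div_eq_one.1 e))).symm
    have := DFunLike.congr_fun (DFunLike.congr_fun h8 μ) ⟨v, hv⟩
    rw [hΦ, inv_inv] at this
    exact hμ (by rw [map_div, this]; exact div_self' _)⟩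
  simpa [mul_assoc] using (inferInstance : V.Normal).conj_mem _ h9 g⁻¹

theorem exists_vanish_of_second_center {K : Subgroup G} [K.Normal] (hK : IsPGroup p K)
    (hZ : ∀ a ∈ K ⊓ centralizer K, a ≠ 1 → ∀ b ∈ K ⊓ centralizer K, b ∈ Submonoid.powers a)
    (h : ¬K ≤ centralizer K) : ∃ x ∈ K, x ∉ centralizer (K : Set G) ∧ ∃ χ : IrrCharacter G, χ.1 x = 0 := by
  haveI : Nontrivial (K ⧸ center K) := QuotientGroup.nontrivial_iff.2 fun e => h fun x hx y hy =>
    congrArg Subtype.val (mem_center_iff.1 (e.ge (mem_top (⟨x, hx⟩ : K))) ⟨y, hy⟩)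
  haveI := (hK.to_quotient (center K)).center_nontrivial
  obtain ⟨⟨x, hx⟩, h1⟩ := exists_ne (1 : center (K ⧸ center K))
  obtain ⟨x, rfl⟩ := QuotientGroup.mk_surjective x
  have h2 : (x : G) ∉ centralizer (K : Set G) := fun e => h1 (Subtype.ext ((QuotientGroup.eq_one_iff _).2
    (mem_center_iff.2 fun y => Subtype.ext (e y y.2))))
  obtain ⟨y, hy, h3⟩ : ∃ y ∈ K, y * x * y⁻¹ * (x : G)⁻¹ ≠ 1 := by
    by_contra! hh
    exact h2 fun y hy => mul_inv_eq_iff_eq_mul.1 (mul_inv_eq_one.1 (hh y hy))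
  have h4 : y * x * y⁻¹ * (x : G)⁻¹ ∈ K ⊓ centralizer K := by
    have : (⟨y, hy⟩ * x * ⟨y, hy⟩⁻¹ * x⁻¹ : K) ∈ center K := (QuotientGroup.eq_one_iff _).1 (by
      simp only [QuotientGroup.mk_mul, QuotientGroup.mk_inv]
      rw [mem_center_iff.1 hx, mul_inv_cancel_right, mul_inv_cancel])
    exact ⟨(⟨y, hy⟩ * x * ⟨y, hy⟩⁻¹ * x⁻¹ : K).2, fun z hz =>
      congrArg Subtype.val (mem_center_iff.1 this ⟨z, hz⟩)⟩
  obtain ⟨χ, hχ⟩ := not_forall.1 fun h' => h3 (eq_one_of_forall_irr h')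
  generalize hz : y * x * y⁻¹ * (x : G)⁻¹ = z at h3 h4 hχ
  have h5 : ∀ n : ℕ, χ.1 (z ^ n * x) = χ.1 x := fun n => by
    induction n with
    | zero => rw [pow_zero, one_mul]
    | succ n ih =>
      rw [← ih, ← χ.2.isClassFunction (z ^ n * x) y, pow_succ, mul_assoc _ z, ← mul_assoc y,
        (show Commute y z from h4.2 y hy).pow_right n, ← hz]
      group
  haveI := Fintype.ofFinite (K ⊓ centralizer K : Subgroup G)
  refine ⟨x, x.2, h2, χ, ?_⟩
  rcases cosetAvg_irr (K ⊓ centralizer K) χ.2 with e | e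
  · exact absurd (by rw [← e, ← mul_one z, cosetAvg_mul _ _ h4]) hχ
  · refine Eq.trans ?_ (congrFun e x)
    rw [cosetAvg, Finset.sum_congr rfl (g := fun _ => χ.1 x) fun n _ => by
      obtain ⟨k, hk⟩ := hZ z h4 h3 n n.2
      rw [← hk]
      exact h5 k, Finset.sum_const, Finset.card_univ, ← Nat.card_eq_fintype_card, nsmul_eq_mul,
      inv_mul_cancel_left₀ (natCard_ne_zero_C _)]

open scoped IsMulCommutative in
theorem mem_of_fpf {V Z : Subgroup G} [V.Normal] [IsMulCommutative V] (hV : ¬p ∣ Nat.card V)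
    (h0 : V ≠ ⊥) (hVZ : V ≤ Z) (h1 : ∀ a ∈ Z, ∀ b ∈ Z, ⁅a, b⁆ ∈ V) (h2 : ∀ a ∈ Z, a ∉ V → a ^ p = 1)
    {a b : G} (ha : a ∈ Z) (hb : b ∈ Z) (hbV : b ∉ V) : ∃ j : ℕ, a * b ^ j ∈ V := by
  by_contra! h
  have hcop := (Nat.Prime.coprime_iff_not_dvd hp.out).2 hV
  have h3 : ∀ c ∈ Z, c ∉ V → ∑ i ∈ Finset.range p, conjRep V c ^ i = 0 := fun c hc hcV =>
    LinearMap.ext fun v => by
      have e := LinearMap.congr_fun (mul_geom_sum (conjRep V c) p) v
      rw [← map_pow, h2 c hc hcV, map_one, sub_self, Module.End.mul_apply, LinearMap.sub_apply,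
        LinearMap.zero_apply, sub_eq_zero] at e
      generalize (∑ i ∈ Finset.range p, conjRep V c ^ i) v = w at e
      have e' : Commute (w.toMul : G) c := (mul_inv_eq_iff_eq_mul.1 ((conjRep_apply V c w).symm.trans
        (congrArg (fun t : Additive V => (t.toMul : G)) e))).symm
      have := h2 _ (mul_mem (hVZ w.toMul.2) hc) fun h => hcV ((mul_mem_cancel_left w.toMul.2).1 h)
      rw [e'.mul_pow, h2 c hc hcV, mul_one] at this
      exact eq_zero_of_coprime_smul (V := Additive V) (v := w) hcop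
        (Additive.toMul.injective (Subtype.ext this))
  have h4 : Commute (conjRep V a) (conjRep V b) := by
    have : conjRep V ⁅a, b⁆ = 1 := LinearMap.ext fun v => Additive.toMul.injective (Subtype.ext
      (mul_inv_eq_iff_eq_mul.2 (setLike_mul_comm (s := V) (h1 a ha b hb) v.toMul.2)))
    rw [Commute, SemiconjBy, ← map_mul, ← map_mul, ← one_mul (conjRep V (b * a)), ← this, ← map_mul]
    congr 1
    group
  have h5 := Finset.sum_eq_zero fun j (_ : j ∈ Finset.range p) =>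
    h3 _ (mul_mem ha (pow_mem hb j)) (h j)
  simp only [map_mul, map_pow, fun j => (h4.pow_right j).mul_pow, ← pow_mul] at h5
  rw [Finset.sum_comm, Finset.sum_eq_single 0 (fun i hi h0 => ?_) (by simp [hp.out.ne_zero])] at h5
  · obtain ⟨v, hv⟩ := ne_bot_iff_exists_ne_one.1 h0
    refine hv (eq_zero_of_coprime_smul (V := Additive V) (v := Additive.ofMul v) hcop ?_)
    simpa using LinearMap.congr_fun h5 (Additive.ofMul v)
  · simp only [pow_mul', ← Finset.mul_sum]
    rw [← map_pow _ b, h3 _ (pow_mem hb i) fun e => hbV ?_, mul_zero]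
    obtain ⟨k, hk⟩ := exists_pow_eq_self_of_coprime (x := b) (Nat.Coprime.coprime_dvd_right
      (orderOf_dvd_of_pow_eq_one (h2 b hb hbV))
      (Nat.coprime_of_lt_prime h0 (Finset.mem_range.1 hi) hp.out).symm)
    exact hk ▸ pow_mem e k

variable (p) in
/-- A vanishing element of order divisible by `p`. -/
def PVan (x : G) : Prop := p ∣ orderOf x ∧ ∃ χ : IrrCharacter G, χ.1 x = 0

theorem PVan.lift {H : Type*} [Group H] {f : G →* H} (hf : Function.Surjective f) {x : G}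
    (h : PVan p (f x)) : PVan p x :=
  ⟨h.1.trans (orderOf_map_dvd f x), h.2.elim fun χ hχ => ⟨⟨_, χ.2.comp_of_surjective f hf⟩, hχ⟩⟩

theorem conj_of_surj {H : Type*} [Group H] {f : G →* H} (hf : Function.Surjective f)
    (h : ∀ x y : G, PVan p x → PVan p y → IsConj x y) (x y : H) (hx : PVan p x) (hy : PVan p y) :
    IsConj x y := by
  obtain ⟨x, rfl⟩ := hf x
  obtain ⟨y, rfl⟩ := hf y
  exact f.map_isConj (h x y (hx.lift hf) (hy.lift hf))

universe u

theorem pvan_main (n : ℕ) : ∀ (G : Type u) [Group G] [Finite G], Nat.card G = n →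
    Group.IsSolvable G → pCore p G = ⊥ → (∀ x y : G, PVan p x → PVan p y → IsConj x y) →
    ¬p ^ 2 ∣ Nat.card G ∧ ((∀ x : G, ¬PVan p x) → ¬p ∣ Nat.card G) := by
  induction n using Nat.strong_induction_on with
  | _ n ih =>
  intro G _ _ hn hs h0 hc
  rcases subsingleton_or_nontrivial G with hG | hG
  · rw [Nat.card_unique]
    exact ⟨fun h => hp.out.not_dvd_one ((dvd_pow_self p two_ne_zero).trans h),
      fun _ => hp.out.not_dvd_one⟩
  obtain ⟨V, hVn, hV0, -, hmin⟩ := exists_minimal_normal_le (N := (⊤ : Subgroup G)) inferInstance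
    top_ne_bot
  have hVc := commutator_eq_bot_iff_le_centralizer.1 ((hmin ⁅V, V⁆ inferInstance
    (commutator_le_left _ _)).resolve_right (Group.IsSolvable.commutator_lt_of_ne_bot hV0).ne)
  haveI : IsMulCommutative V := le_centralizer_iff_isMulCommutative.1 hVc
  have hF : ∀ (N : Subgroup G), N.Normal → Group.IsNilpotent N → ∀ x ∈ N, ∀ k, x ^ p ^ k = 1 → x = 1 :=
    fun N h1 h2 x hx k hk => mem_bot.1 (h0 ▸ le_pCore_of_le_fittingSubgroup (P := zpowers x)
      (IsPGroup.of_card_dvd_pow (Nat.card_zpowers x ▸ orderOf_dvd_of_pow_eq_one hk))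
      ((zpowers_le.2 hx).trans (le_fittingSubgroup h1 h2)) (mem_zpowers x))
  have hV : ¬p ∣ Nat.card V := fun h => by
    obtain ⟨x, hx⟩ := exists_prime_orderOf_dvd_card' p h
    have := hF V hVn isNilpotent_of_isMulCommutative x x.2 1 (by
      rw [pow_one, ← hx, ← coe_pow, pow_orderOf_eq_one, coe_one])
    exact hp.out.one_lt.ne (by rw [← hx, show x = 1 from Subtype.ext this, orderOf_one])
  have hcop := (Nat.Prime.coprime_iff_not_dvd hp.out).2 hV
  let f := QuotientGroup.mk' V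
  have hf := QuotientGroup.mk'_surjective V
  have hf1 : ∀ x, f x = 1 ↔ x ∈ V := fun x => QuotientGroup.eq_one_iff x
  set K := pCore p (G ⧸ V)
  have hK : IsPGroup p K := pCore_isPGroup p _
  have hK' : ∀ a, f a ∈ K → ∃ k, a ^ p ^ k ∈ V := fun a ha =>
    (hK ⟨_, ha⟩).imp fun k hk => (hf1 _).1 ((map_pow f a _).trans (congrArg Subtype.val hk))
  have e1 : Nat.card G = Nat.card ((G ⧸ V) ⧸ K) * Nat.card K * Nat.card V := by
    rw [← card_eq_card_quotient_mul_card_subgroup, ← card_eq_card_quotient_mul_card_subgroup]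
  have hs' := (QuotientGroup.mk'_surjective K).comp hf
  obtain ⟨i1, i2⟩ := ih _ (by
      have := (one_lt_card_iff_ne_bot V).2 hV0
      have := Nat.card_pos (α := (G ⧸ V) ⧸ K)
      have := Nat.card_pos (α := K)
      rw [← hn, e1]
      nlinarith [Nat.mul_le_mul_left (Nat.card ((G ⧸ V) ⧸ K)) this])
    ((G ⧸ V) ⧸ K) rfl inferInstance (pCore_quotient_pCore p _)
    (conj_of_surj (f := (QuotientGroup.mk' K).comp f) hs' hc)
  by_cases hK0 : K = ⊥
  · rw [e1, card_eq_one.2 hK0, mul_one]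
    exact ⟨fun h => i1 ((hcop.pow_left 2).dvd_of_dvd_mul_right h), fun h h' =>
      i2 (fun x hx => by
        obtain ⟨x, rfl⟩ := hs' x
        exact h x (hx.lift (f := (QuotientGroup.mk' K).comp f) hs')) (hcop.dvd_of_dvd_mul_right h')⟩
  let Z := (K ⊓ centralizer K).comap f
  have hVZ : V ≤ Z := fun x hx => by
    rw [mem_comap, (hf1 x).2 hx]
    exact one_mem _
  have z1 : ∀ a ∈ Z, ∀ b ∈ Z, ⁅a, b⁆ ∈ V := fun a ha b hb => (hf1 _).1 (by
    rw [map_commutatorElement, commutatorElement_eq_one_iff_mul_comm]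
    exact hb.2 _ ha.1)
  obtain ⟨χ, hχ⟩ := exists_irr_vanish hV z1 (fun a ha => hK' a ha.1) fun x hx => by
    haveI := hK.isNilpotent
    obtain ⟨k, hk⟩ := hK' x hx.1.1
    have := hF (K.comap f ⊓ centralizer V) inferInstance (Subgroup.isNilpotent_of_ker_le_center
      ((f.comp (Subgroup.subtype _)).codRestrict K fun y => y.2.1) fun y hy => mem_center_iff.2 fun z =>
        Subtype.ext (z.2.2 y ((hf1 _).1 (congrArg Subtype.val hy))).symm) (x ^ Nat.card V)
      (pow_mem (show x ∈ K.comap f ⊓ centralizer V from ⟨hx.1.1, hx.2⟩) _) k (by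
        rw [pow_right_comm]
        exact congrArg Subtype.val (pow_card_eq_one' (x := (⟨_, hk⟩ : V))))
    exact (hf1 x).1 ((pow_eq_one_iff_of_coprime (hcop.pow_left k)).1
      ⟨by rw [← map_pow, (hf1 _).2 hk], by rw [← map_pow, this, map_one]⟩)
  have z2 : ∀ x, f x ∈ K → x ∉ V → p ∣ orderOf (f x) := fun x hx h => by
    obtain ⟨k, hk⟩ := IsPGroup.iff_orderOf.1 hK ⟨_, hx⟩
    rw [orderOf_mk] at hk
    refine hk ▸ dvd_pow_self p ?_
    rintro rfl
    exact h ((hf1 x).1 (orderOf_eq_one_iff.1 hk))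
  have z3 : ∀ x ∈ Z, x ∉ V → PVan p x := fun x hx h =>
    ⟨(z2 x hx.1 h).trans (orderOf_map_dvd f x), χ, hχ x hx h⟩
  obtain ⟨z, hz, hzV, k, hzk⟩ : ∃ z ∈ Z, z ∉ V ∧ ∃ k, z ^ p ^ k = 1 := by
    haveI := (nontrivial_iff_ne_bot K).2 hK0
    haveI := hK.center_nontrivial
    obtain ⟨⟨⟨y, hy⟩, h1⟩, h2⟩ := exists_ne (1 : center K)
    obtain ⟨y, rfl⟩ := hf y
    obtain ⟨k, hk⟩ := hK' y hy
    refine ⟨y ^ Nat.card V, pow_mem (show y ∈ Z from ⟨hy, fun w hw =>
      congrArg Subtype.val (mem_center_iff.1 h1 ⟨w, hw⟩)⟩) _, fun h => h2 (Subtype.ext (Subtype.ext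
        ((pow_eq_one_iff_of_coprime (hcop.pow_left k)).1 ⟨?_, ?_⟩))), k, ?_⟩
    · rw [← map_pow, (hf1 _).2 hk]
    · rw [← map_pow, (hf1 _).2 h]
    · rw [pow_right_comm]
      exact congrArg Subtype.val (pow_card_eq_one' (x := (⟨_, hk⟩ : V)))
  refine ⟨?_, fun h => absurd (z3 z hz hzV) (h z)⟩
  have z4 : ∀ x, PVan p x → x ∈ Z := fun x hx => by
    obtain ⟨c, rfl⟩ := isConj_iff.1 (hc z x (z3 z hz hzV) hx)
    exact (inferInstance : Z.Normal).conj_mem z hz c
  have ho : ∀ x y : G, IsConj x y → orderOf x = orderOf y := fun x y ⟨c, h⟩ => h.orderOf_eq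
  have z5 : z ^ p = 1 := by
    by_cases h : z ^ p ∈ V
    · refine (pow_eq_one_iff_of_coprime (hcop.pow_left k)).1 ⟨by rw [pow_right_comm, hzk, one_pow], ?_⟩
      exact congrArg Subtype.val (pow_card_eq_one' (x := (⟨_, h⟩ : V)))
    · have h1 := ho _ _ (hc _ _ (z3 _ (pow_mem hz p) h) (z3 z hz hzV))
      rw [orderOf_pow_of_dvd hp.out.ne_zero (z3 z hz hzV).1] at h1
      exact absurd h1 (Nat.div_lt_self (orderOf_pos z) hp.out.one_lt).ne
  have z6 : ∀ a ∈ Z, a ∉ V → a ^ p = 1 := fun a ha h => orderOf_dvd_iff_pow_eq_one.1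
    (ho _ _ (hc _ _ (z3 a ha h) (z3 z hz hzV)) ▸ orderOf_dvd_of_pow_eq_one z5)
  have z7 : ∀ a ∈ K ⊓ centralizer K, a ≠ 1 → ∀ b ∈ K ⊓ centralizer K, b ∈ Submonoid.powers a :=
    fun a ha h b hb => by
      obtain ⟨a, rfl⟩ := hf a
      obtain ⟨b, rfl⟩ := hf b
      obtain ⟨j, hj⟩ := mem_of_fpf hV hV0 hVZ z1 z6 (inv_mem hb) ha fun e => h ((hf1 a).2 e)
      have := (hf1 _).2 hj
      rw [map_mul, map_inv, map_pow, inv_mul_eq_one] at this
      exact ⟨j, this.symm⟩
  have z8 : K ≤ centralizer K := by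
    by_contra h
    obtain ⟨x, h1, h2, h3⟩ := exists_vanish_of_second_center hK z7 h
    obtain ⟨x, rfl⟩ := hf x
    exact h2 (z4 x (PVan.lift hf ⟨z2 x h1 fun e => h2 ((hf1 x).2 e ▸ one_mem _), h3⟩)).2
  have z9 : Nat.card K ∣ p := by
    rw [show K = zpowers (f z) from le_antisymm (fun b hb => mem_powers_iff_mem_zpowers.1
      (z7 _ hz (mt (hf1 z).1 hzV) b ⟨hb, z8 hb⟩)) (zpowers_le.2 hz.1), Nat.card_zpowers]
    exact orderOf_dvd_of_pow_eq_one (by rw [← map_pow, z5, map_one])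
  intro h
  refine i2 (fun x hx => ?_) (Nat.dvd_of_mul_dvd_mul_right hp.out.pos (sq p ▸
    ((hcop.pow_left 2).dvd_of_dvd_mul_right (e1 ▸ h)).trans (mul_dvd_mul_left _ z9)))
  obtain ⟨x, rfl⟩ := hs' x
  have := hx.1
  rw [Function.comp_apply, QuotientGroup.mk'_apply, (QuotientGroup.eq_one_iff _).2
    (z4 x (hx.lift (f := (QuotientGroup.mk' K).comp f) hs')).1, orderOf_one] at this
  exact hp.out.not_dvd_one this

theorem card_sylow_le_of_pvan (hs : Group.IsSolvable G)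
    (hc : ∀ x y : G, PVan p x → PVan p y → IsConj x y) (P : Sylow p G) :
    Nat.card P ≤ p * Nat.card (pCore p G) := by
  have h1 := (pvan_main _ (G ⧸ pCore p G) rfl inferInstance (pCore_quotient_pCore p G)
    (conj_of_surj (QuotientGroup.mk'_surjective _) hc)).1
  obtain ⟨k, hk⟩ := IsPGroup.iff_card.1 P.2
  obtain ⟨j, hj⟩ := IsPGroup.iff_card.1 (pCore_isPGroup p G)
  have h2 := card_subgroup_dvd_card (P : Subgroup G)
  rw [card_eq_card_quotient_mul_card_subgroup (pCore p G), hk, hj] at h2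
  rw [hk, hj, ← pow_succ']
  refine Nat.pow_le_pow_right hp.out.pos (not_lt.1 fun h => h1 ?_)
  exact Nat.dvd_of_mul_dvd_mul_right (pow_pos hp.out.pos j)
    (pow_add p 2 j ▸ (pow_dvd_pow p (by omega)).trans h2)

end Cfsg.Agent.H4
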