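import Cfsg.Agent.H4.Sp4L

/-! Local lemmas for fusion systems over a Sylow subgroup of `Sp₄(q)`: cubic action. -/

set_option autoImplicit false
set_option linter.unusedSectionVars false
set_option linter.style.haveILetI false

namespace Cfsg.Agent.H4.Sp

/-- The last coordinate axis. -/
def Z0 (K : Type*) [Field K] : AddSubgroup (K × K × K) where
  carrier := {x | x.1 = 0 ∧ x.2.1 = 0}
  zero_mem' := ⟨rfl, rfl⟩
  add_mem' := fun {a b} ha hb => ⟨by simp [ha.1, hb.1], by simp [ha.2, hb.2]⟩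
  neg_mem' := fun {a} ha => ⟨by simp [ha.1], by simp [ha.2]⟩

/-- The plane of the last two coordinates. -/
def Z2 (K : Type*) [Field K] : AddSubgroup (K × K × K) where
  carrier := {x | x.1 = 0}
  zero_mem' := rfl
  add_mem' := fun {a b} (ha : a.1 = 0) (hb : b.1 = 0) => by simp [ha, hb]
  neg_mem' := fun {a} (ha : a.1 = 0) => by simp [ha]

variable {Γ K : Type*} [Group Γ] [Finite Γ] [Field K] [Finite K] [DistribMulAction Γ (K × K × K)]
  {p : ℕ} [hp : Fact p.Prime] [CharP K p]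

theorem mem_Z0 {x : K × K × K} : x ∈ Z0 K ↔ x.1 = 0 ∧ x.2.1 = 0 := Iff.rfl
theorem mem_Z2 {x : K × K × K} : x ∈ Z2 K ↔ x.1 = 0 := Iff.rfl
theorem Z0_le : Z0 K ≤ Z2 K := fun _ h => h.1

theorem card_Z0 : Nat.card (Z0 K) = Nat.card K :=
  Nat.card_congr ⟨fun x => x.1.2.2, fun w => ⟨(0, 0, w), rfl, rfl⟩, fun x => Subtype.ext
    (Prod.ext x.2.1.symm (Prod.ext x.2.2.symm rfl)), fun _ => rfl⟩

theorem card_Z2 : Nat.card (Z2 K) = Nat.card K ^ 2 := by
  rw [pow_two, ← Nat.card_prod]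
  exact Nat.card_congr ⟨fun x => x.1.2, fun w => ⟨(0, w), rfl⟩, fun x => Subtype.ext
    (Prod.ext x.2.symm rfl), fun _ => rfl⟩

theorem card_V : Nat.card (K × K × K) = Nat.card K ^ 3 := by
  rw [Nat.card_prod, Nat.card_prod]; ring

/-- The symmetric square of a unitriangular matrix. -/
def sT (t : K) (x : K × K × K) : K × K × K :=
  (x.1, x.2.1 + t * x.1, x.2.2 + 2 * t * x.2.1 + t ^ 2 * x.1)

theorem p_smul (x : K × K × K) : p • x = 0 := by
  have : ∀ a : K, p • a = 0 := fun a => by rw [nsmul_eq_mul, CharP.cast_eq_zero, zero_mul]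
  exact Prod.ext (this _) (Prod.ext (this _) (this _))

theorem inv_mem_of_mem {A : AddSubgroup (K × K × K)} {g : Γ} (h : ∀ x ∈ A, g • x ∈ A) :
    ∀ x ∈ A, g⁻¹ • x ∈ A := by
  have key : ∀ n : ℕ, ∀ x ∈ A, g ^ n • x ∈ A := fun n => by
    induction n with
    | zero => simp
    | succ n ih => intro x hx; rw [pow_succ, mul_smul]; exact ih _ (h x hx)
  have e : g⁻¹ = g ^ (orderOf g - 1) := by
    rw [inv_eq_iff_mul_eq_one, ← pow_succ', Nat.sub_add_cancel (orderOf_pos g), pow_orderOf_eq_one]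
  rw [e]; exact key _

/-- A Sylow subgroup acting as the symmetric square of the unitriangular group, and a nonzero
vector all of whose conjugates are fixed by it. -/
structure Cub (P : Sylow p Γ) (r : K × K × K) : Prop where
  odd : (2 : K) ≠ 0
  faith : ∀ g : Γ, (∀ x : K × K × K, g • x = x) → g = 1
  form : ∀ s ∈ (P : Subgroup Γ), ∃ t : K, ∀ x, s • x = sT t x
  surj : ∀ t : K, ∃ s ∈ (P : Subgroup Γ), ∀ x, s • x = sT t x
  r0 : r ≠ 0
  rZ : ∀ g : Γ, g • r ∈ Z0 K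

namespace Cub

variable {P : Sylow p Γ} {r : K × K × K}

theorem fix (h : Cub P r) {s : Γ} (hs : s ∈ (P : Subgroup Γ)) {x : K × K × K} (hx : x ∈ Z0 K) :
    s • x = x := by
  obtain ⟨t, e⟩ := h.form s hs
  rw [e]
  exact Prod.ext rfl (Prod.ext (by simp [sT, hx.1]) (by simp [sT, hx.1, hx.2]))

theorem sub2 (h : Cub P r) {s : Γ} (hs : s ∈ (P : Subgroup Γ)) (x : K × K × K) :
    s • x - x ∈ Z2 K := by
  obtain ⟨t, e⟩ := h.form s hs
  rw [e]; simp [sT, mem_Z2]

theorem sub0 (h : Cub P r) {s : Γ} (hs : s ∈ (P : Subgroup Γ)) {x : K × K × K} (hx : x ∈ Z2 K) :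
    s • x - x ∈ Z0 K := by
  obtain ⟨t, e⟩ := h.form s hs
  rw [e]; simp [sT, mem_Z0, mem_Z2.1 hx]

theorem of_fix (h : Cub P r) {s : Γ} (hs : s ∈ (P : Subgroup Γ)) (h1 : s ≠ 1) {x : K × K × K}
    (hx : s • x = x) : x ∈ Z0 K := by
  obtain ⟨t, e⟩ := h.form s hs
  have ht : t ≠ 0 := by
    rintro rfl
    exact h1 (h.faith s fun y => by rw [e]; simp [sT])
  rw [e] at hx
  have a1 : t * x.1 = 0 := by simpa [sT] using congrArg (fun y => y.2.1) hx
  have a2 := congrArg (fun y => y.2.2) hx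
  simp only [sT] at a2
  have b1 : x.1 = 0 := (mul_eq_zero.1 a1).resolve_left ht
  refine ⟨b1, ?_⟩
  have : 2 * t * x.2.1 = 0 := by rw [b1] at a2; linear_combination a2
  exact (mul_eq_zero.1 this).resolve_left (mul_ne_zero h.odd ht)

theorem move (h : Cub P r) {x d : K × K × K} (hx : x ∈ Z2 K) (hx' : x ∉ Z0 K) (hd : d ∈ Z0 K) :
    ∃ s ∈ (P : Subgroup Γ), s • x = x + d := by
  have hv : x.2.1 ≠ 0 := fun h0 => hx' ⟨hx, h0⟩
  obtain ⟨s, hs, e⟩ := h.surj (d.2.2 / (2 * x.2.1))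
  refine ⟨s, hs, ?_⟩
  have := h.odd
  rw [e]
  refine Prod.ext (by simp [sT, hd.1]) (Prod.ext (by simp [sT, hd.2, mem_Z2.1 hx]) ?_)
  simp only [sT, mem_Z2.1 hx, Prod.snd_add]
  field_simp
  ring

theorem p_ne_two (h : Cub P r) : p ≠ 2 := by
  rintro rfl
  exact h.odd (by exact_mod_cast CharP.cast_eq_zero K 2)

theorem chain (h : Cub P r) {g : Γ} (h1 : ∀ x : K × K × K, g • x - x ∈ Z2 K)
    (h2 : ∀ x ∈ Z2 K, g • x - x ∈ Z0 K) (h3 : ∀ x ∈ Z0 K, g • x = x) : g ∈ (P : Subgroup Γ) := by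
  let C : Subgroup Γ :=
    { carrier := {g | (∀ x : K × K × K, g • x - x ∈ Z2 K) ∧ (∀ x ∈ Z2 K, g • x - x ∈ Z0 K) ∧
        ∀ x ∈ Z0 K, g • x = x}
      one_mem' := ⟨by simp, by simp, by simp⟩
      mul_mem' := by
        rintro a b ⟨a1, a2, a3⟩ ⟨b1, b2, b3⟩
        refine ⟨fun x => ?_, fun x hx => ?_, fun x hx => by rw [mul_smul, b3 x hx, a3 x hx]⟩
        · simpa [mul_smul] using (Z2 K).add_mem (a1 (b • x)) (b1 x)
        · have : b • x ∈ Z2 K := by simpa using (Z2 K).add_mem (Z0_le (b2 x hx)) hx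
          simpa [mul_smul] using (Z0 K).add_mem (a2 _ this) (b2 x hx)
      inv_mem' := by
        rintro a ⟨a1, a2, a3⟩
        refine ⟨fun x => ?_, fun x hx => ?_, fun x hx => by rw [inv_smul_eq_iff, a3 x hx]⟩
        · simpa using (Z2 K).neg_mem (a1 (a⁻¹ • x))
        · have : a⁻¹ • x ∈ Z2 K := inv_mem_of_mem (fun y hy => by
            simpa using (Z2 K).add_mem (Z0_le (a2 y hy)) hy) x hx
          simpa using (Z0 K).neg_mem (a2 _ this) }
  have hC : IsPGroup p C := by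
    rintro ⟨c, c1, c2, c3⟩
    refine ⟨1, Subtype.ext (h.faith _ fun x => ?_)⟩
    change (c ^ p ^ 1) • x = x
    have key : ∀ n : ℕ, c ^ n • x = x + n • (c • x - x) +
        n.choose 2 • (c • (c • x - x) - (c • x - x)) := fun n => by
      induction n with
      | zero => simp
      | succ n ih =>
        rw [pow_succ', mul_smul, ih, smul_add, smul_add, smul_comm c n, smul_comm c (n.choose 2),
          c3 _ (c2 _ (c1 x)), Nat.choose_succ_succ' n 1, Nat.choose_one_right, add_smul, add_smul,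
          one_smul, smul_sub n (c • (c • x - x))]
        abel
    obtain ⟨m, hm⟩ := hp.out.dvd_choose_self (k := 2) (by norm_num)
      (lt_of_le_of_ne hp.out.two_le h.p_ne_two.symm)
    rw [pow_one, key, hm, mul_smul, p_smul, p_smul]; simp
  have := P.is_maximal' hC fun s hs => ⟨h.sub2 hs, fun x hx => h.sub0 hs hx, fun x hx => h.fix hs hx⟩
  rw [← this]
  exact ⟨h1, h2, h3⟩

theorem norm0 (h : Cub P r) {g : Γ} (hg : g ∈ Subgroup.normalizer (P : Set Γ)) {x : K × K × K}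
    (hx : x ∈ Z0 K) : g • x ∈ Z0 K := by
  obtain ⟨s, hs, e⟩ := h.surj 1
  have h1 : s ≠ 1 := by
    rintro rfl
    simpa [sT] using congrArg (fun y => y.2.1) (e (1, 0, 0))
  refine h.of_fix hs h1 ?_
  have : g⁻¹ * s * g ∈ (P : Subgroup Γ) := (Subgroup.mem_normalizer_iff''.1 hg s).1 hs
  have e2 := h.fix this hx
  rwa [mul_smul, mul_smul, inv_smul_eq_iff] at e2

theorem norm2 (h : Cub P r) {g : Γ} (hg : g ∈ Subgroup.normalizer (P : Set Γ)) {x : K × K × K}
    (hx : x ∈ Z2 K) : g • x ∈ Z2 K := by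
  obtain ⟨s, hs, e⟩ := h.surj 1
  have : g⁻¹ * s * g ∈ (P : Subgroup Γ) := (Subgroup.mem_normalizer_iff''.1 hg s).1 hs
  have e2 := h.norm0 hg (h.sub0 this hx)
  rw [smul_sub, mul_smul, mul_smul, smul_inv_smul, e] at e2
  simpa [sT, mem_Z2] using e2.2

theorem f2 (h : Cub P r) (g : Γ) {x : K × K × K} (hx : x ∈ Z0 K) (hg : g • x ∈ Z2 K) :
    g • x ∈ Z0 K := by
  by_contra hn
  have hr : r ∈ Z0 K := by simpa using h.rZ 1
  obtain ⟨s, hs, e⟩ := h.move hg hn hr
  obtain ⟨k, hk⟩ := sylow_pow P hs g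
  have := trick P (x := x) (d := g⁻¹ • r) (fun s hs => h.fix hs hx) (fun s hs => h.fix hs (h.rZ _))
    hk (by rw [mul_smul, mul_smul, smul_inv_smul, h.fix hs hr])
    (by rw [mul_smul, mul_smul, e, smul_add, inv_smul_smul])
  exact h.r0 (by rw [inv_smul_eq_iff, smul_zero] at this; exact this)

theorem conj_mem (h : Cub P r) {g : Γ} (h0 : ∀ x ∈ Z0 K, g • x ∈ Z0 K)
    (h2 : ∀ x ∈ Z2 K, g • x ∈ Z2 K) {s : Γ} (hs : s ∈ (P : Subgroup Γ)) :
    g * s * g⁻¹ ∈ (P : Subgroup Γ) := by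
  have e : ∀ x : K × K × K, (g * s * g⁻¹) • x - x = g • (s • g⁻¹ • x - g⁻¹ • x) := fun x => by
    rw [smul_sub, mul_smul, mul_smul, smul_inv_smul]
  refine h.chain (fun x => ?_) (fun x hx => ?_) fun x hx => ?_
  · rw [e]; exact h2 _ (h.sub2 hs _)
  · rw [e]; exact h0 _ (h.sub0 hs (inv_mem_of_mem h2 x hx))
  · rw [mul_smul, mul_smul, h.fix hs (inv_mem_of_mem h0 x hx), smul_inv_smul]

theorem mem_norm (h : Cub P r) {g : Γ} (h0 : ∀ x ∈ Z0 K, g • x ∈ Z0 K) :
    g ∈ Subgroup.normalizer (P : Set Γ) := by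
  by_cases h2 : ∀ x ∈ Z2 K, g • x ∈ Z2 K
  · refine Subgroup.mem_normalizer_iff.2 fun s => ⟨h.conj_mem h0 h2, fun hs => ?_⟩
    simpa [mul_assoc] using h.conj_mem (inv_mem_of_mem h0) (inv_mem_of_mem h2) hs
  exfalso
  let H : Subgroup Γ :=
    { carrier := {g | ∀ x ∈ Z0 K, g • x ∈ Z0 K}
      one_mem' := by simp
      mul_mem' := fun {a b} ha hb x hx => by rw [mul_smul]; exact ha _ (hb x hx)
      inv_mem' := fun {a} ha => inv_mem_of_mem ha }
  let π : K × K × K → K × K := fun x => (x.1, x.2.1)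
  have hπ : ∀ (a : H) (x : K × K × K), π ((a : Γ) • ((x.1, x.2.1, 0) : K × K × K)) =
      π ((a : Γ) • x) := fun a x => by
    have e : x = (x.1, x.2.1, 0) + (0, 0, x.2.2) := by simp
    have := a.2 (0, 0, x.2.2) ⟨rfl, rfl⟩
    conv_rhs => rw [e, smul_add]
    simp [π, this.1, this.2]
  letI : DistribMulAction H (K × K) :=
    { smul := fun a y => π ((a : Γ) • ((y.1, y.2, 0) : K × K × K))
      one_smul := fun y => by change π ((1 : Γ) • _) = _; rw [one_smul]
      mul_smul := fun a b y => by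
        change π (((a : Γ) * b) • _) = π ((a : Γ) • (_, _, _))
        rw [mul_smul, ← hπ a]; rfl
      smul_zero := fun a => by
        change π ((a : Γ) • (0 : K × K × K)) = _; rw [smul_zero]; rfl
      smul_add := fun a y z => by
        change π ((a : Γ) • _) = π ((a : Γ) • _) + π ((a : Γ) • _)
        have : (((y + z).1, (y + z).2, 0) : K × K × K) = (y.1, y.2, 0) + (z.1, z.2, 0) := by simp
        rw [this, smul_add]; rfl }
  have hs : ∀ (a : H) (u v : K), a • (u, v) = π ((a : Γ) • ((u, v, 0) : K × K × K)) :=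
    fun _ _ _ => rfl
  have hPH : (P : Subgroup Γ) ≤ H := fun s hs x hx => by rw [h.fix hs hx]; exact hx
  have hQ : Quad K ((P.subtype hPH : Sylow p H) : Subgroup H) := by
    refine ⟨fun s hs' => ?_, fun t => ?_⟩
    · obtain ⟨t, e⟩ := h.form s hs'
      exact ⟨t, fun x y => by rw [hs, e]; rfl⟩
    · obtain ⟨s, hs', e⟩ := h.surj t
      exact ⟨⟨s, hPH hs'⟩, hs', fun x y => by rw [hs, e]; rfl⟩
  push Not at h2
  obtain ⟨x, hx, hx'⟩ := h2
  let N : Subgroup H :=
    { carrier := {g | ∀ x ∈ Z0 K, (g : Γ) • x = x}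
      one_mem' := by simp
      mul_mem' := fun {a b} ha hb x hx => by rw [Subgroup.coe_mul, mul_smul, hb x hx, ha x hx]
      inv_mem' := fun {a} ha x hx => by rw [Subgroup.coe_inv, inv_smul_eq_iff, ha x hx] }
  haveI : N.Normal := ⟨fun a ha b x hx => by
    rw [Subgroup.coe_mul, Subgroup.coe_mul, mul_smul, mul_smul, ha _ ((b⁻¹).2 x hx),
      Subgroup.coe_inv, smul_inv_smul]⟩
  obtain ⟨γ, hγ⟩ := hQ.torus (g := ⟨g, h0⟩) (y₀ := x.2.1) (by
    have := hπ ⟨g, h0⟩ x
    rw [mem_Z2.1 hx] at this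
    rw [hs, this]; exact hx') N fun s hs x hx => h.fix hs hx
  obtain ⟨a, ha, e⟩ := hγ (-1) (by simp)
  have e1 : ∀ x : K × K × K, π ((a : Γ) • x) = (-x.1, -x.2.1) := fun x => by
    have := e x.1 (x.2.1 - γ x.1)
    rw [sub_add_cancel, hs, hπ] at this
    rw [this]
    refine Prod.ext (by simp [div_neg]) ?_
    simp only [div_neg, div_one, map_neg]; ring
  obtain ⟨s, hs', e2⟩ := h.surj 1
  obtain ⟨t, e3⟩ := h.form _ (h.conj_mem a.2 (fun x hx => by
    have := congrArg Prod.fst (e1 x)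
    rw [mem_Z2.1 hx] at this
    simpa [π, mem_Z2] using this) hs')
  have e4 : ∀ x : K × K × K, (a : Γ) • sT 1 x = sT t ((a : Γ) • x) := fun x => by
    rw [← e3, ← e2, mul_smul, mul_smul, inv_smul_smul]
  have t1 : t = 1 := by
    have a1 := congrArg Prod.snd (e1 (sT 1 (1, 0, 0)))
    have a2 := e1 (1, 0, 0)
    rw [e4] at a1
    simp only [π, sT, Prod.mk.injEq] at a1 a2
    rw [a2.1, a2.2] at a1
    linear_combination -a1
  have a1 := e4 (0, 1, 0)
  have a2 : sT 1 ((0, 1, 0) : K × K × K) = (0, 1, 0) + (0, 0, 2) := by simp [sT]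
  have a3 := e1 (0, 1, 0)
  rw [a2, smul_add, ha (0, 0, 2) ⟨rfl, rfl⟩, t1] at a1
  have a4 := congrArg (fun y => y.2.2) a1
  simp only [π, sT, Prod.mk.injEq, Prod.snd_add] at a3 a4
  rw [a3.1, a3.2] at a4
  have : (2 : K) * 2 = 0 := by linear_combination a4
  exact mul_ne_zero h.odd h.odd this

theorem ti (h : Cub P r) {g s : Γ} (hs : s ∈ (P : Subgroup Γ)) (h1 : s ≠ 1)
    (hg : g * s * g⁻¹ ∈ (P : Subgroup Γ)) : g ∈ Subgroup.normalizer (P : Set Γ) :=
  h.mem_norm fun x hx => h.of_fix hg (by simpa using h1)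
    (by rw [mul_smul, mul_smul, inv_smul_smul, h.fix hs hx])

theorem mem_of_norm {s g : Γ} (hs : s ∈ (P : Subgroup Γ))
    (hg : g * s * g⁻¹ ∈ Subgroup.normalizer (P : Set Γ)) : g * s * g⁻¹ ∈ (P : Subgroup Γ) := by
  obtain ⟨k, hk⟩ := sylow_pow P hs g⁻¹
  rw [inv_inv] at hk
  have hp : IsPGroup p (Subgroup.zpowers (g * s * g⁻¹)) := by
    rintro ⟨_, n, rfl⟩
    refine ⟨k, Subtype.ext ?_⟩
    change ((g * s * g⁻¹) ^ n) ^ p ^ k = 1
    rw [← zpow_natCast, ← zpow_mul, mul_comm, zpow_mul, zpow_natCast, hk, one_zpow]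
  exact ((hp.inf_normalizer_sylow P).le ⟨Subgroup.mem_zpowers _, hg⟩).2

theorem inter (h : Cub P r) {g : Γ} (hg : g ∉ Subgroup.normalizer (P : Set Γ)) {d : K × K × K}
    (hd : d ∈ Z0 K) (hd' : g⁻¹ • d ∈ Z2 K) : d ∈ AddSubgroup.zmultiples r := by
  replace hd' := h.f2 g⁻¹ hd hd'
  have hr : r ∈ Z0 K := by simpa using h.rZ 1
  obtain ⟨x, hx, hx2, hx0⟩ : ∃ x ∈ Z2 K, g⁻¹ • x ∈ Z2 K ∧ x ∉ Z0 K := by
    by_contra hn
    push Not at hn
    let f : Z2 K →+ K := (AddMonoidHom.fst K (K × K)).comp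
      ((DistribSMul.toAddMonoidHom _ g⁻¹).comp (Z2 K).subtype)
    have a1 := AddSubgroup.card_mul_index f.ker
    rw [AddSubgroup.index_ker, card_Z2] at a1
    have a2 : Nat.card f.range ≤ Nat.card K := Nat.card_le_card_of_injective _ Subtype.val_injective
    have a3 : Nat.card K ≤ Nat.card f.ker := by
      refine Nat.le_of_mul_le_mul_right ?_ (Nat.card_pos (α := K))
      calc _ = _ := (pow_two _).symm
        _ = _ := a1.symm
        _ ≤ _ := Nat.mul_le_mul_left _ a2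
    have a4 : f.ker.map (Z2 K).subtype = Z0 K := AddSubgroup.eq_of_le_of_card_ge (by
      rintro _ ⟨y, hy, rfl⟩
      exact hn y y.2 hy) (by
      rw [AddSubgroup.card_map_of_injective Subtype.val_injective, card_Z0]; exact a3)
    refine hg ((Subgroup.inv_mem_iff _).1 (h.mem_norm fun y hy => h.f2 _ hy ?_))
    obtain ⟨z, hz, rfl⟩ := a4.ge hy
    exact hz
  have hx0' : g⁻¹ • x ∉ Z0 K := fun h0 => hx0 (by simpa using h.f2 g h0 (by simpa using hx))
  by_contra hn
  obtain ⟨s₁, hs₁, e₁⟩ := h.move hx hx0 hd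
  obtain ⟨s₂, hs₂, e₂⟩ := h.move hx hx0 hr
  obtain ⟨s₀, hs₀, e₀⟩ := h.move hx2 hx0' (h.rZ g⁻¹)
  let K0 : Subgroup Γ :=
    { carrier := {k | k • d = d ∧ k • r = r ∧ k • x = x}
      one_mem' := by simp
      mul_mem' := fun {a b} ha hb => by simp [mul_smul, ha.1, ha.2.1, ha.2.2, hb.1, hb.2.1, hb.2.2]
      inv_mem' := fun {a} ha => by simp [inv_smul_eq_iff, ha.1, ha.2.1, ha.2.2] }
  have hnorm : ∀ s ∈ (P : Subgroup Γ), ∀ e, s • x = x + e → (∀ k ∈ K0, k • e = e) → e ∈ Z0 K →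
      s ∈ Subgroup.normalizer (K0 : Set Γ) := fun s hs e h1 h2 h3 => by
    refine Subgroup.mem_normalizer_fintype fun k hk => ⟨?_, ?_, ?_⟩
    · rw [mul_smul, mul_smul, h.fix (inv_mem hs) hd, hk.1, h.fix hs hd]
    · rw [mul_smul, mul_smul, h.fix (inv_mem hs) hr, hk.2.1, h.fix hs hr]
    · have : s⁻¹ • x = x - e := by rw [inv_smul_eq_iff, smul_sub, h1, h.fix hs h3]; simp
      rw [mul_smul, mul_smul, this, smul_sub, hk.2.2, h2 k hk, ← this, smul_inv_smul]
  have pw : ∀ s ∈ (P : Subgroup Γ), s ^ p = 1 := fun s hs => by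
    obtain ⟨t, e⟩ := h.form s hs
    have key : ∀ n : ℕ, ∀ y, s ^ n • y = sT (n * t) y := fun n => by
      induction n with
      | zero => intro y; simp [sT]
      | succ n ih =>
        intro y
        rw [pow_succ', mul_smul, ih, e]
        refine Prod.ext rfl (Prod.ext ?_ ?_) <;> simp only [sT] <;> push_cast <;> ring
    exact h.faith _ fun y => by rw [key]; simp [sT]
  have cm : Commute s₁ s₂ := by
    obtain ⟨t₁, a₁⟩ := h.form s₁ hs₁
    obtain ⟨t₂, a₂⟩ := h.form s₂ hs₂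
    have : (s₂ * s₁)⁻¹ * (s₁ * s₂) = 1 := h.faith _ fun y => by
      rw [mul_smul, inv_smul_eq_iff, mul_smul, mul_smul, a₁, a₂, a₁, a₂]
      refine Prod.ext rfl (Prod.ext ?_ ?_) <;> simp only [sT] <;> ring
    exact (inv_mul_eq_one.1 this).symm
  have hK : K0 ≤ Subgroup.normalizer (P : Set Γ) := by
    refine H1.le_of_centralizers_le_of_rank_two hp.out cm (pw _ hs₁) (pw _ hs₂) ?_ ?_
      (hnorm _ hs₁ d e₁ (fun k hk => hk.1) hd) (hnorm _ hs₂ r e₂ (fun k hk => hk.2.1) hr) ?_ ?_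
    · rintro rfl
      exact h.r0 (by simpa using e₂)
    · rintro ⟨n, rfl⟩
      refine hn ⟨n, ?_⟩
      have key : ∀ n : ℤ, s₂ ^ n • x = x + n • r := fun n => by
        induction n with
        | zero => simp
        | succ n ih => rw [zpow_add_one, mul_smul, e₂, smul_add, ih,
            h.fix (zpow_mem hs₂ _) hr, add_smul, one_smul, add_assoc]
        | pred n ih =>
          have : s₂⁻¹ • x = x - r := by rw [inv_smul_eq_iff, smul_sub, e₂, h.fix hs₂ hr]; simp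
          rw [zpow_sub_one, mul_smul, this, smul_sub, ih, h.fix (zpow_mem hs₂ _) hr, sub_smul,
            one_smul, add_sub_assoc]
      have := key n
      simp only at e₁
      rw [e₁] at this
      exact (add_left_cancel this).symm
    · intro hd
      obtain ⟨k, hk⟩ := exists_prime_orderOf_dvd_card' p hd
      have hk' : orderOf (k : Γ) = p := by rw [Subgroup.orderOf_coe, hk]
      have hq : IsPGroup p (Subgroup.zpowers (k : Γ)) :=
        IsPGroup.of_card (n := 1) (by rw [Nat.card_zpowers, hk', pow_one])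
      obtain ⟨R, hR⟩ := hq.exists_le_sylow
      obtain ⟨c, hc⟩ := MulAction.exists_smul_eq Γ R P
      have hm : c * k * c⁻¹ ∈ (P : Subgroup Γ) := by
        rw [← hc, Sylow.smul_def, Sylow.pointwise_smul_def]
        exact Subgroup.smul_mem_pointwise_smul _ (MulAut.conj c) _ (hR (Subgroup.mem_zpowers _))
      have a1 : c • x ∈ Z0 K := h.of_fix hm (by
        intro h0
        have : (k : Γ) = 1 := by simpa using h0
        rw [this, orderOf_one] at hk'
        exact hp.out.one_lt.ne hk') (by rw [mul_smul, mul_smul, inv_smul_smul, k.2.2.2])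
      exact hx0 (by simpa using h.f2 c⁻¹ a1 (by simpa using hx))
    · intro b hb hb1 c hc
      have hbP : b ∈ (P : Subgroup Γ) := (Subgroup.closure_le _).2 (by
        rintro _ (rfl | rfl) <;> assumption) hb
      refine h.ti hbP hb1 ?_
      rw [← Subgroup.mem_centralizer_iff.1 hc.2 b rfl, mul_inv_cancel_right]
      exact hbP
  have a1 : s₂⁻¹ * (g * s₀ * g⁻¹) ∈ K0 := by
    refine ⟨?_, ?_, ?_⟩
    · rw [mul_smul, mul_smul, mul_smul, h.fix hs₀ hd', smul_inv_smul, h.fix (inv_mem hs₂) hd]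
    · rw [mul_smul, mul_smul, mul_smul, h.fix hs₀ (h.rZ _), smul_inv_smul, h.fix (inv_mem hs₂) hr]
    · rw [mul_smul, mul_smul, mul_smul, e₀, smul_add, smul_inv_smul, smul_inv_smul,
        inv_smul_eq_iff, e₂]
  have a2 : g * s₀ * g⁻¹ ∈ Subgroup.normalizer (P : Set Γ) := by
    simpa using Subgroup.mul_mem _ (Subgroup.le_normalizer hs₂) (hK a1)
  refine hg (h.ti hs₀ ?_ (mem_of_norm hs₀ a2))
  rintro rfl
  have : g⁻¹ • r = 0 := by simpa using e₀
  exact h.r0 (by rwa [inv_smul_eq_iff, smul_zero] at this)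

theorem fgk (h : Cub P r) {g : Γ} (hg : g ∈ Subgroup.normalizer (P : Set Γ))
    (hz : ∀ x ∈ Z0 K, g • x = x) {c : K} (hc : (g • ((0, 1, 0) : K × K × K)).2.1 = c) :
    c ≠ 0 ∧ (∀ x : K × K × K, (g • x).1 = c ^ 2 * x.1) ∧
      ∀ x ∈ Z2 K, (g • x).2.1 = c * x.2.1 := by
  have key : ∀ t : K, ∃ t' : K, ∀ x : K × K × K, g • sT t x = sT t' (g • x) := fun t => by
    obtain ⟨s, hs, e⟩ := h.surj t
    obtain ⟨t', e'⟩ := h.form _ ((Subgroup.mem_normalizer_iff.1 hg s).1 hs)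
    exact ⟨t', fun x => by rw [← e', ← e, mul_smul, mul_smul, inv_smul_smul]⟩
  have k1 : ∀ t t' : K, (∀ x : K × K × K, g • sT t x = sT t' (g • x)) → ∀ x ∈ Z2 K,
      t' * (g • x).2.1 = t * x.2.1 := fun t t' e x hx => by
    have a1 := e x
    have a2 : sT t x = x + (0, 0, 2 * t * x.2.1) :=
      Prod.ext (by simp [sT]) (Prod.ext (by simp [sT, mem_Z2.1 hx]) (by simp [sT, mem_Z2.1 hx]))
    rw [a2, smul_add, hz (0, 0, _) ⟨rfl, rfl⟩] at a1
    have a3 := congrArg (fun y => y.2.2) a1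
    simp only [sT, Prod.snd_add, mem_Z2.1 (h.norm2 hg hx)] at a3
    exact mul_left_cancel₀ h.odd (by linear_combination -a3)
  obtain ⟨t₁, e₁⟩ := key 1
  have a1 := k1 _ _ e₁ (0, 1, 0) rfl
  rw [hc] at a1
  have c0 : c ≠ 0 := by rintro rfl; simp at a1
  have a2 : ∀ x ∈ Z2 K, (g • x).2.1 = c * x.2.1 := fun x hx => by
    have := k1 _ _ e₁ x hx
    simp only at a1
    linear_combination c * this - (g • x).2.1 * a1
  refine ⟨c0, fun x => ?_, a2⟩
  have a3 := congrArg (fun y => y.2.1) (e₁ x)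
  have a4 : sT 1 x = x + (0, x.1, 2 * x.2.1 + x.1) :=
    Prod.ext (by simp [sT]) (Prod.ext (by simp [sT]) (by simp [sT, add_assoc]))
  rw [a4, smul_add] at a3
  have a5 := a2 (0, x.1, 2 * x.2.1 + x.1) rfl
  simp only [sT, Prod.snd_add, Prod.fst_add, a5] at a3 a1
  linear_combination -c * a3 - (g • x).1 * a1

end Cub

/-- The subgroup generated by a conjugate of `Z2` and `Z0`. -/
def hyp (K : Type*) [Field K] [DistribMulAction Γ (K × K × K)] (g : Γ) : AddSubgroup (K × K × K) :=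
  (Z2 K).map (DistribSMul.toAddMonoidHom _ g) ⊔ Z0 K

theorem smul_mem_hyp (g : Γ) {x : K × K × K} (hx : x ∈ Z2 K) : g • x ∈ hyp K g :=
  AddSubgroup.mem_sup_left ⟨x, hx, rfl⟩

theorem mem_hyp (g : Γ) {x : K × K × K} (hx : x ∈ Z0 K) : x ∈ hyp K g :=
  AddSubgroup.mem_sup_right hx

theorem hyp_le {g : Γ} {B : AddSubgroup (K × K × K)} (h1 : ∀ x ∈ Z2 K, g • x ∈ B)
    (h2 : Z0 K ≤ B) : hyp K g ≤ B := sup_le (by rintro _ ⟨x, hx, rfl⟩; exact h1 x hx) h2

theorem smul_hyp {a g g' : Γ} (h1 : ∀ x ∈ Z2 K, a • g • x ∈ hyp K g')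
    (h2 : ∀ x ∈ Z0 K, a • x ∈ hyp K g') {x : K × K × K} (hx : x ∈ hyp K g) : a • x ∈ hyp K g' :=
  (hyp_le (B := (hyp K g').comap (DistribSMul.toAddMonoidHom _ a)) h1 h2) hx

theorem card_hom : Nat.card (K →+ ZMod p) = Nat.card K := by
  letI := ZMod.algebra K p
  rw [Nat.card_congr (AddMonoidHom.toZModLinearMapEquiv p (M := K) (M₁ := ZMod p)).toEquiv,
    Module.natCard_eq_pow_finrank (K := ZMod p), Module.natCard_eq_pow_finrank (K := ZMod p) (V := K)]
  congr 1
  exact Subspace.dual_finrank_eq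

theorem exists_scal {f : K →+ ZMod p} (hf : f ≠ 0) (φ : K →+ ZMod p) :
    ∃ t : K, ∀ u, f (t * u) = φ u := by
  let Φ : K → (K →+ ZMod p) := fun t => f.comp (AddMonoidHom.mulLeft t)
  have hi : Function.Injective Φ := fun t t' e => by
    by_contra hne
    refine hf (AddMonoidHom.ext fun u => ?_)
    have := DFunLike.congr_fun e (u / (t - t'))
    have h0 : t - t' ≠ 0 := sub_ne_zero.2 hne
    simp only [Φ, AddMonoidHom.comp_apply, AddMonoidHom.coe_mulLeft] at this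
    rw [← sub_eq_zero, ← map_sub, ← sub_mul, mul_div_cancel₀ _ h0] at this
    exact this
  haveI : Finite (K →+ ZMod p) := DFunLike.finite _
  obtain ⟨t, ht⟩ := (hi.bijective_of_nat_card_le card_hom.le).2 φ
  exact ⟨t, fun u => DFunLike.congr_fun ht u⟩

namespace Cub

variable {P : Sylow p Γ} {r : K × K × K}

theorem card_r (h : Cub P r) : Nat.card (AddSubgroup.zmultiples r) = p := by
  rw [Nat.card_zmultiples]
  exact addOrderOf_eq_prime (p_smul r) h.r0

theorem card_hyp (h : Cub P r) {g : Γ} (hg : g ∉ Subgroup.normalizer (P : Set Γ)) :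
    Nat.card (hyp K g) * p = Nat.card K ^ 3 := by
  set A := (Z2 K).map (DistribSMul.toAddMonoidHom _ g) with hA
  have a1 : A ⊓ Z0 K = AddSubgroup.zmultiples r := by
    refine le_antisymm ?_ (AddSubgroup.zmultiples_le_of_mem ⟨⟨g⁻¹ • r, Z0_le (h.rZ _), by simp⟩,
      by simpa using h.rZ 1⟩)
    rintro _ ⟨⟨x, hx, rfl⟩, h0⟩
    exact h.inter hg h0 (by simpa using hx)
  have a2 : Nat.card A = Nat.card K ^ 2 := by
    rw [hA, AddSubgroup.card_map_of_injective (MulAction.injective g), card_Z2]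
  have a3 := AddSubgroup.relIndex_sup_right A (Z0 K)
  have a4 := AddSubgroup.card_mul_index ((Z0 K).addSubgroupOf (A ⊔ Z0 K))
  have a5 := AddSubgroup.card_mul_index ((A ⊓ Z0 K).addSubgroupOf A)
  rw [Nat.card_congr (AddSubgroup.addSubgroupOfEquivOfLe le_sup_right).toEquiv, card_Z0] at a4
  rw [Nat.card_congr (AddSubgroup.addSubgroupOfEquivOfLe inf_le_left).toEquiv, a2] at a5
  change _ * (Z0 K).relIndex _ = _ at a4
  change _ * (A ⊓ Z0 K).relIndex _ = _ at a5
  rw [inf_comm, AddSubgroup.inf_relIndex_right, inf_comm, a1, h.card_r] at a5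
  rw [hyp, ← hA, ← a4, a3]
  linear_combination (Nat.card K) * a5

theorem hyp_eq (h : Cub P r) {g g' : Γ} (hg : g ∉ Subgroup.normalizer (P : Set Γ))
    (hg' : g' ∉ Subgroup.normalizer (P : Set Γ)) (hl : hyp K g ≤ hyp K g') : hyp K g = hyp K g' :=
  AddSubgroup.eq_of_le_of_card_ge hl (Nat.eq_of_mul_eq_mul_right hp.out.pos
    ((h.card_hyp hg').trans (h.card_hyp hg).symm)).le

theorem exists_fun (h : Cub P r) {g : Γ} (hg : g ∉ Subgroup.normalizer (P : Set Γ)) :
    ∃ f : K × K × K →+ ZMod p, ∀ x, f x = 0 ↔ x ∈ hyp K g := by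
  have a1 : Nat.card ((K × K × K) ⧸ hyp K g) = p := by
    have := AddSubgroup.card_mul_index (hyp K g)
    rw [card_V, ← h.card_hyp hg] at this
    exact Nat.eq_of_mul_eq_mul_left Nat.card_pos this
  let e := addEquivOfPrimeCardEq a1 (Nat.card_zmod p)
  refine ⟨e.toAddMonoidHom.comp (QuotientAddGroup.mk' _), fun x => ?_⟩
  simp

theorem p_lt (h : Cub P r) {g : Γ} (hg : g ∉ Subgroup.normalizer (P : Set Γ)) :
    p < Nat.card K := by
  have hl : AddSubgroup.zmultiples r ≤ Z0 K :=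
    AddSubgroup.zmultiples_le_of_mem (by simpa using h.rZ 1)
  rw [← h.card_r, ← card_Z0 (K := K)]
  refine lt_of_le_of_ne (AddSubgroup.card_le_of_le hl) fun e => hg (h.mem_norm fun x hx => ?_)
  obtain ⟨n, rfl⟩ := (AddSubgroup.eq_of_le_of_card_ge hl e.ge).ge hx
  simp only
  rw [smul_comm g n r]
  exact (Z0 K).zsmul_mem (h.rZ g) n

theorem card_le (h : Cub P r) : Nat.card K ≤ Nat.card (P : Subgroup Γ) := by
  choose s hs e using h.surj
  refine Nat.card_le_card_of_injective (fun t => (⟨s t, hs t⟩ : (P : Subgroup Γ))) fun t t' ht => ?_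
  have a1 : s t = s t' := congrArg Subtype.val ht
  have a2 := e t (1, 0, 0)
  rw [a1, e t'] at a2
  simpa [sT] using (congrArg (fun y => y.2.1) a2).symm

theorem exists_ker (h : Cub P r) {g : Γ} (hg : g ∉ Subgroup.normalizer (P : Set Γ))
    (f : K →+ ZMod p) : ∃ v, v ≠ 0 ∧ f v = 0 := by
  by_contra hn
  push Not at hn
  have := Nat.card_le_card_of_injective f ((injective_iff_map_eq_zero f).2 fun v hv => by
    by_contra h0; exact hn v h0 hv)
  rw [Nat.card_zmod] at this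
  exact (h.p_lt hg).not_ge this

/-- Distinctness of the points `1`, `s τ`. -/
theorem pts (h : Cub P r) {τ : Γ} (hτ : τ ∉ Subgroup.normalizer (P : Set Γ))
    {o o' : Option (P : Subgroup Γ)}
    (hm : (o.elim 1 fun s => s * τ)⁻¹ * (o'.elim 1 fun s => s * τ) ∈
      Subgroup.normalizer (P : Set Γ)) : o = o' := by
  have hl : ∀ s : (P : Subgroup Γ), (s : Γ) ∈ Subgroup.normalizer (P : Set Γ) :=
    fun s => Subgroup.le_normalizer s.2
  rcases o with _ | s <;> rcases o' with _ | s'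
  · rfl
  · exact absurd ((Subgroup.mul_mem_cancel_left _ (hl s')).1 (by simpa using hm)) hτ
  · refine absurd ((Subgroup.mul_mem_cancel_left _ (hl s)).1 ?_) hτ
    rw [← Subgroup.inv_mem_iff]; simpa using hm
  · by_contra hne
    have a1 : τ⁻¹ * ((s : Γ)⁻¹ * s') * τ⁻¹⁻¹ ∈ Subgroup.normalizer (P : Set Γ) := by
      simpa [mul_assoc] using hm
    have a2 : (s : Γ)⁻¹ * s' ∈ (P : Subgroup Γ) := mul_mem (inv_mem s.2) s'.2
    refine hτ ((Subgroup.inv_mem_iff _).1 (h.ti a2 ?_ (mem_of_norm a2 a1)))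
    intro h0
    exact hne (congrArg some (Subtype.ext (inv_mul_eq_one.1 h0)))

theorem hyp_congr (h : Cub P r) {g g' : Γ} (hg : g⁻¹ * g' ∈ Subgroup.normalizer (P : Set Γ)) :
    hyp K g' ≤ hyp K g := hyp_le (fun x hx => by
      simpa [mul_smul] using smul_mem_hyp g (h.norm2 hg hx)) fun _ => mem_hyp g

theorem caseB (h : Cub P r) {g : Γ} (hg : g ∉ Subgroup.normalizer (P : Set Γ))
    (H : ∀ c : K, c ≠ 0 → ∃ a ∈ Subgroup.normalizer (P : Set Γ), (∀ x ∈ Z0 K, a • x = x) ∧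
      (a • ((0, 1, 0) : K × K × K)).2.1 = c)
    (hB : ∀ a ∉ Subgroup.normalizer (P : Set Γ), Z2 K ≤ hyp K a) : False := by
  have red : ∀ {a : Γ}, a ∉ Subgroup.normalizer (P : Set Γ) → ∀ {f : K × K × K →+ ZMod p},
      (∀ x, f x = 0 ↔ x ∈ hyp K a) → ∀ x, f x = f (x.1, 0, 0) := fun {a} ha {f} hf x => by
    rw [← sub_eq_zero, ← map_sub, hf]
    exact hB a ha (by simp [mem_Z2])
  obtain ⟨f, hf⟩ := h.exists_fun hg
  obtain ⟨u₀, hu₀, fu₀⟩ := h.exists_ker hg (f.comp (AddMonoidHom.inl K (K × K)))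
  change f (u₀, 0, 0) = 0 at fu₀
  obtain ⟨c, fc⟩ : ∃ c : K, f (c ^ 2 * u₀, 0, 0) ≠ 0 := by
    by_contra hn
    push Not at hn
    have a1 : hyp K g = ⊤ := eq_top_iff.2 fun x _ => (hf x).1 (by
      have := h.odd
      have e : ((x.1, 0, 0) : K × K × K) = (((x.1 / u₀ + 1) / 2) ^ 2 * u₀, 0, 0) -
          (((x.1 / u₀ - 1) / 2) ^ 2 * u₀, 0, 0) := by
        refine Prod.ext ?_ (by simp)
        simp only [Prod.fst_sub]
        field_simp; ring
      rw [red hg hf, e, map_sub, hn, hn, sub_zero])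
    have a2 := h.card_hyp hg
    rw [a1, AddSubgroup.card_top, card_V] at a2
    exact hp.out.one_lt.ne' (Nat.eq_of_mul_eq_mul_left (pow_pos Nat.card_pos 3)
      (a2.trans (mul_one _).symm))
  obtain ⟨a, ha, az, ac⟩ := H c (by rintro rfl; simp at fc; exact fc (map_zero f))
  obtain ⟨-, a1, -⟩ := h.fgk ha az ac
  obtain ⟨x₁, hx₁, bx⟩ : ∃ x ∈ Z2 K, (a * g) • x ∉ hyp K g := by
    by_contra hn
    push Not at hn
    have := smul_hyp (a := a) (g := g) (g' := g) (fun x hx => by rw [← mul_smul]; exact hn x hx)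
      (fun x hx => mem_hyp g (h.norm0 ha hx)) ((hf _).1 fu₀)
    rw [← hf, red hg hf, a1] at this
    exact fc this
  let pt : Option (P : Subgroup Γ) → Γ := fun o => o.elim 1 fun s => s * g
  have hpt : ∀ o, ∀ x ∈ Z2 K, pt o • x ∈ hyp K g := by
    rintro (_ | s) x hx
    · simpa [pt] using hB g hg hx
    · simpa [pt, mul_smul] using
        (hyp K g).add_mem (hB g hg (h.sub2 s.2 (g • x))) (smul_mem_hyp g hx)
  have he : ∀ o, (a * g)⁻¹ * pt o ∉ Subgroup.normalizer (P : Set Γ) := fun o hm => by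
    have := hpt o _ (h.norm2 (inv_mem hm) hx₁)
    rw [← mul_smul] at this
    exact bx (by simpa using this)
  choose F hF using fun o => h.exists_fun (he o)
  have hi : Function.Injective fun o => (F o).comp (AddMonoidHom.inl K (K × K)) := by
    intro o o' e
    by_contra hne
    have hn : (pt o)⁻¹ * pt o' ∉ Subgroup.normalizer (P : Set Γ) := fun hm => hne (h.pts hg hm)
    have e1 : ∀ x, F o x = F o' x := fun x => by
      rw [red (he o) (hF o), red (he o') (hF o')]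
      exact DFunLike.congr_fun e x.1
    have e2 : (hyp K ((pt o)⁻¹ * pt o')).map (DistribSMul.toAddMonoidHom _ ((a * g)⁻¹ * pt o)) =
        hyp K ((a * g)⁻¹ * pt o) := AddSubgroup.eq_of_le_of_card_ge (by
      rintro _ ⟨x, hx, rfl⟩
      refine smul_hyp (fun y hy => ?_) (fun y hy => smul_mem_hyp _ (Z0_le hy)) hx
      rw [← hF, e1, hF, ← mul_smul, mul_assoc, mul_inv_cancel_left]
      exact smul_mem_hyp _ hy) (by
      rw [AddSubgroup.card_map_of_injective (MulAction.injective _)]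
      exact (Nat.eq_of_mul_eq_mul_right hp.out.pos
        ((h.card_hyp (he o)).trans (h.card_hyp hn).symm)).le)
    obtain ⟨y, hy, e3⟩ := e2.ge (hB _ (he o) hx₁)
    refine bx ?_
    rw [← e3, DistribSMul.toAddMonoidHom_apply, ← mul_smul, mul_inv_cancel_left]
    refine smul_hyp (fun z hz => ?_) (fun z hz => hpt o z (Z0_le hz)) hy
    rw [← mul_smul, mul_inv_cancel_left]
    exact hpt o' z hz
  haveI : Finite (K →+ ZMod p) := DFunLike.finite _
  have := Nat.card_le_card_of_injective _ hi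
  rw [card_hom, Finite.card_option] at this
  have := h.card_le
  omega

theorem caseA (h : Cub P r)
    (H : ∀ c : K, c ≠ 0 → ∃ a ∈ Subgroup.normalizer (P : Set Γ), (∀ x ∈ Z0 K, a • x = x) ∧
      (a • ((0, 1, 0) : K × K × K)).2.1 = c)
    {a : Γ} (ha : a ∉ Subgroup.normalizer (P : Set Γ)) (hA : ¬ Z2 K ≤ hyp K a) : False := by
  have hl : ∀ {s : Γ}, s ∈ (P : Subgroup Γ) → s ∈ Subgroup.normalizer (P : Set Γ) :=
    fun hs => Subgroup.le_normalizer hs
  obtain ⟨f, hf⟩ := h.exists_fun ha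
  let f₂ : K →+ ZMod p := f.comp ((AddMonoidHom.inr K (K × K)).comp (AddMonoidHom.inl K K))
  have red : ∀ x ∈ Z2 K, f x = f₂ x.2.1 := fun x hx => by
    change _ = f (0, x.2.1, 0)
    rw [← sub_eq_zero, ← map_sub, hf]
    exact mem_hyp a ⟨by simpa using mem_Z2.1 hx, by simp⟩
  obtain ⟨x₀, hx₀, hx₀'⟩ := SetLike.not_le_iff_exists.1 hA
  have f0 : f₂ x₀.2.1 ≠ 0 := by rw [← red x₀ hx₀, Ne, hf]; exact hx₀'
  have f1 : f₂ ≠ 0 := fun e => f0 (by rw [e]; rfl)
  have fs : ∀ {s : Γ} {t : K}, (∀ x, s • x = sT t x) → ∀ x, f (s • x) = f x + f₂ (t * x.1) :=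
    fun {s t} e x => by
      rw [← sub_eq_iff_eq_add', ← map_sub, red _ (by simp [e, sT, mem_Z2])]
      simp [e, sT]
  obtain ⟨m, hm, mz, mc⟩ := H (-1) (by simp)
  obtain ⟨-, m1, m2⟩ := h.fgk hm mz mc
  obtain ⟨t, ht⟩ := exists_scal f1 (-(f.comp (AddMonoidHom.inl K (K × K))) -
    (f.comp (DistribSMul.toAddMonoidHom _ m)).comp (AddMonoidHom.inl K (K × K)))
  obtain ⟨s, hs, es⟩ := h.surj t
  have fτ : ∀ x, f ((s * m) • x) = -f x := fun x => by
    have e : x = (x.1, 0) + (0, x.2) := by simp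
    have e1 : f (m • ((0, x.2) : K × K × K)) = -f (0, x.2) := by
      rw [red _ (h.norm2 hm rfl), m2 _ rfl, red _ rfl]; simp
    rw [mul_smul, fs es, m1, neg_one_sq, one_mul, ht]
    conv_lhs => rw [e, smul_add, map_add, e1]
    conv_rhs => rw [e, map_add]
    simp only [AddMonoidHom.sub_apply, AddMonoidHom.neg_apply, AddMonoidHom.comp_apply,
      AddMonoidHom.inl_apply, DistribSMul.toAddMonoidHom_apply, Prod.fst_add, add_zero]
    abel
  have hτM : s * m ∈ Subgroup.normalizer (P : Set Γ) := mul_mem (hl hs) hm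
  have τz : ∀ x ∈ Z0 K, (s * m) • x = x := fun x hx => by rw [mul_smul, mz x hx, h.fix hs hx]
  obtain ⟨-, τ1, τ2⟩ := h.fgk hτM τz (c := -1) (by
    rw [mul_smul, es]; simp [sT, m1, mc])
  generalize s * m = τ at fτ hτM τz τ1 τ2
  have τP : τ * τ ∈ (P : Subgroup Γ) := h.chain
    (fun x => by simp [mem_Z2, mul_smul, τ1])
    (fun x hx => ⟨by simp [mul_smul, τ1], by
      simp [mul_smul, τ2 _ (h.norm2 hτM hx), τ2 _ hx]⟩)
    fun x hx => by rw [mul_smul, τz x hx, τz x hx]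
  have hτ : a⁻¹ * τ * a ∉ Subgroup.normalizer (P : Set Γ) := fun hτ => by
    have τ2' : τ * τ = 1 := by
      by_contra hne
      refine ha ((Subgroup.inv_mem_iff _).1 (h.ti τP hne (mem_of_norm τP ?_)))
      simpa [mul_assoc] using mul_mem hτ hτ
    have sq : ∀ x : K × K × K, (a⁻¹ * τ * a) • (a⁻¹ * τ * a) • x = x := fun x => by
      rw [← mul_smul, show a⁻¹ * τ * a * (a⁻¹ * τ * a) = a⁻¹ * (τ * τ) * a by group, τ2']; simp
    have az : ∀ z ∈ Z0 K, (a⁻¹ * τ * a) • z = z := fun z hz => by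
      have b1 : (a⁻¹ * τ * a) • z - z ∈ Z0 K := sub_mem (h.norm0 hτ hz) hz
      have b2 : a • ((a⁻¹ * τ * a) • z - z) ∈ Z0 K := h.f2 a b1 (by
        rw [smul_sub, mul_smul, mul_smul, smul_inv_smul]; simp [mem_Z2, τ1])
      have b3 : (a⁻¹ * τ * a) • ((a⁻¹ * τ * a) • z - z) = (a⁻¹ * τ * a) • z - z := by
        rw [mul_smul (a⁻¹ * τ) a (_ - _), mul_smul, τz _ b2, inv_smul_smul]
      rw [smul_sub, sq] at b3
      have b4 : (2 : K) • ((a⁻¹ * τ * a) • z - z) = 0 := by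
        rw [two_smul]; nth_rewrite 1 [← b3]; abel
      exact sub_eq_zero.1 ((smul_eq_zero.1 b4).resolve_left h.odd)
    obtain ⟨-, c1, c2⟩ := h.fgk hτ az rfl
    generalize ((a⁻¹ * τ * a) • ((0, 1, 0) : K × K × K)).2.1 = c at c1 c2
    have c3 : c ^ 2 = 1 := by
      have := congrArg (fun y => y.2.1) (sq (0, 1, 0))
      simp only [c2 _ (h.norm2 hτ (x := (0, 1, 0)) rfl), c2 (0, 1, 0) rfl] at this
      linear_combination this
    have c4 : τ • x₀ - x₀ ∈ hyp K a := by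
      have := smul_mem_hyp a (x := (a⁻¹ * τ * a) • a⁻¹ • x₀ - a⁻¹ • x₀) (by simp [mem_Z2, c1, c3])
      simpa [smul_sub, mul_smul] using this
    rw [← hf, map_sub, fτ, red _ hx₀] at c4
    have c5 : (2 : ZMod p) ≠ 0 := fun e => h.p_ne_two
      ((Nat.prime_dvd_prime_iff_eq hp.out Nat.prime_two).1 ((ZMod.natCast_eq_zero_iff 2 p).1 e))
    exact mul_ne_zero c5 f0 (by linear_combination -c4)
  let pt : Option (P : Subgroup Γ) → Γ := fun o => o.elim 1 fun s => s * (a⁻¹ * τ * a)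
  have hpt : ∀ o, ∀ x ∈ Z2 K, (a * pt o) • x ∈ hyp K a := by
    rintro (_ | s) x hx
    · simpa [pt] using smul_mem_hyp a hx
    · have b1 : τ • a • x ∈ hyp K a := by
        rw [← hf, fτ, neg_eq_zero, hf]; exact smul_mem_hyp a hx
      simpa [pt, mul_smul, smul_sub] using
        (hyp K a).add_mem (smul_mem_hyp a (h.sub2 s.2 (a⁻¹ • τ • a • x))) b1
  have hpM : ∀ o, a * pt o ∉ Subgroup.normalizer (P : Set Γ) := fun o hm =>
    hx₀' (by have := hpt o _ (h.norm2 (inv_mem hm) hx₀); rwa [smul_inv_smul] at this)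
  have hpH : ∀ o, hyp K (a * pt o) = hyp K a := fun o =>
    h.hyp_eq (hpM o) ha (hyp_le (hpt o) fun _ => mem_hyp a)
  obtain ⟨v₀, hv₀, fv₀⟩ := h.exists_ker ha f₂
  obtain ⟨n, hn, nz, nc⟩ := H (x₀.2.1 / v₀) (div_ne_zero (by rintro e; simp [e] at f0) hv₀)
  obtain ⟨-, -, n2⟩ := h.fgk hn nz nc
  let mm : Bool × (P : Subgroup Γ) → Γ := fun i => i.2 * cond i.1 n 1
  have hmm : ∀ i, mm i ∈ Subgroup.normalizer (P : Set Γ) := by
    rintro ⟨_ | _, s⟩
    exacts [mul_mem (hl s.2) (one_mem _), mul_mem (hl s.2) hn]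
  have tr : ∀ {b g : Γ}, b ∈ Subgroup.normalizer (P : Set Γ) → ∀ x ∈ hyp K g,
      b • x ∈ hyp K (b * g) := fun {b g} hb x hx =>
    smul_hyp (fun y hy => by rw [← mul_smul]; exact smul_mem_hyp _ hy)
      (fun y hy => mem_hyp _ (h.norm0 hb hy)) hx
  have stab : ∀ {s : Γ}, s ∈ (P : Subgroup Γ) → (∀ x ∈ hyp K a, s • x ∈ hyp K a) → s = 1 :=
    fun {s} hs hst => by
      obtain ⟨t, e⟩ := h.form s hs
      have t0 : t = 0 := by
        by_contra ht0
        refine f1 (AddMonoidHom.ext fun v => ?_)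
        let x : K × K × K := (v / t, 0, 0)
        have b1 : x - (f x / f x₀).val • x₀ ∈ hyp K a := by
          rw [← hf, map_sub, map_nsmul, nsmul_eq_mul, ZMod.natCast_zmod_val,
            div_mul_cancel₀ _ (by rw [Ne, hf]; exact hx₀'), sub_self]
        have b2 := hst _ b1
        rw [← hf, fs e, (hf _).2 b1, zero_add] at b2
        simpa [x, mem_Z2.1 hx₀, mul_div_cancel₀ _ ht0] using b2
      exact h.faith s fun x => by rw [e, t0]; simp [sT]
  have bad : ∀ {s : Γ}, s ∈ (P : Subgroup Γ) → ¬ ∀ x ∈ hyp K a, (s * n) • x ∈ hyp K a :=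
    fun {s} hs hst => by
      obtain ⟨t, e⟩ := h.form s hs
      have b1 := hst (0, v₀, 0) (by rw [← hf]; exact fv₀)
      rw [← hf, mul_smul, fs e, mem_Z2.1 (h.norm2 hn (x := (0, v₀, 0)) rfl),
        red _ (h.norm2 hn rfl), n2 _ rfl] at b1
      simp only [div_mul_cancel₀ _ hv₀, mul_zero, map_zero, add_zero] at b1
      exact f0 b1
  have main : ∀ i i' o o', (mm i * (a * pt o))⁻¹ * (mm i' * (a * pt o')) ∈
      Subgroup.normalizer (P : Set Γ) → i = i' ∧ o = o' := by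
    have st : ∀ i i' o o', (mm i * (a * pt o))⁻¹ * (mm i' * (a * pt o')) ∈
        Subgroup.normalizer (P : Set Γ) → ∀ x ∈ hyp K a, ((mm i)⁻¹ * mm i') • x ∈ hyp K a :=
      fun i i' o o' hh x hx => by
        have := tr (inv_mem (hmm i)) _ (h.hyp_congr hh (tr (hmm i') x ((hpH o').ge hx)))
        rwa [inv_mul_cancel_left, hpH, ← mul_smul] at this
    intro i i' o o' hh
    have b1 := st _ _ _ _ hh
    have b2 := st i' i o' o (by simpa [mul_assoc] using inv_mem hh)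
    have b3 : i = i' := by
      obtain ⟨_ | _, s⟩ := i <;> obtain ⟨_ | _, s'⟩ := i'
      · have := stab (mul_mem (inv_mem s.2) s'.2) (by simpa [mm] using b1)
        rw [Subtype.ext (inv_mul_eq_one.1 this)]
      · exact (bad (mul_mem (inv_mem s.2) s'.2) (by simpa [mm, mul_assoc] using b1)).elim
      · exact (bad (mul_mem (inv_mem s'.2) s.2) (by simpa [mm, mul_assoc] using b2)).elim
      · have := stab ((Subgroup.mem_normalizer_iff''.1 hn _).1 (mul_mem (inv_mem s.2) s'.2))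
          (by simpa [mm, mul_assoc] using b1)
        have e : (s : Γ)⁻¹ * s' = 1 := by
          rw [mul_assoc, inv_mul_eq_one] at this
          exact right_eq_mul.1 this
        rw [Subtype.ext (inv_mul_eq_one.1 e)]
    subst b3
    exact ⟨rfl, h.pts hτ (show (pt o)⁻¹ * pt o' ∈ _ by simpa [mul_assoc] using hh)⟩
  have hr : AddSubgroup.zmultiples r ≤ Z0 K :=
    AddSubgroup.zmultiples_le_of_mem (by simpa using h.rZ 1)
  let Φ : (Bool × (P : Subgroup Γ)) × Option (P : Subgroup Γ) ×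
      ↥((Z0 K : Set (K × K × K)) \ AddSubgroup.zmultiples r) → ↥((Z2 K : Set (K × K × K))ᶜ) :=
    fun y => ⟨(mm y.1 * (a * pt y.2.1)) • y.2.2.1, fun hy => y.2.2.2.2 (h.inter
      (g := (mm y.1 * (a * pt y.2.1))⁻¹) (fun hh => hpM y.2.1 ((Subgroup.mul_mem_cancel_left _
        (hmm y.1)).1 ((Subgroup.inv_mem_iff _).1 hh))) y.2.2.2.1 (by rwa [inv_inv]))⟩
  have hΦ : Function.Injective Φ := by
    rintro ⟨i, o, z⟩ ⟨i', o', z'⟩ e
    have e1 : (mm i * (a * pt o)) • z.1 = (mm i' * (a * pt o')) • z'.1 := congrArg Subtype.val e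
    obtain ⟨rfl, rfl⟩ := main i i' o o' (by
      by_contra hh
      refine z.2.2 (h.inter hh z.2.1 ?_)
      rw [mul_inv_rev, inv_inv, mul_smul, e1, inv_smul_smul]
      exact Z0_le z'.2.1)
    rw [Subtype.ext (MulAction.injective _ e1)]
  have c1 := Nat.card_le_card_of_injective Φ hΦ
  have c2 := Set.ncard_add_ncard_compl (Z2 K : Set (K × K × K))
  have c3 := Set.ncard_sdiff_add_ncard_of_subset (s := (AddSubgroup.zmultiples r : Set (K × K × K)))
    (t := Z0 K) hr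
  rw [Nat.card_prod, Nat.card_prod, Nat.card_prod, Finite.card_option, Nat.card_coe_set_eq,
    Nat.card_coe_set_eq, Nat.card_eq_fintype_card (α := Bool), Fintype.card_bool] at c1
  rw [card_V, ← Nat.card_coe_set_eq (Z2 K : Set (K × K × K))] at c2
  rw [← Nat.card_coe_set_eq (Z0 K : Set (K × K × K)),
    ← Nat.card_coe_set_eq (AddSubgroup.zmultiples r : Set (K × K × K))] at c3
  erw [card_Z2] at c2
  erw [card_Z0, h.card_r] at c3
  have c4 := h.card_le
  have c5 : 3 * p ≤ Nat.card K := by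
    haveI := Fintype.ofFinite K
    obtain ⟨k, -, hk⟩ := FiniteField.card K p
    have c6 := h.p_lt ha
    rw [Nat.card_eq_fintype_card, hk] at c6 ⊢
    have c7 : 2 ≤ (k : ℕ) := by
      by_contra hlt
      have : (k : ℕ) = 1 := by have := k.pos; omega
      rw [this, pow_one] at c6; omega
    have c8 : 3 ≤ p := by have := hp.out.two_le; have := h.p_ne_two; omega
    calc 3 * p ≤ p * p := Nat.mul_le_mul_right _ c8
      _ = p ^ 2 := (pow_two p).symm
      _ ≤ _ := Nat.pow_le_pow_right hp.out.pos c7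
  have c6 : 0 < Nat.card K := Nat.card_pos
  generalize Nat.card K = q at c2 c3 c4 c5 c6
  generalize Nat.card (P : Subgroup Γ) = N at c1 c4
  generalize Set.ncard _ = e at c1 c3
  generalize Set.ncard _ = e' at c1 c2
  have d1 : 2 * q * ((q + 1) * e) ≤ 2 * N * ((N + 1) * e) := by gcongr
  have d2 : 2 * q ≤ 3 * e := by omega
  have d3 : 2 * q * ((q + 1) * (2 * q)) ≤ 2 * q * ((q + 1) * (3 * e)) := by gcongr
  nlinarith [pow_pos c6 2, pow_pos c6 3]

theorem false (h : Cub P r) {g : Γ} (hg : g ∉ Subgroup.normalizer (P : Set Γ))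
    (H : ∀ c : K, c ≠ 0 → ∃ a ∈ Subgroup.normalizer (P : Set Γ), (∀ x ∈ Z0 K, a • x = x) ∧
      (a • ((0, 1, 0) : K × K × K)).2.1 = c) : False :=
  h.caseB hg H fun _ ha => by_contra (h.caseA H ha)

end Cub

end Cfsg.Agent.H4.Sp
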