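import Cfsg.Agent.H4.Sp4Std

/-! An extension of `GL₃(K)` by `K` for `K` of order `2` or `4`. -/

set_option autoImplicit false
set_option linter.unusedSectionVars false
set_option linter.style.haveILetI false

namespace Cfsg.Agent.H4.Sp

open Matrix

variable {K : Type*} [Field K]

/-- The polarization of the cubic form `y₀ y₁ y₂`. -/
def aa (g : Matrix (Fin 3) (Fin 3) K) (k l : Fin 3) : K :=
  g 0 k * g 1 l * g 2 l + g 0 l * g 1 k * g 2 l + g 0 l * g 1 l * g 2 k

/-- The dual coefficients. -/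
def bm (g : Matrix (Fin 3) (Fin 3) K) (i j : Fin 3) : K := aa gᵀ j i ^ 2

/-- The cocycle. -/
def co (g h : Matrix (Fin 3) (Fin 3) K) : K := ∑ i, ∑ j, aa g i j * bm h i j

/-- The extension. -/
@[ext] structure GH (K : Type*) [Field K] where
  g : GL (Fin 3) K
  c : K

variable [CharP K 2] [h4 : Fact (∀ x : K, x ^ 4 = x)]

theorem aa_mul (g h : Matrix (Fin 3) (Fin 3) K) (k l : Fin 3) :
    aa (g * h) k l = g.det * aa h k l + ∑ i, ∑ j, aa g i j * h i k * h j l ^ 2 := by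
  linear_combination
    (norm := (simp only [aa, mul_apply, Fin.sum_univ_three, det_fin_three]; ring1)) (aa g 0 1 * h 0 l * h 1 l * h 1 k + aa g 0 2 * h 0 l * h 2 l * h 2 k +
    aa g 1 0 * h 1 l * h 0 l * h 0 k + aa g 1 2 * h 1 l * h 2 l * h 2 k +
    aa g 2 0 * h 2 l * h 0 l * h 0 k + aa g 2 1 * h 2 l * h 1 l * h 1 k +
    (g 0 0 * g 1 2 * g 2 1 + g 0 1 * g 1 0 * g 2 2 + g 0 2 * g 1 1 * g 2 0) * aa h k l) *
    two0 (K := K)

theorem bm_mul (g h : Matrix (Fin 3) (Fin 3) K) (i j : Fin 3) :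
    bm (g * h) i j = h.det ^ 2 * bm g i j + ∑ k, ∑ l, g i k * bm h k l * g j l ^ 2 := by
  have e : ∀ x : K, (x ^ 2) ^ 2 = x := fun x => by rw [← pow_mul]; exact h4.out x
  rw [bm, transpose_mul, aa_mul]
  simp only [Fin.sum_univ_three, CharTwo.add_sq, mul_pow, det_transpose, transpose_apply, e, bm]
  ring

theorem co_cocycle (g h k : Matrix (Fin 3) (Fin 3) K) :
    co (g * h) k + co g h * k.det ^ 2 = g.det * co h k + co g (h * k) := by
  simp only [co, aa_mul, bm_mul, Fin.sum_univ_three]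
  ring

theorem aa_diag (d : Fin 3 → K) (k l : Fin 3) : aa (diagonal d) k l = 0 := by
  fin_cases k <;> fin_cases l <;> simp [aa]

theorem co_diag (d : Fin 3 → K) (g : Matrix (Fin 3) (Fin 3) K) :
    co (diagonal d) g = 0 ∧ co g (diagonal d) = 0 := by
  simp [co, bm, aa_diag]

theorem co_one (g : Matrix (Fin 3) (Fin 3) K) : co 1 g = 0 ∧ co g 1 = 0 := co_diag _ g

namespace GH

noncomputable instance instMul : Mul (GH K) :=
  ⟨fun x y => ⟨x.g * y.g, x.g.1.det * y.c + co x.g.1 y.g.1 + x.c * y.g.1.det ^ 2⟩⟩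
instance instOne : One (GH K) := ⟨⟨1, 0⟩⟩
noncomputable instance instInv : Inv (GH K) :=
  ⟨fun x => ⟨x.g⁻¹, -((x.g⁻¹).1.det * x.c + co (x.g⁻¹).1 x.g.1) * (x.g⁻¹).1.det ^ 2⟩⟩

theorem mul_g (x y : GH K) : (x * y).g = x.g * y.g := rfl
theorem mul_c (x y : GH K) :
    (x * y).c = x.g.1.det * y.c + co x.g.1 y.g.1 + x.c * y.g.1.det ^ 2 := rfl
theorem one_g : (1 : GH K).g = 1 := rfl
theorem one_c : (1 : GH K).c = 0 := rfl

noncomputable instance instGroup : Group (GH K) := Group.ofLeftAxioms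
  (fun x y z => GH.ext (mul_assoc _ _ _) (by
    simp only [mul_g, mul_c, Units.val_mul, det_mul]
    linear_combination co_cocycle x.g.1 y.g.1 z.g.1))
  (fun x => GH.ext (one_mul _) (by simp [mul_c, one_g, one_c, (co_one _).1]))
  (fun x => GH.ext (inv_mul_cancel _) (by
    have e : (x.g⁻¹).1.det * x.g.1.det = 1 := by
      rw [← det_mul, ← Units.val_mul, inv_mul_cancel, Units.val_one, det_one]
    change _ + _ + -(_ + _) * _ * _ = (0 : K)
    change (x.g⁻¹).1.det * x.c + co (x.g⁻¹).1 x.g.1 + -((x.g⁻¹).1.det * x.c +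
      co (x.g⁻¹).1 x.g.1) * (x.g⁻¹).1.det ^ 2 * x.g.1.det ^ 2 = 0
    rw [mul_assoc, ← mul_pow, e]; ring))

/-- Coordinates. -/
def equiv : GH K ≃ GL (Fin 3) K × K :=
  ⟨fun x => (x.g, x.c), fun x => ⟨x.1, x.2⟩, fun _ => rfl, fun _ => rfl⟩

instance instFinite [Finite K] : Finite (GH K) := Finite.of_equiv _ equiv.symm

/-- The unitriangular part. -/
def um (x : U4 K) : GL (Fin 3) K := SpecialLinearGroup.toGL (H7.uni x.t x.u x.v)

theorem um_val (x : U4 K) : (um x).1 = !![1, x.t, x.v; 0, 1, x.u; 0, 0, 1] := rfl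

theorem um_det (x : U4 K) : (um x).1.det = 1 := by simp [um_val, det_fin_three]

/-- The embedding of the unipotent group. -/
noncomputable def emb : U4 K →* GH K := MonoidHom.mk' (fun x => ⟨um x, x.w + x.t ^ 2 * x.u⟩)
  fun x y => GH.ext (by simp only [mul_g, um, ← map_mul, H7.uni_mul]; rfl) (by
    simp only [mul_c, um_det]
    simp [um_val, co, aa, bm, Fin.sum_univ_three, two0, CharTwo.add_sq]
    linear_combination x.t ^ 2 * y.u * two0 (K := K))

theorem emb_g (x : U4 K) : (emb x).g = um x := rfl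
theorem emb_c (x : U4 K) : (emb x).c = x.w + x.t ^ 2 * x.u := rfl

theorem um_eq_one {x : U4 K} : um x = 1 ↔ x ∈ sC K := by
  rw [um, ← map_one SpecialLinearGroup.toGL, SpecialLinearGroup.toGL_injective.eq_iff,
    ← H7.uni_zero, H7.uni_inj]
  rfl

theorem emb_injective : Function.Injective (emb : U4 K →* GH K) := by
  refine (injective_iff_map_eq_one _).2 fun x hx => ?_
  have h1 := um_eq_one.1 (congrArg GH.g hx)
  exact U4.ext h1.1 h1.2.1 h1.2.2 (by simpa [emb_c, h1.1, one_c] using congrArg GH.c hx)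

theorem index_odd [Finite K] : ¬ 2 ∣ (emb : U4 K →* GH K).range.index := by
  intro h
  haveI := Fintype.ofFinite K
  obtain ⟨n, -, hn⟩ := FiniteField.card K 2
  have h2 := (emb : U4 K →* GH K).range.card_mul_index
  rw [← Nat.card_congr (MonoidHom.ofInjective emb_injective).toEquiv, U4.card,
    Nat.card_congr equiv, Nat.card_prod, card_GL_field, Fin.prod_univ_three,
    Nat.card_eq_fintype_card] at h2
  set q := Fintype.card K
  have hq : 2 ∣ q := hn ▸ dvd_pow_self 2 n.ne_zero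
  have hq0 : 0 < q := Fintype.card_pos
  have h3 : (q ^ 3 - q ^ ((0 : Fin 3) : ℕ)) * (q ^ 3 - q ^ ((1 : Fin 3) : ℕ)) *
      (q ^ 3 - q ^ ((2 : Fin 3) : ℕ)) * q = q ^ 4 * ((q ^ 3 - 1) * (q ^ 2 - 1) * (q ^ 1 - 1)) := by
    have a1 : q ^ 3 - q ^ ((1 : Fin 3) : ℕ) = q * (q ^ 2 - 1) := by
      rw [Nat.mul_sub, mul_one, ← pow_succ']; simp
    have a2 : q ^ 3 - q ^ ((2 : Fin 3) : ℕ) = q ^ 2 * (q ^ 1 - 1) := by
      rw [Nat.mul_sub, mul_one, ← pow_add]; simp
    rw [a1, a2]; simp only [Fin.val_zero, pow_zero]; ring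
  rw [h3] at h2
  rw [Nat.eq_of_mul_eq_mul_left (pow_pos hq0 4) h2] at h
  have h5 : ∀ k, 0 < k → ¬ 2 ∣ q ^ k - 1 := fun k hk hd => by
    have := hq.trans (dvd_pow_self q hk.ne')
    have := Nat.one_le_pow k _ hq0
    omega
  rcases (Nat.Prime.dvd_mul Nat.prime_two).1 h with h | h
  · rcases (Nat.Prime.dvd_mul Nat.prime_two).1 h with h | h
    exacts [h5 3 (by omega) h, h5 2 (by omega) h]
  · exact h5 1 (by omega) h

theorem exists_sw (i : Bool) : ∃ g : GH K, g.g.1.det = 1 ∧ ∀ x y w,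
    emb (jj i y x w) * g = g * emb (jj i x y w) := by
  cases i
  · refine ⟨⟨GeneralLinearGroup.mkOfDetNeZero !![1, 0, 0; 0, 0, 1; 0, 1, 0]
      (by simp [det_fin_three]), 0⟩, by simp [det_fin_three, CharTwo.neg_eq], fun x y w => GH.ext ?_ ?_⟩
    · ext i j
      fin_cases i <;> fin_cases j <;> simp [mul_g, emb_g, um_val, jj, mul_apply, Fin.sum_univ_three]
    · simp [mul_c, emb_g, emb_c, um_val, jj, co, aa, bm, Fin.sum_univ_three, det_fin_three,
        CharTwo.neg_eq]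
  · refine ⟨⟨GeneralLinearGroup.mkOfDetNeZero !![0, 1, 0; 1, 0, 0; 0, 0, 1]
      (by simp [det_fin_three]), 0⟩, by simp [det_fin_three, CharTwo.neg_eq], fun x y w => GH.ext ?_ ?_⟩
    · ext i j
      fin_cases i <;> fin_cases j <;> simp [mul_g, emb_g, um_val, jj, mul_apply, Fin.sum_univ_three]
    · simp [mul_c, emb_g, emb_c, um_val, jj, co, aa, bm, Fin.sum_univ_three, det_fin_three,
        CharTwo.neg_eq]

theorem exists_dl {a b : K} (ha : a ≠ 0) (hb : b ≠ 0) : ∃ g : GH K, ∀ x,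
    emb (dl a b x) * g = g * emb x := by
  have a3 : a ^ 3 = 1 := mul_left_cancel₀ ha (by linear_combination h4.out a)
  have b3 : b ^ 3 = 1 := mul_left_cancel₀ hb (by linear_combination h4.out b)
  refine ⟨⟨GeneralLinearGroup.mkOfDetNeZero (diagonal ![a * b, b, 1])
    (by simp [Fin.prod_univ_three, ha, hb]), 0⟩, fun x => GH.ext ?_ ?_⟩
  · ext i j
    fin_cases i <;> fin_cases j <;>
      simp [mul_g, emb_g, um_val, dl, mul_apply, Fin.sum_univ_three] <;> ring
  · simp [mul_c, emb_c, dl, co_diag, Fin.prod_univ_three]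
    linear_combination (x.w + x.t ^ 2 * x.u) * (a * b ^ 5 * a3 + a * b ^ 2 * b3)

theorem conj_c (g : GH K) {x : U4 K} (hx : x ∈ sC K) : (g * emb x * g⁻¹).g = 1 ∧
    (g.g.1.det = 1 → g * emb x * g⁻¹ = emb x) := by
  have e := um_eq_one.2 hx
  refine ⟨by rw [mul_g, mul_g, emb_g, e, mul_one, ← mul_g, mul_inv_cancel, one_g], fun h => ?_⟩
  rw [mul_inv_eq_iff_eq_mul]
  refine GH.ext (by simp [mul_g, emb_g, e]) ?_
  simp [mul_c, emb_g, e, h, co_one, add_comm]

/-- The elements of determinant one. -/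
def sl (K : Type*) [Field K] [CharP K 2] [Fact (∀ x : K, x ^ 4 = x)] : Subgroup (GH K) where
  carrier := {g | g.g.1.det = 1}
  one_mem' := by simp [one_g]
  mul_mem' := fun {a b} (ha : a.g.1.det = 1) (hb : b.g.1.det = 1) => by
    simp [mul_g, ha, hb]
  inv_mem' := fun {a} (ha : a.g.1.det = 1) => by
    change (a.g⁻¹).1.det = 1
    simp [ha]

end GH

end Cfsg.Agent.H4.Sp
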