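import Cfsg.Agent.H4.Sp4G

/-! Fusion systems over a Sylow subgroup of `Sp₄(q)` with nontrivial core are realizable. -/

set_option autoImplicit false
set_option linter.unusedSectionVars false
set_option linter.style.haveILetI false

open Equiv

namespace Cfsg.Agent.H4.Sp

open Cfsg.Fus Cfsg.FusionSystem U4 GH

universe u

variable {K : Type u} [Field K] [Finite K] {F : FusionSystem (⊤ : Subgroup (U4 K))}

section Two

variable [CharP K 2]

theorem exists_std [Fact (∀ x : K, x ^ 4 = x)] (H : Subgroup (GH K)) (hH : sl K ≤ H) :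
    ∃ G : FusionSystem (⊤ : Subgroup (U4 K)), Std G ∧ G.IsRealizable 2 ∧
      ∀ P f, G.IsMap P f ↔ ∃ g ∈ H, ∀ x ∈ P, GH.emb (f x) = g * GH.emb x * g⁻¹ := by
  have hm : ∀ x : U4 K, GH.emb x ∈ H := fun x => hH (um_det x)
  let ι : (⊤ : Subgroup (U4 K)) →* H := (GH.emb.codRestrict H hm).comp (Subgroup.subtype ⊤)
  have hι : ∀ x : U4 K, ((extFun ι x : H) : GH K) = GH.emb x := fun x => by
    rw [extFun_of_mem ι (Subgroup.mem_top x)]; rfl
  have hinj : Function.Injective ι := fun a b e =>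
    Subtype.ext (GH.emb_injective (congrArg Subtype.val e))
  obtain ⟨θ, t⟩ := L.exists_pIso_of_injective ι hinj
  obtain ⟨G, t'⟩ := t.symm.exists_transp le_rfl (groupFusionSystem ι.range) t.symm.img_self
  have hG := (L.realized_of_transp t'.symm (ι := ι) fun x => (extFun_coe ι x).symm).1
  have hle : (GH.emb : U4 K →* GH K).range ≤ H := by rintro _ ⟨x, rfl⟩; exact hm x
  have hT : ∃ T : Sylow 2 H, (T : Subgroup H) = ι.range :=
    ⟨(((isPGroup 2).of_equiv (MonoidHom.ofInjective GH.emb_injective)).toSylow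
      index_odd).subtype hle, Subgroup.ext fun y => ⟨fun ⟨x, hx⟩ => ⟨⟨x, trivial⟩, Subtype.ext hx⟩,
        fun ⟨x, hx⟩ => ⟨x, congrArg Subtype.val hx⟩⟩⟩
  have key : ∀ P f, G.IsMap P f ↔ ∃ g ∈ H, ∀ x ∈ P, GH.emb (f x) = g * GH.emb x * g⁻¹ :=
    fun P f => ⟨fun hf => by
      obtain ⟨g, hg⟩ := L.realized_exists_conj hG hf
      exact ⟨g, g.2, fun x hx => by simpa [hι] using congrArg Subtype.val (hg x hx)⟩,
    fun ⟨g, hg, e⟩ => L.realized_isMap hG le_top (fun _ _ => trivial) (g := ⟨g, hg⟩)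
      fun x hx => Subtype.ext (by simpa [hι] using e x hx)⟩
  refine ⟨G, ⟨L.isSaturated_of_realized hG hT, fun i => ?_, fun i τ hτ c hc => ?_⟩,
    ⟨H, _, inferInstance, ι, hG, hT⟩, key⟩
  · obtain ⟨g, g1, g2⟩ := exists_sw (K := K) i
    refine ((key _ _).2 ⟨g, hH g1, fun x hx => ?_⟩).iso_self fun x hx => ?_ <;>
      obtain ⟨x, y, w, rfl⟩ := exists_jj hx
    · rw [sw_jj, ← g2, mul_inv_cancel_right]
    · rw [sw_jj]; exact jj_mem ..
  · obtain ⟨g, -, e⟩ := (key _ _).1 hτ.isMap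
    exact um_eq_one.1 (by rw [← emb_g, e c (sZ_le_sQ i (sC_le_sZ hc)), (conj_c g hc).1])

theorem Std.isRealizable (h : Std F) : F.IsRealizable 2 := by
  haveI : Fact (∀ x : K, x ^ 4 = x) := ⟨h.pow4⟩
  by_cases hd : ∃ a b : K, a ≠ 0 ∧ b ≠ 0 ∧ a ≠ b ∧ F.IsMap ⊤ (dl a b)
  · obtain ⟨a, b, ha, hb, hab, hm⟩ := hd
    obtain ⟨G, g1, g2, g3⟩ := exists_std (K := K) ⊤ le_top
    rwa [eq_of_le_of_ge (h.le g1 fun c d hc hd _ => ?_)
      (g1.le h fun c d hc hd _ => h.all ha hb hab hm hc hd)]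
    obtain ⟨g, hg⟩ := exists_dl hc hd
    exact (g3 _ _).2 ⟨g, trivial, fun x _ => by rw [← hg, mul_inv_cancel_right]⟩
  · obtain ⟨G, g1, g2, g3⟩ := exists_std (K := K) (sl K) le_rfl
    rwa [eq_of_le_of_ge (h.le g1 fun c d hc hd' hm => ?_) (g1.le h fun c d hc hd' hm => ?_)]
    · obtain rfl : c = d := by_contra fun e => hd ⟨c, d, hc, hd', e, hm⟩
      exact g1.diag hc
    · obtain ⟨g, hg, e⟩ := (g3 _ _).1 hm
      have e1 := e ⟨0, 0, 0, 1⟩ trivial
      rw [(conj_c g ⟨rfl, rfl, rfl⟩).2 hg] at e1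
      have e2 : c ^ 2 * d * 1 = 1 := congrArg U4.w (GH.emb_injective e1)
      obtain rfl : c = d := by linear_combination -c * e2 + d * h.cube hc
      exact h.diag hc

/-- Central automorphisms. -/
def zt (γ δ : Bool → K →+ K) : U4 K ≃* U4 K where
  toFun x := ⟨x.t, x.u, x.v + γ true x.u + γ false x.t, x.w + δ true x.u + δ false x.t⟩
  invFun x := ⟨x.t, x.u, x.v - γ true x.u - γ false x.t, x.w - δ true x.u - δ false x.t⟩
  left_inv x := by ext <;> simp only <;> ring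
  right_inv x := by ext <;> simp only <;> ring
  map_mul' x y := by
    ext <;> simp only [mul_t, mul_u, mul_v, mul_w, map_add, two0] <;> ring

theorem zt_jj (γ δ : Bool → K →+ K) (i : Bool) (x y w : K) :
    zt γ δ (jj i x y w) = jj i x (y + γ i x) (w + δ i x) := by
  cases i <;> ext <;> simp [zt, jj]

/-- The graph automorphism. -/
noncomputable def om : U4 K ≃* U4 K := MulEquiv.ofBijective (MonoidHom.mk'
  (fun x : U4 K => (⟨x.u, x.t ^ 2, x.w + x.t ^ 2 * x.u, x.v ^ 2 + x.t ^ 2 * x.u ^ 2⟩ : U4 K))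
  fun x y => by
    ext <;> simp only [mul_t, mul_u, mul_v, mul_w, CharTwo.add_sq, two0, mul_pow]
    · linear_combination x.t ^ 2 * y.u * two0 (K := K)
    · linear_combination x.t ^ 2 * y.u ^ 2 * two0 (K := K))
  (Finite.injective_iff_bijective.1 ((injective_iff_map_eq_one _).2 fun x hx => by
    have a1 : x.u = 0 := congrArg U4.t hx
    have a2 : x.t = 0 := pow_eq_zero_iff two_ne_zero |>.1 (congrArg U4.u hx)
    exact U4.ext a2 a1 (by simpa [a1] using congrArg U4.w hx) (by simpa [a1] using congrArg U4.v hx)))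

theorem om_apply (x : U4 K) :
    om x = ⟨x.u, x.t ^ 2, x.w + x.t ^ 2 * x.u, x.v ^ 2 + x.t ^ 2 * x.u ^ 2⟩ := rfl

theorem two_both (hF : F.IsSaturated 2) (hc : F.core ≤ sZ K) (i : Bool) :
    ∃ τ, F.Iso (sQ K i) (sQ K i) τ ∧ ∃ z ∈ sZ K, τ z ∉ sZ K := by
  by_contra hn
  have := hc ((hF.isNormal_of_essential (topP 2) (Q := sQ K !i) fun R hR => ?_).le_core
    (jj_mem 1 0 0))
  · exact one_ne_zero (jj_mem_sZ.1 this)
  · rcases hR with rfl | hR
    · exact ⟨le_top, fun τ hτ x hx => aut_sQ hF hτ hx⟩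
    · obtain ⟨j, rfl, h⟩ := two_ess hF hR
      obtain rfl : j = !i := by
        by_contra e
        obtain rfl : j = i := by simpa using e
        exact hn h
      exact ⟨le_rfl, fun τ hτ x hx => hτ.mem hx⟩

theorem two_C2 (hF : F.IsSaturated 2) (hc : F.core ≤ sZ K) {r : U4 K} (hr : r ∈ F.core)
    (hr1 : r ≠ 1) (hr2 : r ∈ sC K) : F.IsRealizable 2 := by
  have hi : ∀ i τ, F.Iso (sQ K i) (sQ K i) τ → ∀ c ∈ sC K, τ c ∈ sC K := fun i τ hτ c hc' => by
    obtain ⟨τ₀, h0, z, h1, h2⟩ := two_both hF hc i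
    exact two_inv hF hr2 hr1 (fun τ hτ => hc (F.isNormal_core9.stronglyClosed.mem hτ.isMap
      (sZ_le_sQ i (hc hr)) hr)) h0 h1 h2 hτ hc'
  choose τ₀ h0 z z1 z2 using two_both hF hc
  choose γ δ σ h1 h2 using fun i => two_opp hF (hi i) (h0 i) (z1 i) (z2 i)
  obtain ⟨G, t⟩ := (L.pIso_of_mulEquiv (zt γ δ).symm).exists_transp le_rfl F
    (L.pIso_of_mulEquiv _).img_self
  have z1 : ∀ i, ∀ x ∈ sQ K i, zt γ δ x ∈ sQ K i := fun i x hx => by cases i <;> exact hx
  have z2 : ∀ i, ∀ x ∈ sQ K i, (zt γ δ).symm x ∈ sQ K i := fun i x hx => by cases i <;> exact hx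
  have z3 : ∀ c ∈ sC K, zt γ δ c = c := fun c hc => by
    ext <;> simp [zt, hc.1, hc.2.1]
  have i1 : ∀ i, img (zt γ δ).symm (sQ K i) = sQ K i := fun i =>
    le_antisymm (img_le_iff.2 (z2 i)) fun x hx => by
      simpa using mem_img_of_mem (zt γ δ).symm (z1 i x hx)
  have i2 : ∀ i, img (zt γ δ) (sQ K i) = sQ K i := fun i =>
    le_antisymm (img_le_iff.2 (z1 i)) fun x hx => by
      simpa using mem_img_of_mem (zt γ δ) (z2 i x hx)
  refine t.symm.isRealizable' (Std.isRealizable ⟨t.isSaturated hF, fun i => ?_,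
    fun i τ hτ c hc => ?_⟩)
  · have a1 := t.map (h1 i).isMap
    rw [i1] at a1
    have a2 : ∀ x y w, ((zt γ δ).symm ∘ σ i ∘ (zt γ δ).symm.symm) (jj i x y w) =
        jj i (x + y) y (w + bb i 1 y) := fun x y w => by
      simp only [Function.comp, MulEquiv.symm_symm, zt_jj, h2, MulEquiv.symm_apply_eq]
    generalize (zt γ δ).symm ∘ σ i ∘ (zt γ δ).symm.symm = f at a1 a2
    obtain ⟨g, hg⟩ := exists_oc i (1 : K)
    refine (((a1.comp (iso_cj_sQ i g).isMap fun x hx => ?_).comp a1 fun x hx => ?_).congr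
      fun x hx => ?_).iso_self fun x hx => ?_ <;> obtain ⟨x, y, w, rfl⟩ := exists_jj hx
    · rw [a2]; exact jj_mem ..
    · rw [Function.comp, a2, cj_apply, conj_jj]; exact jj_mem ..
    · rw [Function.comp, Function.comp, a2, cj_apply, conj_jj, a2, hg, sw_jj, jj_inj, one_mul,
        show y + (x + y) = x by linear_combination y * two0 (K := K), bb_add]
      exact ⟨by linear_combination -x * two0 (K := K), rfl,
        by linear_combination -(bb i 1 x + bb i 1 y) * two0 (K := K)⟩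
    · rw [sw_jj]; exact jj_mem ..
  · have a1 := t.map' hτ.isMap
    rw [MulEquiv.symm_symm, i2] at a1
    obtain ⟨ρ, a2, a3⟩ := a1.exists_perm
    have m := sZ_le_sQ i (sC_le_sZ hc)
    have a4 := hi i ρ (a2.iso_self fun x hx => by
      rw [a3 x hx]; exact z1 i _ (hτ.mem (z2 i x hx))) c hc
    rw [a3 c m, Function.comp, Function.comp, (MulEquiv.symm_apply_eq _).2 (z3 c hc).symm] at a4
    rwa [(zt γ δ).injective (z3 _ a4)] at a4

theorem two_realizable (hF : F.IsSaturated 2) (h : F.core ≠ ⊥) : F.IsRealizable 2 := by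
  by_cases hc : F.core ≤ sZ K
  swap
  · obtain ⟨x, hx, hx'⟩ := SetLike.not_le_iff_exists.1 hc
    exact isRealizable_of_constrained (topP 2)
      (isConstrained_of_comm hF (topP 2) hx fun a _ b _ => two_comm hx')
  obtain ⟨⟨r, hr⟩, hr1⟩ := Subgroup.ne_bot_iff_exists_ne_one.1 h
  replace hr1 : r ≠ 1 := fun e => hr1 (Subtype.ext e)
  obtain ⟨τ, h0, z, h1, h2⟩ := two_both hF hc true
  rcases two_W hF h0 h1 h2 (hc hr) (hc (F.isNormal_core9.stronglyClosed.mem h0.symm.isMap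
    (sZ_le_sQ true (hc hr)) hr)) with e | e
  · exact two_C2 hF hc hr hr1 ⟨(hc hr).1, (hc hr).2, e⟩
  · obtain ⟨G, t⟩ := (L.pIso_of_mulEquiv (om (K := K))).exists_transp le_rfl F
      (L.pIso_of_mulEquiv _).img_self
    refine t.symm.isRealizable' (two_C2 (t.isSaturated hF) ?_ (r := om r)
      (t.img_core ▸ mem_img_of_mem _ hr) (by simpa using hr1) ?_)
    · rw [← t.img_core, img_le_iff]
      exact fun x hx => by simp [om_apply, mem_sZ, (hc hx).1, (hc hx).2]
    · simp [om_apply, mem_sC, (hc hr).1, (hc hr).2, e]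

end Two

theorem realizable {p : ℕ} [hp : Fact p.Prime] [CharP K p] (hF : F.IsSaturated p)
    (h : F.core ≠ ⊥) : F.IsRealizable p := by
  by_cases h2 : (2 : K) = 0
  · obtain rfl : p = 2 := (Nat.prime_dvd_prime_iff_eq hp.out Nat.prime_two).1
      ((CharP.cast_eq_zero_iff K p 2).1 (by exact_mod_cast h2))
    exact two_realizable hF h
  · exact odd_realizable h2 hF h

end Cfsg.Agent.H4.Sp
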