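import Mathlib

/-! The unipotent subgroup of `Sp₄(K)` in coordinates. -/

set_option autoImplicit false
set_option linter.unusedSectionVars false
set_option linter.style.haveILetI false

namespace Cfsg.Agent.H4.Sp

open Matrix

/-- The unipotent subgroup of `Sp₄(K)`. -/
@[ext] structure U4 (K : Type*) where
  t : K
  u : K
  v : K
  w : K

namespace U4

variable {K : Type*} [Field K]

instance instMul : Mul (U4 K) := ⟨fun x y => ⟨x.t + y.t, x.u + y.u, x.v + y.v + x.t * y.u,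
  x.w + y.w + 2 * x.t * y.v + x.t ^ 2 * y.u⟩⟩
instance instOne : One (U4 K) := ⟨⟨0, 0, 0, 0⟩⟩
instance instInv : Inv (U4 K) :=
  ⟨fun x => ⟨-x.t, -x.u, -x.v + x.t * x.u, -x.w + 2 * x.t * x.v - x.t ^ 2 * x.u⟩⟩

@[simp] theorem mul_t (x y : U4 K) : (x * y).t = x.t + y.t := rfl
@[simp] theorem mul_u (x y : U4 K) : (x * y).u = x.u + y.u := rfl
@[simp] theorem mul_v (x y : U4 K) : (x * y).v = x.v + y.v + x.t * y.u := rfl
@[simp] theorem mul_w (x y : U4 K) :
    (x * y).w = x.w + y.w + 2 * x.t * y.v + x.t ^ 2 * y.u := rfl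
@[simp] theorem one_t : (1 : U4 K).t = 0 := rfl
@[simp] theorem one_u : (1 : U4 K).u = 0 := rfl
@[simp] theorem one_v : (1 : U4 K).v = 0 := rfl
@[simp] theorem one_w : (1 : U4 K).w = 0 := rfl
@[simp] theorem inv_t (x : U4 K) : x⁻¹.t = -x.t := rfl
@[simp] theorem inv_u (x : U4 K) : x⁻¹.u = -x.u := rfl
@[simp] theorem inv_v (x : U4 K) : x⁻¹.v = -x.v + x.t * x.u := rfl
@[simp] theorem inv_w (x : U4 K) : x⁻¹.w = -x.w + 2 * x.t * x.v - x.t ^ 2 * x.u := rfl

instance instGroup : Group (U4 K) := Group.ofLeftAxioms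
  (fun x y z => by ext <;> simp <;> ring) (fun x => by ext <;> simp)
  (fun x => by ext <;> simp <;> ring)

/-- Coordinates. -/
def equiv : U4 K ≃ K × K × K × K :=
  ⟨fun x => (x.t, x.u, x.v, x.w), fun x => ⟨x.1, x.2.1, x.2.2.1, x.2.2.2⟩, fun _ => rfl,
    fun _ => rfl⟩

instance instFinite [Finite K] : Finite (U4 K) := Finite.of_equiv _ equiv.symm

theorem card : Nat.card (U4 K) = Nat.card K ^ 4 := by
  rw [Nat.card_congr equiv, Nat.card_prod, Nat.card_prod, Nat.card_prod]; ring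

theorem isPGroup [Finite K] (p : ℕ) [Fact p.Prime] [CharP K p] : IsPGroup p (U4 K) := by
  haveI := Fintype.ofFinite K
  obtain ⟨n, -, hn⟩ := FiniteField.card K p
  exact IsPGroup.of_card (n := n * 4) (by rw [card, Nat.card_eq_fintype_card, hn, pow_mul])

theorem comm_iff {x y : U4 K} : x * y = y * x ↔ x.t * y.u = y.t * x.u ∧
    2 * x.t * y.v + x.t ^ 2 * y.u = 2 * y.t * x.v + y.t ^ 2 * x.u := by
  refine ⟨fun h => ⟨?_, ?_⟩, fun h => ?_⟩
  · have := congrArg U4.v h
    simp only [mul_v] at this; linear_combination this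
  · have := congrArg U4.w h
    simp only [mul_w] at this; linear_combination this
  · ext <;> simp only [mul_t, mul_u, mul_v, mul_w]
    · ring
    · ring
    · linear_combination h.1
    · linear_combination h.2

theorem conj_eq (g x : U4 K) : g * x * g⁻¹ = ⟨x.t, x.u, x.v + g.t * x.u - x.t * g.u,
    x.w + 2 * g.t * x.v + g.t ^ 2 * x.u - 2 * x.t * g.v - x.t ^ 2 * g.u⟩ := by
  ext <;> simp only [mul_t, mul_u, mul_v, mul_w, inv_t, inv_u, inv_v, inv_w] <;> ring

/-- The matrix of an element. -/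
def mat (x : U4 K) : Matrix (Fin 2 ⊕ Fin 2) (Fin 2 ⊕ Fin 2) K :=
  fromBlocks !![1, 0; x.t, 1] !![x.u, x.v - x.u * x.t; x.v, x.w - x.v * x.t] 0 !![1, -x.t; 0, 1]

theorem mat_mem (x : U4 K) : x.mat ∈ symplecticGroup (Fin 2) K := by
  rw [SymplecticGroup.mem_iff]
  ext i j
  rcases i with i | i <;> rcases j with j | j <;> fin_cases i <;> fin_cases j <;>
    simp [mat, J, Matrix.mul_apply, Fintype.sum_sum_type, Fin.sum_univ_two] <;> ring

/-- The embedding into the symplectic group. -/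
def emb : U4 K →* symplecticGroup (Fin 2) K := MonoidHom.mk' (fun x => ⟨x.mat, x.mat_mem⟩)
  fun x y => Subtype.ext (by
    change (x * y).mat = x.mat * y.mat
    ext i j
    rcases i with i | i <;> rcases j with j | j <;> fin_cases i <;> fin_cases j <;>
      simp [mat, Matrix.mul_apply, Fintype.sum_sum_type, Fin.sum_univ_two] <;> ring)

theorem emb_injective : Function.Injective (emb : U4 K →* _) := by
  refine (injective_iff_map_eq_one _).2 fun x hx => ?_
  have h : x.mat = 1 := congrArg Subtype.val hx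
  have h1 : x.t = 0 := by simpa [mat] using congrFun (congrFun h (.inl 1)) (.inl 0)
  have h2 : x.u = 0 := by simpa [mat] using congrFun (congrFun h (.inl 0)) (.inr 0)
  have h3 : x.v = 0 := by simpa [mat] using congrFun (congrFun h (.inl 1)) (.inr 0)
  have h4 : x.w = 0 := by simpa [mat, h1] using congrFun (congrFun h (.inl 1)) (.inr 1)
  exact U4.ext h1 h2 h3 h4

theorem range_max [Finite K] {p : ℕ} [hp : Fact p.Prime] [CharP K p]
    {P : Subgroup (symplecticGroup (Fin 2) K)} (hP : IsPGroup p P) (hl : (emb (K := K)).range ≤ P) :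
    P = emb.range := by
  have hq : p ∣ Nat.card K := by
    haveI := Fintype.ofFinite K
    obtain ⟨n, -, hn⟩ := FiniteField.card K p
    rw [Nat.card_eq_fintype_card, hn]; exact dvd_pow_self p n.ne_zero
  have sym : ∀ g : symplecticGroup (Fin 2) K, ∀ i j,
      g.1 (.inr 0) i * g.1 (.inl 0) j + g.1 (.inr 1) i * g.1 (.inl 1) j -
        g.1 (.inl 0) i * g.1 (.inr 0) j - g.1 (.inl 1) i * g.1 (.inr 1) j = J (Fin 2) K i j := by
    intro g i j
    rw [← SymplecticGroup.mem_iff'.1 g.2]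
    simp [J, Matrix.mul_apply, Fintype.sum_sum_type, Fin.sum_univ_two]
    ring
  have s1 : ∀ g ∈ P, g.1 (.inl 0) (.inl 1) = 0 ∧ g.1 (.inl 1) (.inl 1) = 1 ∧
      g.1 (.inr 0) (.inl 1) = 0 ∧ g.1 (.inr 1) (.inl 1) = 0 := by
    letI : MulAction P (Fin 2 ⊕ Fin 2 → K) :=
      { smul := fun g y => g.1.1 *ᵥ y
        one_smul := fun y => Matrix.one_mulVec y
        mul_smul := fun a b y => (Matrix.mulVec_mulVec y a.1.1 b.1.1).symm }
    obtain ⟨y, hy, hy0⟩ := hP.exists_fixed_point_of_prime_dvd_card_of_fixed_point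
      (Fin 2 ⊕ Fin 2 → K) (by
        rw [Nat.card_fun]; exact hq.trans (dvd_pow_self _ Nat.card_pos.ne'))
      (a := 0) fun g => Matrix.mulVec_zero _
    have hy' : ∀ g ∈ P, ∀ i, g.1 i (.inl 0) * y (.inl 0) + g.1 i (.inl 1) * y (.inl 1) +
        (g.1 i (.inr 0) * y (.inr 0) + g.1 i (.inr 1) * y (.inr 1)) = y i := fun g hg i => by
      have : g.1 *ᵥ y = y := hy ⟨g, hg⟩
      simpa [mulVec, dotProduct, Fintype.sum_sum_type, Fin.sum_univ_two] using congrFun this i
    have a1 : y (.inl 0) = 0 := by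
      simpa [emb, mat] using hy' _ (hl ⟨⟨1, 0, 0, 0⟩, rfl⟩) (.inl 1)
    have a2 : y (.inr 0) = 0 := by
      simpa [emb, mat] using hy' _ (hl ⟨⟨0, 1, 0, 0⟩, rfl⟩) (.inl 0)
    have a3 : y (.inr 1) = 0 := by
      simpa [emb, mat] using hy' _ (hl ⟨⟨0, 0, 0, 1⟩, rfl⟩) (.inl 1)
    have a4 : y (.inl 1) ≠ 0 := fun a4 => hy0 (funext fun i => by
      rcases i with i | i <;> fin_cases i <;> simp [a1, a2, a3, a4])
    intro g hg
    have b := hy' g hg
    simp only [a1, a2, a3, mul_zero, add_zero, zero_add] at b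
    exact ⟨by simpa [a1, a4] using b (.inl 0), by simpa [a4] using b (.inl 1),
      by simpa [a2, a4] using b (.inr 0), by simpa [a3, a4] using b (.inr 1)⟩
  have s2 : ∀ g ∈ P, g.1 (.inr 1) (.inl 0) = 0 ∧ g.1 (.inr 1) (.inr 0) = 0 ∧
      g.1 (.inr 1) (.inr 1) = 1 := fun g hg => by
    obtain ⟨a1, a2, a3, a4⟩ := s1 g hg
    exact ⟨by simpa [a1, a2, a3, a4, J] using sym g (.inl 1) (.inl 0),
      by simpa [a1, a2, a3, a4, J] using sym g (.inl 1) (.inr 0),
      by simpa [a1, a2, a3, a4, J] using sym g (.inl 1) (.inr 1)⟩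
  have s3 : ∀ g ∈ P, g.1 (.inl 0) (.inl 0) = 1 ∧ g.1 (.inr 0) (.inl 0) = 0 := by
    letI : MulAction P (K × K) :=
      { smul := fun g y => (g.1.1 (.inl 0) (.inl 0) * y.1 + g.1.1 (.inl 0) (.inr 0) * y.2,
          g.1.1 (.inr 0) (.inl 0) * y.1 + g.1.1 (.inr 0) (.inr 0) * y.2)
        one_smul := fun y => by
          change (_, _) = _
          simp
        mul_smul := fun a b y => by
          obtain ⟨a1, -, a3, -⟩ := s1 a.1 a.2
          obtain ⟨b1, b2, -⟩ := s2 b.1 b.2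
          change (_, _) = (_ * (_ + _) + _ * (_ + _), _ * (_ + _) + _ * (_ + _))
          simp [Matrix.mul_apply, Fintype.sum_sum_type, Fin.sum_univ_two, a1, a3, b1, b2]
          constructor <;> ring }
    obtain ⟨y, hy, hy0⟩ := hP.exists_fixed_point_of_prime_dvd_card_of_fixed_point
      (K × K) (by rw [Nat.card_prod]; exact hq.mul_right _)
      (a := 0) fun g => by
        change (_, _) = _
        simp
    have hy' : ∀ g ∈ P, g.1 (.inl 0) (.inl 0) * y.1 + g.1 (.inl 0) (.inr 0) * y.2 = y.1 ∧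
        g.1 (.inr 0) (.inl 0) * y.1 + g.1 (.inr 0) (.inr 0) * y.2 = y.2 := fun g hg =>
      Prod.ext_iff.1 (hy ⟨g, hg⟩)
    have a1 : y.2 = 0 := by simpa [emb, mat] using (hy' _ (hl ⟨⟨0, 1, 0, 0⟩, rfl⟩)).1
    have a2 : y.1 ≠ 0 := fun a2 => hy0 (Prod.ext a2.symm a1.symm)
    intro g hg
    exact ⟨by simpa [a1, a2] using (hy' g hg).1, by simpa [a1, a2] using (hy' g hg).2⟩
  refine le_antisymm (fun g hg => ?_) hl
  obtain ⟨a1, a2, a3, a4⟩ := s1 g hg
  obtain ⟨b1, b2, b3⟩ := s2 g hg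
  obtain ⟨c1, c2⟩ := s3 g hg
  have d1 : g.1 (.inr 0) (.inr 0) = 1 := by
    simpa [b1, b2, c1, c2, J] using sym g (.inl 0) (.inr 0)
  have d2 := sym g (.inl 0) (.inr 1)
  have d3 := sym g (.inr 0) (.inr 1)
  simp [b1, b2, b3, c1, c2, d1, J] at d2 d3
  refine ⟨⟨g.1 (.inl 1) (.inl 0), g.1 (.inl 0) (.inr 0), g.1 (.inl 1) (.inr 0),
    g.1 (.inl 1) (.inr 1) + g.1 (.inl 1) (.inr 0) * g.1 (.inl 1) (.inl 0)⟩, Subtype.ext ?_⟩
  ext i j
  rcases i with i | i <;> rcases j with j | j <;> fin_cases i <;> fin_cases j <;>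
    simp [emb, mat, a1, a2, a3, a4, b1, b2, b3, c1, c2, d1]
  · linear_combination -d3 + g.1 (.inl 0) (.inr 0) * d2
  · linear_combination d2

theorem exists_equiv [Finite K] {p : ℕ} [Fact p.Prime] [CharP K p]
    (T : Sylow p (symplecticGroup (Fin 2) K)) :
    Nonempty ((T : Subgroup (symplecticGroup (Fin 2) K)) ≃* U4 K) := by
  let e := MonoidHom.ofInjective (emb_injective (K := K))
  let R : Sylow p (symplecticGroup (Fin 2) K) :=
    ⟨emb.range, (isPGroup p).of_equiv e, fun hP hl => range_max hP hl⟩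
  exact ⟨(T.equiv R).trans e.symm⟩

end U4

end Cfsg.Agent.H4.Sp
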