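import Cfsg.Agent.H4.Sp4S
import Cfsg.Agent.H4.Sp4U
import Cfsg.Agent.H4.Sp4A

/-! Fusion systems over a Sylow subgroup of `Sp₄(q)`, `q` odd. -/

set_option autoImplicit false
set_option linter.unusedSectionVars false
set_option linter.style.haveILetI false

open Equiv

namespace Cfsg.Agent.H4.Sp

open Cfsg.Fus Cfsg.FusionSystem U4

variable {K : Type*} [Field K]

/-- The long root subgroup. -/
def sC (K : Type*) [Field K] : Subgroup (U4 K) where
  carrier := {x | x.t = 0 ∧ x.u = 0 ∧ x.v = 0}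
  one_mem' := ⟨rfl, rfl, rfl⟩
  mul_mem' := fun {a b} ha hb => by simp [ha.1, ha.2.1, ha.2.2, hb.1, hb.2.1, hb.2.2]
  inv_mem' := fun {a} ha => by simp [ha.1, ha.2.1, ha.2.2]

/-- The product of the two highest root subgroups. -/
def sZ (K : Type*) [Field K] : Subgroup (U4 K) where
  carrier := {x | x.t = 0 ∧ x.u = 0}
  one_mem' := ⟨rfl, rfl⟩
  mul_mem' := fun {a b} ha hb => by simp [ha.1, ha.2, hb.1, hb.2]
  inv_mem' := fun {a} ha => by simp [ha.1, ha.2]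

/-- The abelian radical. -/
def sA (K : Type*) [Field K] : Subgroup (U4 K) where
  carrier := {x | x.t = 0}
  one_mem' := rfl
  mul_mem' := fun {a b} (ha : a.t = 0) (hb : b.t = 0) => by simp [ha, hb]
  inv_mem' := fun {a} (ha : a.t = 0) => by simp [ha]

/-- The other subgroups of order `q³` over `sZ` given by a line. -/
def sM (l : K) : Subgroup (U4 K) where
  carrier := {x | x.u = l * x.t}
  one_mem' := by simp
  mul_mem' := fun {a b} (ha : a.u = _) (hb : b.u = _) => by simp [ha, hb, mul_add]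
  inv_mem' := fun {a} (ha : a.u = _) => by simp [ha]

theorem mem_sC {x : U4 K} : x ∈ sC K ↔ x.t = 0 ∧ x.u = 0 ∧ x.v = 0 := Iff.rfl
theorem mem_sZ {x : U4 K} : x ∈ sZ K ↔ x.t = 0 ∧ x.u = 0 := Iff.rfl
theorem mem_sA {x : U4 K} : x ∈ sA K ↔ x.t = 0 := Iff.rfl
theorem mem_sM {l : K} {x : U4 K} : x ∈ sM l ↔ x.u = l * x.t := Iff.rfl

theorem sC_le_sZ : sC K ≤ sZ K := fun _ h => ⟨h.1, h.2.1⟩
theorem sZ_le_sA : sZ K ≤ sA K := fun _ h => h.1
theorem sZ_le_sM (l : K) : sZ K ≤ sM l := fun _ h => by simp [mem_sM, h.1, h.2]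

theorem cm_eq (g x : U4 K) : x⁻¹ * (g * x * g⁻¹) = ⟨0, 0, g.t * x.u - x.t * g.u,
    2 * g.t * x.v + g.t ^ 2 * x.u - 2 * x.t * g.v - x.t ^ 2 * g.u -
      2 * x.t * (g.t * x.u - x.t * g.u)⟩ := by
  ext <;> simp only [mul_t, mul_u, mul_v, mul_w, inv_t, inv_u, inv_v, inv_w] <;> ring

theorem cm_sZ (g x : U4 K) : x⁻¹ * (g * x * g⁻¹) ∈ sZ K := by rw [cm_eq]; exact ⟨rfl, rfl⟩

theorem cm_sC (g : U4 K) {x : U4 K} (hx : x ∈ sZ K) : x⁻¹ * (g * x * g⁻¹) ∈ sC K := by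
  rw [cm_eq]; exact ⟨rfl, rfl, by simp [hx.1, hx.2]⟩

theorem cj_sC (g : U4 K) {x : U4 K} (hx : x ∈ sC K) : g * x * g⁻¹ = x := by
  rw [conj_eq]; ext <;> simp [hx.1, hx.2.1, hx.2.2]

theorem comm_sC (g : U4 K) {x : U4 K} (hx : x ∈ sC K) : g * x = x * g := by
  rw [← mul_inv_eq_iff_eq_mul, cj_sC g hx]

theorem comm_sA {x y : U4 K} (hx : x ∈ sA K) (hy : y ∈ sA K) : x * y = y * x := by
  rw [comm_iff, mem_sA.1 hx, mem_sA.1 hy]; simp

theorem norm_of_cm [Finite K] {E : Subgroup (U4 K)} {g : U4 K}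
    (h : ∀ x ∈ E, x⁻¹ * (g * x * g⁻¹) ∈ E) : g ∈ Subgroup.normalizer (E : Set (U4 K)) :=
  mem_normalizer_of_finite fun x hx => by simpa using E.mul_mem hx (h x hx)

theorem norm_of_le [Finite K] {E : Subgroup (U4 K)} (h : sZ K ≤ E) (g : U4 K) :
    g ∈ Subgroup.normalizer (E : Set (U4 K)) := norm_of_cm fun x _ => h (cm_sZ g x)

theorem cent_of_comm {E : Subgroup (U4 K)} {F : FusionSystem (⊤ : Subgroup (U4 K))}
    (h : F.IsCentric E) {g : U4 K} (hg : ∀ x ∈ E, x * g = g * x) : g ∈ E :=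
  h.centralizerIn_le ⟨trivial, Subgroup.mem_centralizer_iff.2 hg⟩

theorem topP [Finite K] (p : ℕ) [Fact p.Prime] [CharP K p] :
    IsPGroup p (⊤ : Subgroup (U4 K)) := (isPGroup p).to_subgroup ⊤

/-- A chain of four subgroups. -/
def ch (A B C : Subgroup (U4 K)) : ℕ → Subgroup (U4 K)
  | 0 => ⊥
  | 1 => sC K
  | 2 => A
  | 3 => B
  | _ + 4 => C

section Odd

variable (h2 : (2 : K) ≠ 0)
include h2

theorem odd_comm {x : U4 K} (hx : x ∉ sC K) {a b : U4 K} (ha : x * a = a * x)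
    (hb : x * b = b * x) : a * b = b * a := by
  rw [comm_iff] at ha hb
  by_cases ht : x.t = 0
  · have key : ∀ a : U4 K, x.t * a.u = a.t * x.u ∧
        2 * x.t * a.v + x.t ^ 2 * a.u = 2 * a.t * x.v + a.t ^ 2 * x.u → a ∈ sA K := by
      intro a ha
      by_contra h0
      have h1 : x.u = 0 := (mul_eq_zero.1 (by simpa [ht] using ha.1.symm)).resolve_left h0
      have h3 : 2 * a.t * x.v = 0 := by simpa [ht, h1] using ha.2.symm
      exact hx ⟨ht, h1, (mul_eq_zero.1 h3).resolve_left (mul_ne_zero h2 h0)⟩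
    exact comm_sA (key a ha) (key b hb)
  · have e : a.t * b.u = b.t * a.u :=
      mul_left_cancel₀ ht (by linear_combination a.t * hb.1 - b.t * ha.1)
    refine comm_iff.2 ⟨e, mul_left_cancel₀ ht ?_⟩
    linear_combination a.t * hb.2 - b.t * ha.2 + a.t ^ 2 * hb.1 - b.t ^ 2 * ha.1 - x.t ^ 2 * e

theorem mem_sA_of_comm {x : U4 K} (h : x * ⟨0, 0, 1, 0⟩ = ⟨0, 0, 1, 0⟩ * x) : x ∈ sA K := by
  simpa [h2, mem_sA] using (comm_iff.1 h).2

theorem aut_sC {σ : Perm (U4 K)} (hσ : HomOn σ ⊤) {x : U4 K} (hx : x ∈ sC K) : σ x ∈ sC K := by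
  have key : ∀ y, σ x * y = y * σ x := fun y => by
    obtain ⟨y, rfl⟩ := σ.surjective y
    rw [← hσ trivial trivial, ← hσ trivial trivial, comm_sC y hx]
  have a1 : (σ x).t = 0 := mem_sA_of_comm h2 (key _)
  have a2 := comm_iff.1 (key ⟨1, 0, 0, 0⟩)
  have a3 : (σ x).u = 0 := by simpa using a2.1.symm
  exact ⟨a1, a3, by simpa [a3, h2] using a2.2.symm⟩

theorem aut_sZ {σ : Perm (U4 K)} (hσ : HomOn σ ⊤) {x : U4 K} (hx : x ∈ sZ K) : σ x ∈ sZ K := by
  have key : ∀ y, (σ x)⁻¹ * (y * σ x * y⁻¹) ∈ sC K := fun y => by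
    obtain ⟨y, rfl⟩ := σ.surjective y
    rw [← hσ.map_conj trivial trivial, ← hσ.map_inv trivial, ← hσ trivial trivial]
    exact aut_sC h2 hσ (cm_sC y hx)
  simp only [cm_eq, mem_sC] at key
  exact ⟨by simpa using (key ⟨0, 1, 0, 0⟩).2.2, by simpa using (key ⟨1, 0, 0, 0⟩).2.2⟩

theorem aut_sA {σ : Perm (U4 K)} (hσ : HomOn σ ⊤) {x : U4 K} (hx : x ∈ sA K) : σ x ∈ sA K := by
  have h1 : HomOn (⇑σ⁻¹) ⊤ := fun a _ b _ => σ.injective (by rw [hσ trivial trivial]; simp)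
  refine mem_sA_of_comm h2 (σ⁻¹.injective ?_)
  rw [h1 trivial trivial, h1 trivial trivial, perm_inv_apply_self]
  exact comm_sA hx (aut_sZ h2 h1 ⟨rfl, rfl⟩).1

variable [Finite K] {p : ℕ} [Fact p.Prime] [CharP K p] {F : FusionSystem (⊤ : Subgroup (U4 K))}
  (hF : F.IsSaturated p) {r : U4 K} (hr : r ∈ F.core) (hr1 : r ≠ 1) (hc : F.core ≤ sC K)
include hF hr hr1 hc

theorem odd_inv {E : Subgroup (U4 K)} (hE : F.IsEssential p E) (hA : E ≠ sA K) {τ : Perm (U4 K)}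
    (hτ : F.Iso E E τ) {x : U4 K} (hx : x ∈ sC K) : τ x ∈ sC K := by
  by_contra hn
  have hZ : sC K ≤ E := fun z hz => cent_of_comm hE.isCentric fun y _ => comm_sC y hz
  have c1 : ∀ y ∈ E, τ x * y = y * τ x := fun y hy => by
    obtain ⟨y, hy', rfl⟩ := hτ.exists_eq hy
    rw [← hτ.homOn (hZ hx) hy', ← hτ.homOn hy' (hZ hx), comm_sC y hx]
  have ht : (τ x).t ≠ 0 := fun ht => hA (le_antisymm (fun y hy => mem_sA_of_comm h2
    (odd_comm h2 hn (c1 y hy) (comm_sA ht rfl))) fun y hy => cent_of_comm hE.isCentric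
      fun z hz => odd_comm h2 hn (c1 z hz) (comm_sA ht hy))
  have b1 := hc (F.isNormal_core9.stronglyClosed.mem hτ.isMap (hZ (hc hr)) hr)
  let s : U4 K := ⟨0, 0, -(τ r).w / (2 * (τ x).t), 0⟩
  have b3 : s * τ x * s⁻¹ = τ x * τ r := by
    rw [conj_eq]
    ext <;> simp [s, b1.1, b1.2.1, b1.2.2]
    field_simp
    ring
  have b4 : s ∈ Subgroup.normalizer (E : Set (U4 K)) := norm_of_cm fun z _ => hZ (by
    rw [cm_eq]; exact ⟨rfl, rfl, by simp [s]⟩)
  have hc' : ∀ z ∈ sC K, z ∈ Subgroup.centralizer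
      ((normalizerIn ⊤ E : Subgroup (U4 K)) : Set (U4 K)) := fun z hz =>
    Subgroup.mem_centralizer_iff.2 fun y _ => comm_sC y hz
  have b5 : (τ⁻¹ * cj s * τ⁻¹⁻¹) x = x * r ^ (1 : ℤ) := by
    simp only [inv_inv, Perm.mul_apply, cj_apply, b3, zpow_one]
    rw [← hτ.homOn.map_mul (hZ hx) (hZ (hc hr)), perm_inv_apply_self]
  have := (hE.isFullyNormalized.isFullyAutomized hF (topP p)).fix_of_coset (hZ hx) (hZ (hc hr))
    (hc' x hx) (hc' r (hc hr)) ((H8.qEl_cj (topP p) hE.le trivial b4).conj hτ.symm) (by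
      simp only [inv_inv, Perm.mul_apply, cj_apply]
      rw [cj_sC s b1, perm_inv_apply_self]) b5
  rw [b5] at this
  exact hr1 (by simpa using this)

omit h2 hr hr1 hc in
theorem not_chain {E B : Subgroup (U4 K)} (hE : F.IsEssential p E) (hB : B ≤ E) (hC : sC K ≤ E)
    (h1 : ∀ τ, F.Iso E E τ → ∀ x ∈ sC K, τ x ∈ sC K) (h3 : ∀ τ, F.Iso E E τ → ∀ x ∈ B, τ x ∈ B)
    (h4 : ∀ g, ∀ x ∈ B, x⁻¹ * (g * x * g⁻¹) ∈ sC K) (h5 : ∀ g, ∀ x ∈ E, x⁻¹ * (g * x * g⁻¹) ∈ B) :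
    False := by
  refine hE.not_innS_le hF (topP p) fun u hu => ?_
  obtain ⟨g, -, -, c⟩ := mem_innS.1 hu
  refine ((mem_stab hE.le).1 (F.innS_le_stab hE.le hu)).mem_opStab_of_chain (topP p)
    (C := ch B E E) (n := 3) (fun i hi => ?_) rfl rfl (fun τ hτ i hi => ?_) fun i hi x hx => ?_
  · interval_cases i
    exacts [bot_le, hC, hB, le_rfl]
  · interval_cases i
    exacts [fun x hx => by rw [Subgroup.mem_bot.1 hx, hτ.homOn.map_one]; exact one_mem _,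
      h1 τ hτ, h3 τ hτ, fun x hx => hτ.mem hx]
  · interval_cases i
    · rw [c x (hC hx), cj_sC g hx]; exact inv_mul_cancel x
    · rw [c x (hB hx)]; exact h4 g x hx
    · rw [c x hx]; exact h5 g x hx

theorem odd_ess {E : Subgroup (U4 K)} (hE : F.IsEssential p E) (hA : E ≠ sA K) :
    ∃ l, E = sM l := by
  have hZ : sC K ≤ E := fun z hz => cent_of_comm hE.isCentric fun y _ => comm_sC y hz
  have hi := fun τ hτ x hx => odd_inv h2 hF hr hr1 hc hE hA (τ := τ) hτ (x := x) hx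
  have k1 : ∀ g : U4 K, (∀ x ∈ E, g.t * x.u = x.t * g.u) → g ∈ E := fun g hg => by
    have a1 : ∀ x ∈ E, x⁻¹ * (g * x * g⁻¹) ∈ sC K := fun x hx => by
      rw [cm_eq]; exact ⟨rfl, rfl, sub_eq_zero.2 (hg x hx)⟩
    exact hE.isCentric.mem_of_cj_mem_opStab (hE.isRadical (topP p)) trivial
      ((F.iso_cj hE.le trivial (norm_of_cm fun x hx => hZ (a1 x hx))).mem_opStab_of_fix (topP p)
        hZ hi (fun x hx => cj_sC g hx) a1)
  have k2 : sZ K ≤ E := fun g hg => k1 g fun x _ => by simp [hg.1, hg.2]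
  obtain ⟨x, hx, hxt⟩ : ∃ x ∈ E, x.t ≠ 0 := by
    by_contra hn
    push Not at hn
    exact hA (le_antisymm hn fun y hy => cent_of_comm hE.isCentric
      fun z hz => comm_sA (hn z hz) hy)
  have k3 : ∀ y ∈ E, x.t * y.u = y.t * x.u := fun y hy => by
    by_contra hn
    refine not_chain hF hE k2 hZ hi (fun τ hτ z hz => ?_) (fun g z hz => cm_sC g hz)
      fun g z _ => cm_sZ g z
    have key : ∀ e ∈ E, e.t * (τ z).u - (τ z).t * e.u = 0 := fun e he => by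
      obtain ⟨e, he', rfl⟩ := hτ.exists_eq he
      have := hi τ hτ _ (cm_sC e hz)
      rw [hτ.homOn (E.inv_mem (k2 hz)) (conj_mem_of_mem_normalizer (norm_of_le k2 e) (k2 hz)),
        hτ.homOn.map_conj he' (k2 hz), hτ.homOn.map_inv (k2 hz), cm_eq] at this
      exact this.2.2
    have hn' := sub_ne_zero.2 hn
    exact ⟨mul_left_cancel₀ hn' (by linear_combination y.t * key x hx - x.t * key y hy),
      mul_left_cancel₀ hn' (by linear_combination y.u * key x hx - x.u * key y hy)⟩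
  refine ⟨x.u / x.t, le_antisymm (fun y hy => ?_) fun y hy => k1 y fun z hz => ?_⟩
  · rw [mem_sM]; field_simp; linear_combination k3 y hy
  · rw [mem_sM.1 hy]; field_simp; linear_combination y.t * k3 z hz

theorem odd_torus {l : K} (hE : F.IsEssential p (sM l)) {c : K} (hc0 : c ≠ 0) :
    ∃ θ, F.Iso ⊤ ⊤ θ ∧ (∀ x ∈ sC K, θ x = x) ∧ (∀ x ∈ sZ K, (θ x).v = c * x.v) ∧
      (∀ x ∈ sM l, θ x ∈ sM l ∧ (θ x).t = x.t / c) := by
  have hA : sM l ≠ sA K := fun h => by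
    simpa [mem_sA] using h.le (show (⟨1, l, 0, 0⟩ : U4 K) ∈ sM l by simp [mem_sM])
  have hi := fun τ hτ x hx => odd_inv h2 hF hr hr1 hc hE hA (τ := τ) hτ (x := x) hx
  have ha := hE.isFullyNormalized.isFullyAutomized hF (topP p)
  have k2 := sZ_le_sM l
  have hZ := sC_le_sZ.trans k2
  obtain ⟨Γ, _, _, _, P, ρ, r1, r2, -, r4, r5⟩ := exists_setup ha
    (fun x : U4 K => (x.t, x.v - l * x.t ^ 2 / 2))
    (fun x _ y hy => Prod.ext rfl (by simp [mem_sM.1 hy]; field_simp; ring))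
    (fun v => ⟨⟨v.1, l * v.1, v.2 + l * v.1 ^ 2 / 2, 0⟩, rfl, by simp⟩)
    (fun τ hτ x hx h0 => by
      have a1 : x.t = 0 := congrArg Prod.fst h0
      have a2 : x.v = 0 := by simpa [a1] using congrArg Prod.snd h0
      have := hi τ hτ x ⟨a1, by simp [mem_sM.1 hx, a1], a2⟩
      simp [this.1, this.2.2])
  have el : ∀ x y : K, (⟨x, l * x, y + l * x ^ 2 / 2, 0⟩ : U4 K) ∈ sM l := fun _ _ => rfl
  have r6 : ∀ a x y, a • (x, y) = ((ρ a ⟨x, l * x, y + l * x ^ 2 / 2, 0⟩).t,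
      (ρ a ⟨x, l * x, y + l * x ^ 2 / 2, 0⟩).v -
        l * (ρ a ⟨x, l * x, y + l * x ^ 2 / 2, 0⟩).t ^ 2 / 2) := fun a x y => by
    simpa using r5 a _ (el x y)
  have hQ : Quad K (P : Subgroup Γ) := ⟨fun s hs => by
    obtain ⟨g, -, -, c⟩ := mem_innS.1 ((r4 s).1 hs)
    refine ⟨l * g.t - g.u, fun x y => ?_⟩
    rw [r6, c _ (el x y), conj_eq]
    exact Prod.ext rfl (by simp only; ring), fun t => by
    obtain ⟨a, ha⟩ := r2 _ (F.iso_cj le_top trivial (norm_of_le k2 ⟨0, -t, 0, 0⟩))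
    refine ⟨a, (r4 a).2 (mem_of_congr (fixP_le_innS _ _)
      (cj_mem_innS trivial (norm_of_le k2 ⟨0, -t, 0, 0⟩)) ha), fun x y => ?_⟩
    rw [r6, ha _ (el x y), cj_apply, conj_eq]
    exact Prod.ext rfl (by simp only; ring)⟩
  obtain ⟨g, y₀, hg⟩ : ∃ (g : Γ) (y₀ : K), (g • ((0 : K), y₀)).1 ≠ 0 := by
    by_contra hn
    push Not at hn
    refine not_chain hF hE k2 hZ hi (fun τ hτ z hz => ?_) (fun g z hz => cm_sC g hz)
      fun g z _ => cm_sZ g z
    obtain ⟨a, ha⟩ := r2 τ hτ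
    have a1 := congrArg Prod.fst (r5 a z (k2 hz))
    simp only [hz.1, hn, ha z (k2 hz)] at a1
    exact ⟨a1.symm, by rw [mem_sM.1 (hτ.mem (k2 hz)), ← a1, mul_zero]⟩
  let N : Subgroup Γ := (fixP (sC K)).comap ρ
  haveI : N.Normal := ⟨fun n hn a => by
    rw [Subgroup.mem_comap, map_mul, map_mul, map_inv]
    exact conj_mem_fixP (mem_setStab_of_finite (hi _ (r1 a))) hn⟩
  obtain ⟨γ, hγ⟩ := hQ.torus hg N fun s hs => by
    obtain ⟨g, -, -, c⟩ := mem_innS.1 ((r4 s).1 hs)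
    exact fun x hx => by rw [c x (hZ hx), cj_sC g hx]
  obtain ⟨a, a1, a2⟩ := hγ c hc0
  have a3 : ∀ x ∈ sM l, (ρ a x).t = x.t / c := fun x hx => by
    have e1 := a2 x.t (x.v - l * x.t ^ 2 / 2 - γ x.t)
    rw [sub_add_cancel, r5 a x hx] at e1
    exact congrArg Prod.fst e1
  have a4 : ∀ x ∈ sZ K, ρ a x ∈ sZ K := fun x hx => by
    have := a3 x (k2 hx)
    rw [hx.1, zero_div] at this
    exact ⟨this, by rw [mem_sM.1 ((r1 a).mem (k2 hx)), this, mul_zero]⟩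
  have a5 : ∀ x ∈ sZ K, (ρ a x).v = c * x.v := fun x hx => by
    have e1 := a2 0 x.v
    have e2 := r5 a x (k2 hx)
    simp only [hx.1, (a4 x hx).1] at e2
    simp only [map_zero, add_zero, zero_div] at e1
    simpa [e1] using (congrArg Prod.snd e2).symm
  have s1 := mem_setStab_of_finite (hi _ (r1 a))
  have s2 := mem_setStab_of_finite a4
  obtain ⟨θ, t1, t2⟩ := exists_ext_top (hE.isCentric.isReceptive hF (topP p))
    (fun g _ => norm_of_le k2 g) (r1 a) fun g _ => by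
      have key : ∀ x ∈ sM l, x⁻¹ * (ρ a * cj g * (ρ a)⁻¹) x =
          ρ a (((ρ a)⁻¹ x)⁻¹ * (g * (ρ a)⁻¹ x * g⁻¹)) := fun x hx => by
        have m := (r1 a).inv_mem hx
        rw [(r1 a).homOn ((sM l).inv_mem m) (conj_mem_of_mem_normalizer (norm_of_le k2 g) m),
          (r1 a).homOn.map_inv m, perm_apply_inv_self]
        rfl
      refine mem_innS_of_chain ha (topP p) (C := ch (sZ K) (sM l) (sM l)) (n := 3)
        (fun i hi => ?_) (fun i hi => ?_) rfl rfl (fun g _ _ i hi x hx => ?_)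
        ((r1 a).conj (F.iso_cj le_top trivial (norm_of_le k2 g))) fun i hi x hx => ?_
      · interval_cases i
        exacts [bot_le, hZ, k2, le_rfl]
      · interval_cases i
        exacts [bot_le, sC_le_sZ, k2]
      · interval_cases i
        exacts [by rw [cj_sC g hx]; exact inv_mul_cancel x, cm_sC g hx, cm_sZ g x]
      · interval_cases i
        · rw [key x (hZ hx), cj_sC g (((setStab _).inv_mem s1 x).2 hx), inv_mul_cancel]
          exact (r1 a).homOn.map_one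
        · rw [key x (k2 hx)]
          exact (s1 _).2 (cm_sC g (((setStab _).inv_mem s2 x).2 hx))
        · rw [key x hx]
          exact a4 _ (cm_sZ g _)
  exact ⟨θ, t1, fun x hx => by rw [t2 x (hZ hx), a1 x hx], fun x hx => by rw [t2 x (k2 hx), a5 x hx],
    fun x hx => by rw [t2 x hx]; exact ⟨(r1 a).mem hx, a3 x hx⟩⟩

theorem odd_torus' {l : K} (hE : F.IsEssential p (sM l)) : ∃ θ, F.Iso ⊤ ⊤ θ ∧
    (∀ x ∈ sC K, θ x = x) ∧ (∀ x ∈ sZ K, (θ x).v = -x.v) ∧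
      ∀ x, (θ x).t = -x.t ∧ (θ x).u = x.u - 2 * l * x.t := by
  obtain ⟨θ, t1, t2, t3, t4⟩ := odd_torus h2 hF hr hr1 hc hE (c := -1) (by simp)
  have hm := fun x y => t1.homOn (x := x) trivial (y := y) trivial
  have a1 : ∀ x ∈ sA K, (θ x).u = x.u := fun x hx => by
    have e := t3 _ (cm_sZ ⟨1, l, 0, 0⟩ x)
    rw [hm, t1.homOn.map_conj trivial trivial, t1.homOn.map_inv trivial, cm_eq, cm_eq] at e
    simpa [mem_sA.1 hx, mem_sA.1 (aut_sA h2 t1.homOn hx), (t4 ⟨1, l, 0, 0⟩ (by simp [mem_sM])).2]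
      using e
  refine ⟨θ, t1, t2, fun x hx => by simp [t3 x hx], fun x => ?_⟩
  have m : (⟨x.t, l * x.t, 0, 0⟩ : U4 K) ∈ sM l := rfl
  have m' : (⟨x.t, l * x.t, 0, 0⟩ : U4 K)⁻¹ * x ∈ sA K := by simp [mem_sA]
  have e : θ x = θ ⟨x.t, l * x.t, 0, 0⟩ * θ ((⟨x.t, l * x.t, 0, 0⟩ : U4 K)⁻¹ * x) := by
    rw [← hm]; simp
  rw [e, mul_t, mul_u, a1 _ m', mem_sM.1 (t4 _ m).1, (t4 _ m).2, mem_sA.1 (aut_sA h2 t1.homOn m')]
  simp only [mul_u, inv_u]
  constructor <;> ring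

theorem odd_uniq {l m : K} (hl : F.IsEssential p (sM l)) (hm : F.IsEssential p (sM m)) : l = m := by
  obtain ⟨θ, t1, t2, t3, t4⟩ := odd_torus' h2 hF hr hr1 hc hl
  obtain ⟨φ, f1, f2, f3, f4⟩ := odd_torus' h2 hF hr hr1 hc hm
  have := mem_innS_of_chain (hF.isFullyAutomized_top (topP p)) (topP p)
    (C := ch (sZ K) (sA K) ⊤) (n := 4) (fun i _ => le_top) (fun i hi => ?_) rfl rfl
    (fun g _ _ i hi x hx => ?_) (f1.trans t1) fun i hi x hx => ?_
  · obtain ⟨g, -, -, c⟩ := mem_innS.1 this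
    have e := congrArg U4.u (c ⟨1, 0, 0, 0⟩ trivial)
    rw [conj_eq, Perm.mul_apply, (t4 _).2, (f4 _).2, (f4 _).1] at e
    exact mul_left_cancel₀ h2 (by simp only at e; linear_combination e)
  · interval_cases i
    exacts [bot_le, sC_le_sZ, sZ_le_sA, le_top]
  · interval_cases i
    exacts [by rw [cj_sC g hx]; exact inv_mul_cancel x, cm_sC g hx, cm_sZ g x, (cm_sZ g x).1]
  · rw [Perm.mul_apply]
    interval_cases i
    · rw [f2 x hx, t2 x hx]; exact inv_mul_cancel x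
    · have a1 := aut_sZ h2 f1.homOn hx
      have a2 := aut_sZ h2 t1.homOn a1
      exact ⟨by simp [hx.1, a2.1], by simp [hx.2, a2.2],
        by simp [hx.1, hx.2, t3 _ a1, f3 _ hx]⟩
    · exact ⟨by simp [(t4 _).1, (f4 _).1], by simp [(t4 _).2, (f4 _).1, (f4 _).2, mem_sA.1 hx]⟩
    · simp [ch, mem_sA, (t4 _).1, (f4 _).1]

theorem odd_both {l : K} (hl : F.IsEssential p (sM l)) (hE : F.IsEssential p (sA K)) : False := by
  have ha := hE.isFullyNormalized.isFullyAutomized hF (topP p)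
  have k2 : sZ K ≤ sA K := sZ_le_sA
  have hZ := sC_le_sZ.trans k2
  obtain ⟨Γ, _, _, _, P, ρ, r1, r2, r3, r4, r5⟩ := exists_setup ha
    (fun x : U4 K => (x.u, x.v, x.w))
    (fun x hx y _ => by simp [mem_sA.1 hx])
    (fun v => ⟨⟨0, v.1, v.2.1, v.2.2⟩, rfl, rfl⟩)
    (fun τ hτ x hx h0 => by
      have : x = 1 := U4.ext hx (congrArg Prod.fst h0) (congrArg (fun y => y.2.1) h0)
        (congrArg (fun y => y.2.2) h0)
      rw [this, hτ.homOn.map_one]; rfl)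
  have el : ∀ x : K × K × K, (⟨0, x.1, x.2.1, x.2.2⟩ : U4 K) ∈ sA K := fun _ => rfl
  have r6 : ∀ a (x : K × K × K), a • x = ((ρ a ⟨0, x.1, x.2.1, x.2.2⟩).u,
      (ρ a ⟨0, x.1, x.2.1, x.2.2⟩).v, (ρ a ⟨0, x.1, x.2.1, x.2.2⟩).w) := fun a x => r5 a _ (el x)
  have hcub : Cub P (r.u, r.v, r.w) := ⟨h2, fun a h => r3 a fun x hx => by
    have := (r5 a x hx).symm.trans (h _)
    exact U4.ext (((r1 a).mem hx).trans hx.symm) (congrArg Prod.fst this)
      (congrArg (fun y => y.2.1) this) (congrArg (fun y => y.2.2) this), fun s hs => by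
    obtain ⟨g, -, -, c⟩ := mem_innS.1 ((r4 s).1 hs)
    refine ⟨g.t, fun x => ?_⟩
    rw [r6, c _ (el x), conj_eq]
    simp [sT], fun t => by
    obtain ⟨a, ha⟩ := r2 _ (F.iso_cj le_top trivial (norm_of_le k2 ⟨t, 0, 0, 0⟩))
    refine ⟨a, (r4 a).2 (mem_of_congr (fixP_le_innS _ _)
      (cj_mem_innS trivial (norm_of_le k2 ⟨t, 0, 0, 0⟩)) ha), fun x => ?_⟩
    rw [r6, ha _ (el x), cj_apply, conj_eq]
    simp [sT], fun h0 => hr1 (U4.ext (hc hr).1 (congrArg Prod.fst h0)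
      (congrArg (fun y => y.2.1) h0) (congrArg (fun y => y.2.2) h0)), fun a => by
    rw [r5 a r (hZ (hc hr))]
    exact (hc (F.isNormal_core9.stronglyClosed.mem (r1 a).isMap (hZ (hc hr)) hr)).2⟩
  obtain ⟨g, hg⟩ : ∃ g : Γ, g ∉ Subgroup.normalizer ((P : Subgroup Γ) : Set Γ) := by
    by_contra hn
    push Not at hn
    refine hE.not_innS_le hF (topP p) (le_opStab le_top (F.innS_le_stab le_top)
      (isPMod_innS (topP p) _) fun τ hτ u hu => ?_)
    obtain ⟨a, ha⟩ := r2 τ hτ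
    obtain ⟨s, hs⟩ := r2 u ((mem_stab le_top).1 (F.innS_le_stab le_top hu))
    have := (r4 _).1 ((Subgroup.mem_normalizer_iff.1 (hn a) s).1
      ((r4 s).2 (mem_of_congr (fixP_le_innS _ _) hu hs)))
    refine mem_of_congr (fixP_le_innS _ _) this fun x hx => ?_
    obtain ⟨x, hx', rfl⟩ := hτ.exists_eq hx
    rw [map_mul, map_mul, map_inv, Perm.mul_apply, Perm.mul_apply, Perm.mul_apply, Perm.mul_apply,
      perm_inv_apply_self, ← ha x hx', perm_inv_apply_self, hs x hx',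
      ha _ (((mem_stab le_top).1 (F.innS_le_stab le_top hu)).mem hx')]
  refine hcub.false hg fun c hc0 => ?_
  obtain ⟨θ, t1, t2, t3, -⟩ := odd_torus h2 hF hr hr1 hc hl hc0
  obtain ⟨a, ha⟩ := r2 θ ((t1.isMap.mono le_top).iso_self fun x hx => aut_sA h2 t1.homOn hx)
  have a1 : ∀ x ∈ Z0 K, a • x = x := fun x hx => by
    rw [r6, ha _ (el x), t2 _ ⟨rfl, hx.1, hx.2⟩]
  refine ⟨a, hcub.mem_norm fun x hx => by rw [a1 x hx]; exact hx, a1, ?_⟩
  rw [r6, ha _ (el _)]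
  simpa using t3 ⟨0, 0, 1, 0⟩ ⟨rfl, rfl⟩

theorem odd_false : False := by
  by_cases hM : ∃ l : K, F.IsEssential p (sM l)
  · obtain ⟨l, hl⟩ := hM
    have key : ∀ E, F.IsEssential p E → E = sM l := fun E hE => by
      obtain ⟨m, rfl⟩ := odd_ess h2 hF hr hr1 hc hE (by
        rintro rfl; exact odd_both h2 hF hr hr1 hc hl hE)
      rw [odd_uniq h2 hF hr hr1 hc hE hl]
    have := hc ((hF.isNormal_of_essential (topP p) (Q := sM l) fun R hR => ?_).le_core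
      (show (⟨1, l, 0, 0⟩ : U4 K) ∈ sM l by simp [mem_sM]))
    · exact one_ne_zero this.1
    · rcases hR with rfl | hR
      · exact ⟨le_top, fun τ hτ x hx => key _ (essential_img hl hτ) ▸ mem_img_of_mem τ hx⟩
      · rw [key R hR]; exact ⟨le_rfl, fun τ hτ x hx => hτ.mem hx⟩
  · have := hc ((hF.isNormal_of_essential (topP p) (Q := sA K) fun R hR => ?_).le_core
      (show (⟨0, 1, 0, 0⟩ : U4 K) ∈ sA K from rfl))
    · exact one_ne_zero this.2.1
    · rcases hR with rfl | hR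
      · exact ⟨le_top, fun τ hτ x hx => aut_sA h2 hτ.homOn hx⟩
      · obtain rfl : R = sA K := by
          by_contra hn
          obtain ⟨l, rfl⟩ := odd_ess h2 hF hr hr1 hc hR hn
          exact hM ⟨l, hR⟩
        exact ⟨le_rfl, fun τ hτ x hx => hτ.mem hx⟩

end Odd

theorem odd_realizable (h2 : (2 : K) ≠ 0) [Finite K] {p : ℕ} [Fact p.Prime] [CharP K p]
    {F : FusionSystem (⊤ : Subgroup (U4 K))} (hF : F.IsSaturated p) (h : F.core ≠ ⊥) :
    F.IsRealizable p := by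
  by_cases hc : F.core ≤ sC K
  · obtain ⟨⟨r, hr⟩, hr1⟩ := Subgroup.ne_bot_iff_exists_ne_one.1 h
    exact (odd_false h2 hF hr (fun e => hr1 (Subtype.ext e)) hc).elim
  · obtain ⟨x, hx, hx'⟩ := SetLike.not_le_iff_exists.1 hc
    exact isRealizable_of_constrained (topP p)
      (isConstrained_of_comm hF (topP p) hx fun a _ b _ => odd_comm h2 hx')

end Cfsg.Agent.H4.Sp
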