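import Cfsg.Agent.H4.Sp4Two

/-! Fusion systems over a Sylow subgroup of `Sp₄(q)`, `q` even: standard systems. -/

set_option autoImplicit false
set_option linter.unusedSectionVars false
set_option linter.style.haveILetI false

open Equiv

namespace Cfsg.Agent.H4.Sp

open Cfsg.Fus Cfsg.FusionSystem U4

universe u

variable {K : Type u} [Field K] [CharP K 2] [Finite K] {F : FusionSystem (⊤ : Subgroup (U4 K))}
  {i : Bool} {τ α : Perm (U4 K)}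

theorem setupQ (hF : F.IsSaturated 2)
    (hi : ∀ τ, F.Iso (sQ K i) (sQ K i) τ → ∀ c ∈ sC K, τ c ∈ sC K) :
    ∃ (Γ : Type u) (_ : Group Γ) (_ : Finite Γ) (_ : DistribMulAction Γ (K × K)) (P : Sylow 2 Γ)
      (ρ : Γ →* Perm (U4 K)), (∀ a, F.Iso (sQ K i) (sQ K i) (ρ a)) ∧
      (∀ τ, F.Iso (sQ K i) (sQ K i) τ → ∃ a, ∀ x ∈ sQ K i, ρ a x = τ x) ∧
      (∀ a ∈ (P : Subgroup Γ), ∀ z ∈ sZ K, ρ a z = z) ∧ Quad K (P : Subgroup Γ) ∧
      ∀ a x y w, a • (x, y) = (cc i (ρ a (jj i x y w)), (ρ a (jj i x y w)).v) := by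
  obtain ⟨Γ, _, _, _, P, ρ, r1, r2, -, r4, r5⟩ :=
    exists_setup ((fn_sQ i).isFullyAutomized hF (topP 2)) (fun x : U4 K => (cc i x, x.v))
    (fun x hx y hy => by
      obtain ⟨a, b, c, rfl⟩ := exists_jj hx
      obtain ⟨a', b', c', rfl⟩ := exists_jj hy
      simp [jj_mul])
    (fun v => ⟨jj i v.1 v.2 0, jj_mem .., by simp⟩)
    (fun τ hτ x hx h0 => by
      obtain ⟨a, b, c, rfl⟩ := exists_jj hx
      have := hi τ hτ (jj i a b c) (jj_mem_sC.2 (by simpa using h0))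
      exact Prod.ext ((cc_eq_zero (hτ.mem hx)).2 (sC_le_sZ this)) this.2.2)
  have r6 : ∀ a x y w, a • (x, y) = (cc i (ρ a (jj i x y w)), (ρ a (jj i x y w)).v) :=
    fun a x y w => by simpa using r5 a _ (jj_mem x y w)
  refine ⟨Γ, _, ‹_›, _, P, ρ, r1, r2, fun s hs z hz => ?_, ⟨fun s hs => ?_, fun t => ?_⟩, r6⟩
  · obtain ⟨g, -, -, c⟩ := mem_innS.1 ((r4 s).1 hs)
    rw [c z (sZ_le_sQ i hz), cj_sZ g hz]
  · obtain ⟨g, -, -, c⟩ := mem_innS.1 ((r4 s).1 hs)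
    exact ⟨oc i g, fun x y => by rw [r6 s x y 0, c _ (jj_mem ..), conj_jj]; simp⟩
  · obtain ⟨g, rfl⟩ := exists_oc i t
    obtain ⟨a, ha⟩ := r2 _ (iso_cj_sQ i g)
    refine ⟨a, (r4 a).2 (mem_of_congr (fixP_le_innS _ _)
      (cj_mem_innS trivial (norm_of_le (sZ_le_sQ i) g)) ha), fun x y => ?_⟩
    rw [r6 a x y 0, ha _ (jj_mem ..), cj_apply, conj_jj]; simp

theorem two_opp (hF : F.IsSaturated 2)
    (hi : ∀ τ, F.Iso (sQ K i) (sQ K i) τ → ∀ c ∈ sC K, τ c ∈ sC K)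
    (hτ : F.Iso (sQ K i) (sQ K i) τ) {z : U4 K} (hz : z ∈ sZ K) (hz' : τ z ∉ sZ K) :
    ∃ (γ δ : K →+ K) (σ : Perm (U4 K)), F.Iso (sQ K i) (sQ K i) σ ∧ ∀ x y w,
      σ (jj i x (y + γ x) (w + δ x)) =
        jj i (x + y) (y + γ (x + y)) (w + bb i 1 y + δ (x + y)) := by
  obtain ⟨Γ, _, _, _, P, ρ, r1, r2, r3, hQ, r6⟩ := setupQ hF hi
  have k2 := sZ_le_sQ (K := K) i
  obtain ⟨g, hg⟩ := r2 τ hτ
  obtain ⟨y₀, w₀, rfl⟩ := exists_sZ i hz
  obtain ⟨γ, g1, g2⟩ := hQ.opp (g := g) (y₀ := y₀) (by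
    rw [r6 g 0 y₀ w₀, hg _ (jj_mem ..)]
    exact mt (cc_eq_zero (hτ.mem (jj_mem ..))).1 hz')
  obtain ⟨s, hs, e⟩ := g2 1
  have hσ := r1 (g * s * g⁻¹)
  have f1 : ∀ z ∈ sZ K, ρ (g * s * g⁻¹) (ρ g z) = ρ g z := fun z hz => by
    simp [r3 s hs z hz]
  have f2 : ∀ x w, ρ (g * s * g⁻¹) (jj i x (γ x) w) = jj i x (γ x) w := fun x w => by
    obtain ⟨y, hy⟩ := g1 x
    rw [r6 g 0 y 0] at hy
    have e1 : jj i x (γ x) w = ρ g (jj i 0 y 0 *
        (ρ g)⁻¹ (jj i 0 0 (w + (ρ g (jj i 0 y 0)).w))) := by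
      rw [(r1 g).homOn (jj_mem ..) ((r1 g).inv_mem (jj_mem ..)), perm_apply_inv_self,
        ← eq_jj ((r1 g).mem (jj_mem 0 y 0)), jj_mul, jj_w, add_zero, add_zero,
        show cc i _ = x from congrArg Prod.fst hy, show U4.v _ = γ x from congrArg Prod.snd hy,
        add_comm w, ← add_assoc, CharTwo.add_self_eq_zero, zero_add]
    rw [e1, f1 _ ((sZ K).mul_mem (jj_mem_sZ.2 rfl)
      (sC_le_sZ (hi _ (r1 g).symm _ (jj_mem_sC.2 ⟨rfl, rfl⟩))))]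
  have f3 : ∀ y, ρ (g * s * g⁻¹) (jj i 0 y 0) =
      jj i y (y + γ y) (ρ (g * s * g⁻¹) (jj i 0 y 0)).w := fun y => by
    have e1 := e 0 y
    rw [map_zero, add_zero, r6 _ 0 y 0, one_mul, zero_add] at e1
    conv_lhs => rw [← eq_jj (hσ.mem (jj_mem 0 y 0))]
    rw [show cc i _ = y from congrArg Prod.fst e1, show U4.v _ = _ from congrArg Prod.snd e1]
  let δ : K →+ K := AddMonoidHom.mk' (fun y => (ρ (g * s * g⁻¹) (jj i 0 y 0)).w + bb i 1 y)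
    fun a b => by
      have e1 : jj i 0 (a + b) 0 = jj i 0 a 0 * jj i 0 b 0 := by simp [jj_mul]
      rw [e1, hσ.homOn (jj_mem ..) (jj_mem ..), f3 a, f3 b, jj_mul, bb_add]
      simp only [jj_w]; ring
  refine ⟨γ, δ, _, hσ, fun x y w => ?_⟩
  have e1 : jj i x (y + γ x) (w + δ x) = jj i x (γ x) (w + δ x) * jj i 0 y 0 := by
    simp [jj_mul, add_comm]
  rw [e1, hσ.homOn (jj_mem ..) (jj_mem ..), f2, f3, jj_mul, map_add, map_add, jj_inj]
  refine ⟨rfl, by ring, ?_⟩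
  change _ = _ + (_ + (_ + bb i 1 y))
  linear_combination (-bb i 1 y) * two0 (K := K)

/-- Standard systems. -/
structure Std (F : FusionSystem (⊤ : Subgroup (U4 K))) : Prop where
  sat : F.IsSaturated 2
  sw : ∀ i, F.Iso (sQ K i) (sQ K i) (sw i)
  inv : ∀ i τ, F.Iso (sQ K i) (sQ K i) τ → ∀ c ∈ sC K, τ c ∈ sC K

/-- The diagonal automorphisms. -/
def dl (a b : K) (x : U4 K) : U4 K := ⟨a * x.t, b * x.u, a * b * x.v, a ^ 2 * b * x.w⟩

namespace Std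

variable (h : Std F)
include h

theorem lines (hτ : F.Iso (sQ K i) (sQ K i) τ) {z : U4 K} (hz : z ∈ sZ K) (hz' : τ z ∉ sZ K) :
    ∃ a, ∀ g, oc i g = a → ∀ z ∈ sZ K, Sp.sw i (g * τ z * g⁻¹) ∈ sZ K := by
  obtain ⟨Γ, _, _, _, P, ρ, r1, r2, r3, hQ, r6⟩ := setupQ h.sat (h.inv i)
  obtain ⟨y₀, w₀, rfl⟩ := exists_sZ i hz
  obtain ⟨x, y, w, e⟩ := exists_jj (hτ.mem (jj_mem 0 y₀ w₀))
  have hx : x ≠ 0 := fun e' => hz' (by rw [e]; exact jj_mem_sZ.2 e')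
  refine ⟨y / x, fun g hg z hz => ?_⟩
  have hσ := (hτ.trans (iso_cj_sQ i g)).trans (h.sw i)
  obtain ⟨a, ha⟩ := r2 _ hσ
  obtain ⟨y₁, w₁, rfl⟩ := exists_sZ i hz
  have := hQ.disj a (y := y₀) (by
    rintro rfl; exact hz' (sC_le_sZ (h.inv i τ hτ _ (jj_mem_sC.2 ⟨rfl, rfl⟩)))) (by
    rw [r6 a 0 y₀ w₀, ha _ (jj_mem ..), Perm.mul_apply, Perm.mul_apply, e, cj_apply, conj_jj, hg,
      sw_jj, cc_jj, div_mul_cancel₀ _ hx, CharTwo.add_self_eq_zero]) y₁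
  rw [r6 a 0 y₁ w₁, ha _ (jj_mem ..)] at this
  exact (cc_eq_zero (hσ.mem (jj_mem ..))).1 this

theorem tor {t : K} (ht : t ≠ 0) : ∃ τ, F.Iso (sQ K true) (sQ K true) τ ∧ ∀ x y w,
    τ (jj true x y w) = jj true (t * x) (y / t) (w + (t⁻¹ ^ 2 + t) * y + (t ^ 2 + t⁻¹) * x) := by
  have s := h.sw true
  have c1 := iso_cj_sQ (F := F) true ⟨t⁻¹, 0, 0, 0⟩
  refine ⟨_, ((((((s.trans c1).trans s).trans (iso_cj_sQ true ⟨t, 0, 0, 0⟩)).trans s).trans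
    c1).trans s).trans s, fun x y w => ?_⟩
  simp only [Perm.mul_apply, cj_apply, sw_jj, conj_jj, oc, bb, jj_inj]
  refine ⟨?_, ?_, ?_⟩ <;> field_simp
  · linear_combination y * two0 (K := K)
  · linear_combination (x * t + y) * two0 (K := K)
  · linear_combination y * two0 (K := K)

theorem cube {t : K} (ht : t ≠ 0) : t ^ 3 = 1 := by
  obtain ⟨τ, h1, h2⟩ := h.tor ht
  obtain ⟨g, e⟩ := conj_rel h.sat h1 (fun z hz => by
    obtain ⟨y, w, rfl⟩ := exists_sZ true hz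
    rw [h2, jj_mem_sZ, mul_zero]) 1
  have := e 1 0 0
  simp only [h2, conj_jj, jj_inj, bb] at this
  obtain ⟨-, a1, a2⟩ := this
  generalize oc true g = b at a1 a2
  field_simp at a1 a2
  by_cases h1 : t = 1
  · simp [h1]
  refine mul_left_cancel₀ (sub_ne_zero.2 h1) ?_
  linear_combination t * a2 - (1 + b * t ^ 2) * a1 + (1 - t ^ 3 - t) * two0 (K := K)

theorem pow4 (x : K) : x ^ 4 = x := by
  by_cases hx : x = 0
  · simp [hx]
  · linear_combination x * h.cube hx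

omit h in
theorem coord (hF : F.IsSaturated 2) (hα : F.Iso ⊤ ⊤ α) (i : Bool) (x : U4 K) :
    cc i (α x) = cc i (α (jj i (cc i x) 0 0)) := by
  have m : (jj i (cc i x) 0 0)⁻¹ * x ∈ sQ K (!i) := by cases i <;> simp [mem_sQ, oc, cc, jj]
  have := aut_sQ hF hα m
  rw [hα.homOn trivial trivial, hα.homOn.map_inv trivial] at this
  cases i <;> simp only [mem_sQ, oc, cc, Bool.not_true, Bool.not_false, mul_t, mul_u, inv_t,
    inv_u] at this ⊢ <;> linear_combination this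

theorem iso_sQ (hα : F.Iso ⊤ ⊤ α) (i : Bool) : F.Iso (sQ K i) (sQ K i) α :=
  (hα.isMap.mono le_top).iso_self fun _ hx => aut_sQ h.sat hα hx

theorem comm_v (hα : F.Iso ⊤ ⊤ α) (t u : K) : (α ⟨0, 0, t * u, 0⟩).v =
    (α ⟨t, 0, 0, 0⟩).t * (α ⟨0, u, 0, 0⟩).u ∧ (α ⟨0, 0, t * u, 0⟩).w + (α ⟨0, 0, 0, t ^ 2 * u⟩).w =
    (α ⟨t, 0, 0, 0⟩).t ^ 2 * (α ⟨0, u, 0, 0⟩).u := by
  have e : (⟨t, 0, 0, 0⟩ * ⟨0, u, 0, 0⟩ : U4 K) =
      ⟨0, u, 0, 0⟩ * ⟨t, 0, 0, 0⟩ * (⟨0, 0, t * u, 0⟩ * ⟨0, 0, 0, t ^ 2 * u⟩) := by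
    ext <;> simp [two0]
  have hm := fun x y => hα.homOn (x := x) trivial (y := y) trivial
  have e1 := congrArg α e
  simp only [hm] at e1
  have a1 : (α ⟨t, 0, 0, 0⟩).u = 0 := aut_sQ (i := false) h.sat hα rfl
  have a2 : (α ⟨0, u, 0, 0⟩).t = 0 := aut_sQ (i := true) h.sat hα rfl
  have a3 := aut_sZ2 hα.homOn (x := ⟨0, 0, t * u, 0⟩) ⟨rfl, rfl⟩
  have a4 := h.inv true α (h.iso_sQ hα true) ⟨0, 0, 0, t ^ 2 * u⟩ ⟨rfl, rfl, rfl⟩
  have e2 := congrArg U4.v e1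
  have e3 := congrArg U4.w e1
  simp only [mul_t, mul_u, mul_v, mul_w, a1, a2, a3.1, a3.2, a4.2.1, a4.2.2, two0] at e2 e3
  exact ⟨by linear_combination -e2, by linear_combination -e3⟩

theorem semi (hα : F.Iso ⊤ ⊤ α) : ∃ (a b : K) (s : K → K), a ≠ 0 ∧ b ≠ 0 ∧
    (∀ x y, s (x * y) = s x * s y) ∧ (∀ x, s (s x) = x) ∧
    ∀ x, (α x).t = a * s x.t ∧ (α x).u = b * s x.u := by
  have hm := fun x y => hα.homOn (x := x) trivial (y := y) trivial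
  have n0 : ∀ i, cc i (α (jj i 1 0 0)) ≠ 0 := fun i e => by
    have := aut_sZ2 hα.symm.homOn ((cc_eq_zero (aut_sQ h.sat hα (jj_mem ..))).1 e)
    simp [jj_mem_sZ] at this
  have ha : (α ⟨1, 0, 0, 0⟩).t ≠ 0 := n0 false
  have hb : (α ⟨0, 1, 0, 0⟩).u ≠ 0 := n0 true
  have c := fun t u => (h.comm_v hα t u).1
  set a := (α ⟨1, 0, 0, 0⟩).t
  set b := (α ⟨0, 1, 0, 0⟩).u
  let s : K → K := fun y => (α ⟨0, 0, y, 0⟩).v / (a * b)
  have s1 : ∀ t, (α ⟨t, 0, 0, 0⟩).t = a * s t := fun t => by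
    have := c t 1
    rw [mul_one] at this
    simp only [s, this]; field_simp; rfl
  have s2 : ∀ u, (α ⟨0, u, 0, 0⟩).u = b * s u := fun u => by
    have := c 1 u
    rw [one_mul] at this
    simp only [s, this]; field_simp; rfl
  have s3 : ∀ x y, s (x * y) = s x * s y := fun x y => by
    have := c x y
    rw [s1, s2] at this
    rw [show s (x * y) = _ / (a * b) from rfl, this]; field_simp
  have s4 : ∀ x y, s (x + y) = s x + s y := fun x y => by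
    have e : (⟨x + y, 0, 0, 0⟩ : U4 K) = ⟨x, 0, 0, 0⟩ * ⟨y, 0, 0, 0⟩ := by ext <;> simp
    refine mul_left_cancel₀ ha ?_
    rw [mul_add, ← s1, ← s1, ← s1, e, hm, mul_t]
  have s5 : s 1 = 1 := mul_left_cancel₀ ha (by rw [← s1, mul_one])
  have s6 : s 0 = 0 := by simpa using s4 0 0
  refine ⟨a, b, s, ha, hb, s3, fun x => ?_, fun x => ⟨(coord h.sat hα false x).trans (s1 _),
    (coord h.sat hα true x).trans (s2 _)⟩⟩
  have e : x * (x + 1) * (x * x + x + 1) = 0 := by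
    linear_combination h.pow4 x + (x ^ 3 + x ^ 2 + x) * two0 (K := K)
  rcases mul_eq_zero.1 e with e | e
  · rcases mul_eq_zero.1 e with e | e
    · rw [e, s6, s6]
    · rw [CharTwo.add_eq_zero.1 e, s5, s5]
  · have e1 := congrArg s e
    rw [s4, s4, s3, s5, s6] at e1
    have e2 : (s x + x) * (s x + x * x) = 0 := by
      linear_combination e1 + (s x + x + 1) * e - (s x + x ^ 2 + x + 1) * two0 (K := K)
    rcases mul_eq_zero.1 e2 with e2 | e2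
    · rw [CharTwo.add_eq_zero.1 e2, CharTwo.add_eq_zero.1 e2]
    · rw [CharTwo.add_eq_zero.1 e2, s3, CharTwo.add_eq_zero.1 e2]
      linear_combination h.pow4 x

theorem lin (hα : F.Iso ⊤ ⊤ α) : ∃ a b : K, a ≠ 0 ∧ b ≠ 0 ∧
    ∀ x, (α x).t = a * x.t ∧ (α x).u = b * x.u := by
  obtain ⟨β, hβ, g, -, e⟩ := exists_sq h.sat (topP 2) hα
  obtain ⟨a, b, s, ha, hb, s1, s2, s3⟩ := h.semi hβ
  have s0 : ∀ a, a ≠ 0 → s a ≠ 0 := fun a ha e => by
    have e1 := s1 a 0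
    rw [e, mul_zero, zero_mul] at e1
    exact ha (by rw [← s2 a, e, e1])
  refine ⟨a * s a, b * s b, mul_ne_zero ha (s0 a ha), mul_ne_zero hb (s0 b hb), fun x => ?_⟩
  rw [e x trivial, conj_eq]
  simp only [s3, s1, s2, mul_assoc, and_self]

theorem dec' (hα : F.Iso ⊤ ⊤ α) (hz : ∀ i, ∀ z ∈ sZ K, Sp.sw i (α (Sp.sw i z)) ∈ sZ K) :
    ∃ a b : K, a ≠ 0 ∧ b ≠ 0 ∧ ∀ x, α x = dl a b x := by
  obtain ⟨a, b, ha, hb, l⟩ := h.lin hα
  have hm := fun x y => hα.homOn (x := x) trivial (y := y) trivial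
  have c1 : ∀ w, α ⟨0, 0, 0, w⟩ ∈ sC K := fun w =>
    h.inv true α (h.iso_sQ hα true) _ ⟨rfl, rfl, rfl⟩
  have c2 : ∀ y, (α ⟨0, 0, y, 0⟩).v = a * b * y := fun y => by
    have := (h.comm_v hα y 1).1
    rw [mul_one, (l _).1, (l _).2] at this
    rw [this]; ring
  have c3 : ∀ t u, (α ⟨0, 0, t * u, 0⟩).w + (α ⟨0, 0, 0, t ^ 2 * u⟩).w = a ^ 2 * b * (t ^ 2 * u) :=
    fun t u => by rw [(h.comm_v hα t u).2, (l _).1, (l _).2]; ring
  have c4 : ∀ w, (α ⟨0, 0, 0, w⟩).w = a ^ 2 * b * w := by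
    by_cases hq : ∀ t : K, t ^ 2 = t
    · have k : ∀ t : K, t ≠ 0 → t = 1 := fun t ht => mul_left_cancel₀ ht (by
        linear_combination hq t)
      intro w
      by_cases hw : w = 0
      · rw [hw, show (⟨0, 0, 0, 0⟩ : U4 K) = 1 from rfl, hα.homOn.map_one]; simp
      · rw [k a ha, k b hb, k w hw, k (α _).w fun e => ?_]
        · simp
        · have := (hα.isMap.apply_eq_one trivial).1
            (U4.ext (c1 1).1 (c1 1).2.1 (c1 1).2.2 e : α ⟨0, 0, 0, 1⟩ = 1)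
          exact one_ne_zero (congrArg U4.w this)
    · push Not at hq
      obtain ⟨t, ht⟩ := hq
      have ht' : t ^ 2 + t ≠ 0 := mt CharTwo.add_eq_zero.1 ht
      intro w
      obtain ⟨u, rfl⟩ : ∃ u, w = (t ^ 2 + t) * u := ⟨_, (mul_div_cancel₀ w ht').symm⟩
      have e : (⟨0, 0, 0, (t ^ 2 + t) * u⟩ : U4 K) = ⟨0, 0, 0, t ^ 2 * u⟩ * ⟨0, 0, 0, t * u⟩ := by
        ext <;> simp [add_mul]
      have e1 := c3 t u
      have e2 := c3 1 (t * u)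
      simp only [one_mul, one_pow] at e2
      rw [e, hm, mul_w, (c1 _).1]
      linear_combination e1 + e2 - (α ⟨0, 0, t * u, 0⟩).w * two0 (K := K)
  have c5 : ∀ w, α ⟨0, 0, 0, w⟩ = ⟨0, 0, 0, a ^ 2 * b * w⟩ := fun w =>
    U4.ext (c1 w).1 (c1 w).2.1 (c1 w).2.2 (c4 w)
  have c6 : ∀ y, α ⟨0, 0, y, 0⟩ = ⟨0, 0, a * b * y, 0⟩ := fun y =>
    U4.ext (by simp [l]) (by simp [l]) (c2 y) (by simpa [c4] using c3 1 y)
  have c7 : ∀ i r, α (jj i r 0 0) = dl a b (jj i r 0 0) := fun i r => by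
    obtain ⟨g, e⟩ := conj_rel h.sat (((h.sw i).trans (h.iso_sQ hα i)).trans (h.sw i)) (hz i) r
    have e0 := hz i (jj i 0 r 0) (jj_mem_sZ.2 rfl)
    have e1 := e 1 0 0
    obtain ⟨x, y, w, e2⟩ := exists_jj (aut_sQ h.sat hα (jj_mem (i := i) r 0 0))
    have e3 : jj i r 1 (bb i r 1) = jj i r 0 0 * (⟨0, 0, 1, 0⟩ * ⟨0, 0, 0, bb i r 1⟩) := by
      cases i <;> ext <;> simp [jj, two0]
    have e4 : jj i (0 : K) 1 0 = ⟨0, 0, 1, 0⟩ := by cases i <;> rfl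
    have e5 : ∀ y w : K, (⟨0, 0, y, w⟩ : U4 K) = jj i 0 y w := fun y w => by cases i <;> rfl
    simp only [Perm.mul_apply, sw_jj, zero_add, mul_one, e3, e4, hm, c5, c6, e2] at e1
    simp only [e5, jj_mul, sw_jj, conj_jj, jj_inj, zero_add, add_zero] at e1
    rw [sw_jj, e2, sw_jj, jj_mem_sZ] at e0
    have l1 := l (jj i r 0 0)
    have a3 := h.cube ha
    rw [e2] at l1 ⊢
    obtain ⟨-, e6, e7⟩ := e1
    generalize oc i g = s at e6 e7
    cases i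
    · simp only [jj, bb, dl, e0] at l1 e7 ⊢
      ext <;> simp only [l1.1, mul_zero]
      rw [l1.1] at e6
      linear_combination e7 - a * b * e6
    · simp only [jj, bb, dl, e0] at l1 e7 ⊢
      ext <;> simp only [l1.2, mul_zero]
      rw [l1.2] at e6
      have e8 : r = s * a := mul_left_cancel₀ hb (by linear_combination e6)
      rw [e8] at e7
      linear_combination e7 - s ^ 2 * a * b * a3
  refine ⟨a, b, ha, hb, fun x => ?_⟩
  have e : x = jj true x.u 0 0 * jj false x.t 0 0 * (⟨0, 0, x.v, 0⟩ * ⟨0, 0, 0, x.w⟩) := by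
    ext <;> simp [jj, two0]
  conv_lhs => rw [e]
  simp only [hm, c5, c6, c7]
  ext <;> simp [jj, dl, two0]

theorem dec (hα : F.Iso ⊤ ⊤ α) : ∃ (g : U4 K) (a b : K), a ≠ 0 ∧ b ≠ 0 ∧
    ∀ x, g * α x * g⁻¹ = dl a b x := by
  have key := fun i => h.lines ((h.sw i).trans (h.iso_sQ hα i)) (z := jj i 0 1 0)
    (jj_mem_sZ.2 rfl) fun e => by simpa [jj_mem_sZ] using aut_sZ2 hα.symm.homOn e
  choose a ha using key
  exact ⟨⟨a true, a false, 0, 0⟩, h.dec' (hα.trans (F.iso_cj le_rfl trivial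
    (Subgroup.le_normalizer trivial))) fun i => ha i _ (by cases i <;> rfl)⟩

theorem diag {t : K} (ht : t ≠ 0) : F.IsMap ⊤ (dl t t) := by
  obtain ⟨τ, h1, h2⟩ := h.tor ht
  obtain ⟨α, a1, a2⟩ := ext_sQ h.sat h1 fun z hz => by
    obtain ⟨y, w, rfl⟩ := exists_sZ true hz
    rw [h2, jj_mem_sZ, mul_zero]
  obtain ⟨g, a, b, ha, hb, e⟩ := h.dec a1
  have e1 := congrArg U4.u (e (jj true 1 0 0))
  have e2 := congrArg U4.v (e (jj true 0 1 0))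
  rw [a2 _ (jj_mem ..), h2, conj_jj] at e1 e2
  simp only [jj, dl, mul_one, mul_zero, add_zero] at e1 e2
  subst e1
  obtain rfl : a = t := by
    field_simp at e2
    linear_combination -t * e2 - a * h.cube ht
  exact (a1.isMap.comp (F.isMap_cj le_rfl (Subgroup.mem_top g)) fun _ _ => trivial).congr
    fun x _ => (e x).symm

theorem all {a b : K} (ha : a ≠ 0) (hb : b ≠ 0) (hab : a ≠ b) (hm : F.IsMap ⊤ (dl a b))
    {c d : K} (hc : c ≠ 0) (hd : d ≠ 0) : F.IsMap ⊤ (dl c d) := by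
  have key : ∀ a b c d : K, F.IsMap ⊤ (dl a b) → F.IsMap ⊤ (dl c d) →
      F.IsMap ⊤ (dl (c * a) (d * b)) := fun a b c d h1 h2 =>
    (h1.comp h2 fun _ _ => trivial).congr fun x _ => by ext <;> simp only [dl, Function.comp] <;> ring
  have k1 := key _ _ _ _ hm (h.diag (div_ne_zero hc ha))
  have k2 := key _ _ _ _ k1 (key _ _ _ _ hm (h.diag (inv_ne_zero ha)))
  rw [div_mul_cancel₀ _ ha] at k1
  rw [div_mul_cancel₀ _ ha, inv_mul_cancel₀ ha, one_mul] at k2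
  have e0 : a ^ 2 + a * b + b ^ 2 = 0 := mul_left_cancel₀ (sub_ne_zero.2 hab) (by
    linear_combination h.cube ha - h.cube hb)
  have e : (d - c) * ((d - c / a * b) * (d - a⁻¹ * b * (c / a * b))) = 0 := by
    field_simp
    linear_combination a ^ 3 * h.cube hd - b ^ 3 * h.cube hc + h.cube ha - h.cube hb +
      (d * c ^ 2 * b - d ^ 2 * c * a) * e0
  rcases mul_eq_zero.1 e with e | e
  · rw [sub_eq_zero.1 e]; exact h.diag hc
  · rcases mul_eq_zero.1 e with e | e <;> rwa [sub_eq_zero.1 e]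

theorem le {G : FusionSystem (⊤ : Subgroup (U4 K))} (hG : Std G)
    (hd : ∀ a b : K, a ≠ 0 → b ≠ 0 → F.IsMap ⊤ (dl a b) → G.IsMap ⊤ (dl a b)) : F ≤ G := by
  have k1 : ∀ α, F.Iso ⊤ ⊤ α → G.IsMap ⊤ α := fun α hα => by
    obtain ⟨g, a, b, ha, hb, e⟩ := h.dec hα
    refine ((hd a b ha hb ((hα.isMap.comp (F.isMap_cj le_rfl (Subgroup.mem_top g))
      fun _ _ => trivial).congr fun x _ => (e x).symm)).comp
      (G.isMap_cj le_rfl (Subgroup.mem_top g⁻¹)) fun _ _ => trivial).congr fun x _ => ?_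
    rw [Function.comp, ← e, cj_apply]; group
  have k2 : ∀ i τ, F.Iso (sQ K i) (sQ K i) τ → (∀ z ∈ sZ K, τ z ∈ sZ K) →
      G.Iso (sQ K i) (sQ K i) τ := fun i τ hτ hz => by
    obtain ⟨α, a1, a2⟩ := ext_sQ h.sat hτ hz
    exact (((k1 α a1).mono le_top).congr fun x hx => (a2 x hx).symm).iso_self fun _ => hτ.mem
  refine h.sat.le_of_essential (topP 2) fun P σ hP hσ => ?_
  rcases hP with rfl | hP
  · exact k1 σ hσ
  obtain ⟨i, rfl, -⟩ := two_ess h.sat hP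
  by_cases hz : ∀ z ∈ sZ K, σ z ∈ sZ K
  · exact (k2 i σ hσ hz).isMap
  push Not at hz
  obtain ⟨z, hz, hz'⟩ := hz
  obtain ⟨a, ha⟩ := h.lines hσ hz hz'
  obtain ⟨g, hg⟩ := exists_oc i a
  refine (((k2 i _ ((hσ.trans (iso_cj_sQ i g)).trans (h.sw i)) (ha g hg)).trans (hG.sw i)).trans
    (iso_cj_sQ i g⁻¹)).isMap.congr fun x _ => ?_
  simp only [Perm.mul_apply, cj_apply, sw_sw]; group

end Std

end Cfsg.Agent.H4.Sp
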