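import Cfsg.Agent.H4.Sp4Odd

/-! Fusion systems over a Sylow subgroup of `Sp₄(q)`, `q` even: local structure. -/

set_option autoImplicit false
set_option linter.unusedSectionVars false
set_option linter.style.haveILetI false

open Equiv
open scoped commutatorElement

namespace Cfsg.Agent.H4.Sp

open Cfsg.Fus Cfsg.FusionSystem U4

variable {K : Type*} [Field K]

/-- Coordinates on the two radicals. -/
def jj : Bool → K → K → K → U4 K
  | true, x, y, w => ⟨0, x, y, w⟩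
  | false, x, y, w => ⟨x, 0, y, w⟩

/-- The first coordinate on a radical. -/
def cc : Bool → U4 K → K
  | true, z => z.u
  | false, z => z.t

/-- The coordinate that vanishes on a radical. -/
def oc : Bool → U4 K → K
  | true, z => z.t
  | false, z => z.u

/-- The commutator pairing. -/
def bb : Bool → K → K → K
  | true, a, x => a ^ 2 * x
  | false, a, x => a * x ^ 2

/-- The two radicals. -/
def sQ (K : Type*) [Field K] (i : Bool) : Subgroup (U4 K) where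
  carrier := {x | oc i x = 0}
  one_mem' := by cases i <;> rfl
  mul_mem' := fun {a b} ha hb => by cases i <;> simp_all [oc]
  inv_mem' := fun {a} ha => by cases i <;> simp_all [oc]

/-- The swap of the first two coordinates of a radical. -/
def sw (i : Bool) : Perm (U4 K) := Function.Involutive.toPerm
  (fun z => match i with
    | true => ⟨z.t, z.v, z.u, z.w⟩
    | false => ⟨z.v, z.u, z.t, z.w⟩) (fun _ => by cases i <;> rfl)

variable {i : Bool}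

theorem mem_sQ {x : U4 K} : x ∈ sQ K i ↔ oc i x = 0 := Iff.rfl
theorem jj_mem (x y w : K) : jj i x y w ∈ sQ K i := by cases i <;> rfl
theorem eq_jj {z : U4 K} (h : z ∈ sQ K i) : jj i (cc i z) z.v z.w = z := by
  cases i
  exacts [U4.ext rfl h.symm rfl rfl, U4.ext h.symm rfl rfl rfl]
theorem exists_jj {z : U4 K} (h : z ∈ sQ K i) : ∃ x y w, z = jj i x y w := ⟨_, _, _, (eq_jj h).symm⟩
@[simp] theorem cc_jj (x y w : K) : cc i (jj i x y w) = x := by cases i <;> rfl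
@[simp] theorem jj_v (x y w : K) : (jj i x y w).v = y := by cases i <;> rfl
@[simp] theorem jj_w (x y w : K) : (jj i x y w).w = w := by cases i <;> rfl
@[simp] theorem sw_jj (x y w : K) : sw i (jj i x y w) = jj i y x w := by cases i <;> rfl
@[simp] theorem sw_sw (x : U4 K) : sw i (sw i x) = x := by cases i <;> rfl
@[simp] theorem cc_mul (x y : U4 K) : cc i (x * y) = cc i x + cc i y := by cases i <;> rfl
theorem jj_inj {x y w x' y' w' : K} : jj i x y w = jj i x' y' w' ↔ x = x' ∧ y = y' ∧ w = w' := by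
  cases i <;> simp [jj]
theorem jj_mem_sZ {x y w : K} : jj i x y w ∈ sZ K ↔ x = 0 := by cases i <;> simp [jj, mem_sZ]
theorem jj_mem_sC {x y w : K} : jj i x y w ∈ sC K ↔ x = 0 ∧ y = 0 := by
  cases i <;> simp [jj, mem_sC]
theorem sZ_le_sQ (i : Bool) : sZ K ≤ sQ K i := fun _ h => by cases i; exacts [h.2, h.1]
theorem cc_eq_zero {z : U4 K} (h : z ∈ sQ K i) : cc i z = 0 ↔ z ∈ sZ K := by
  rw [← jj_mem_sZ (i := i) (y := z.v) (w := z.w), eq_jj h]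
theorem exists_sZ (i : Bool) {z : U4 K} (h : z ∈ sZ K) : ∃ y w, z = jj i 0 y w :=
  ⟨_, _, by rw [← (cc_eq_zero (sZ_le_sQ i h)).2 h, eq_jj (sZ_le_sQ i h)]⟩
theorem exists_oc (i : Bool) (a : K) : ∃ g : U4 K, oc i g = a := by
  cases i; exacts [⟨⟨0, a, 0, 0⟩, rfl⟩, ⟨⟨a, 0, 0, 0⟩, rfl⟩]
@[simp] theorem bb_zero (a : K) : bb i a 0 = 0 := by cases i <;> simp [bb]
@[simp] theorem zero_bb (a : K) : bb i 0 a = 0 := by cases i <;> simp [bb]
theorem bb_cover (i : Bool) {y w : K} (hy : y ≠ 0) (hw : w ≠ 0) :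
    ∃ a x, a * x = y ∧ bb i a x = w := by
  cases i
  · exact ⟨y ^ 2 / w, w / y, by field_simp, by simp only [bb]; field_simp⟩
  · exact ⟨w / y, y ^ 2 / w, by field_simp, by simp only [bb]; field_simp⟩
theorem jj_one : jj i (0 : K) 0 0 = 1 := by cases i <;> rfl

/-- A chain of two subgroups. -/
def ch2 (A B : Subgroup (U4 K)) : ℕ → Subgroup (U4 K)
  | 0 => ⊥
  | 1 => A
  | _ + 2 => B

section Two

variable [CharP K 2]

theorem two0 : (2 : K) = 0 := CharTwo.two_eq_zero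

theorem jj_mul (x y w x' y' w' : K) :
    jj i x y w * jj i x' y' w' = jj i (x + x') (y + y') (w + w') := by
  cases i <;> ext <;> simp [jj, two0]

theorem conj_jj (g : U4 K) (x y w : K) :
    g * jj i x y w * g⁻¹ = jj i x (y + oc i g * x) (w + bb i (oc i g) x) := by
  rw [conj_eq]
  cases i <;> ext <;> simp [jj, two0, oc, bb, CharTwo.sub_eq_add, mul_comm]

theorem bb_add (a x y : K) : bb i a (x + y) = bb i a x + bb i a y := by
  cases i <;> simp [bb, mul_add, CharTwo.add_sq]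

theorem add_bb (a b x : K) : bb i (a + b) x = bb i a x + bb i b x := by
  cases i <;> simp [bb, add_mul, CharTwo.add_sq]

theorem comm_sQ {x y : U4 K} (hx : x ∈ sQ K i) (hy : y ∈ sQ K i) : x * y = y * x := by
  obtain ⟨a, b, c, rfl⟩ := exists_jj hx
  obtain ⟨a', b', c', rfl⟩ := exists_jj hy
  simp only [jj_mul, add_comm]

theorem cj_sZ (g : U4 K) {x : U4 K} (hx : x ∈ sZ K) : g * x * g⁻¹ = x := by
  rw [conj_eq]; ext <;> simp [hx.1, hx.2, two0]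

theorem comm_sZ (g : U4 K) {x : U4 K} (hx : x ∈ sZ K) : g * x = x * g := by
  rw [← mul_inv_eq_iff_eq_mul, cj_sZ g hx]

theorem mem_sZ_of_comm {x : U4 K} (h : ∀ y, x * y = y * x) : x ∈ sZ K :=
  ⟨by simpa using (comm_iff.1 (h ⟨0, 1, 0, 0⟩)).1,
    by simpa using (comm_iff.1 (h ⟨1, 0, 0, 0⟩)).1.symm⟩

theorem aut_sZ2 {σ : Perm (U4 K)} (hσ : HomOn σ ⊤) {x : U4 K} (hx : x ∈ sZ K) : σ x ∈ sZ K :=
  mem_sZ_of_comm fun y => by
    obtain ⟨y, rfl⟩ := σ.surjective y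
    rw [← hσ trivial trivial, ← hσ trivial trivial, comm_sZ y hx]

theorem sq_sQ {x : U4 K} (hx : x ∈ sQ K i) : x * x = 1 := by
  obtain ⟨a, b, c, rfl⟩ := exists_jj hx
  simp only [jj_mul, CharTwo.add_self_eq_zero, jj_one]

theorem exists_sQ {x : U4 K} (hx : x * x = 1) : ∃ i, x ∈ sQ K i := by
  have := congrArg U4.v hx
  simp only [mul_v, CharTwo.add_self_eq_zero, zero_add, one_v, mul_eq_zero] at this
  exact this.elim (fun h => ⟨true, h⟩) fun h => ⟨false, h⟩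

theorem mem_sQ_of_comm {x y : U4 K} (hx : x ∈ sQ K i) (hx' : x ∉ sZ K) (h : x * y = y * x) :
    y ∈ sQ K i := by
  have h0 := mt (cc_eq_zero hx).1 hx'
  have h1 := (comm_iff.1 h).1
  cases i
  · simpa [mem_sQ, oc, show x.u = 0 from hx, show x.t ≠ 0 from h0] using h1
  · simpa [mem_sQ, oc, show x.t = 0 from hx, show x.u ≠ 0 from h0] using h1.symm

theorem two_comm {x : U4 K} (hx : x ∉ sZ K) {a b : U4 K} (ha : x * a = a * x)
    (hb : x * b = b * x) : a * b = b * a := by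
  by_cases h : ∃ i, x ∈ sQ K i
  · obtain ⟨i, h⟩ := h
    exact comm_sQ (mem_sQ_of_comm h hx ha) (mem_sQ_of_comm h hx hb)
  · have ht : x.t ≠ 0 := fun e => h ⟨true, e⟩
    have hu : x.u ≠ 0 := fun e => h ⟨false, e⟩
    simp only [comm_iff, two0, zero_mul, zero_add] at ha hb ⊢
    have e : a.t * b.u = b.t * a.u :=
      mul_left_cancel₀ ht (by linear_combination a.t * hb.1 - b.t * ha.1)
    refine ⟨e, mul_left_cancel₀ ht ?_⟩
    linear_combination a.t * hb.2 - b.t * ha.2 + a.t ^ 2 * hb.1 - b.t ^ 2 * ha.1 - x.t ^ 2 * e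

theorem aut_sQ_or {σ : Perm (U4 K)} (hσ : HomOn σ ⊤) (i : Bool) :
    ∃ j, ∀ x ∈ sQ K i, σ x ∈ sQ K j := by
  have h1 : HomOn (⇑σ⁻¹) ⊤ := fun a _ b _ => σ.injective (by rw [hσ trivial trivial]; simp)
  obtain ⟨j, hj⟩ := exists_sQ (x := σ (jj i 1 0 0)) (by
    rw [← hσ trivial trivial, sq_sQ (jj_mem ..), hσ.map_one])
  refine ⟨j, fun x hx => mem_sQ_of_comm hj (fun h => ?_) ?_⟩
  · simpa [jj_mem_sZ] using aut_sZ2 h1 h
  · rw [← hσ trivial trivial, ← hσ trivial trivial, comm_sQ (jj_mem ..) hx]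

variable [Finite K] {F : FusionSystem (⊤ : Subgroup (U4 K))} (hF : F.IsSaturated 2)
include hF

theorem two_ess {E : Subgroup (U4 K)} (hE : F.IsEssential 2 E) :
    ∃ i, E = sQ K i ∧ ∃ τ, F.Iso E E τ ∧ ∃ z ∈ sZ K, τ z ∉ sZ K := by
  have hZ : sZ K = centralizerIn ⊤ ⊤ := le_antisymm (fun x hx => ⟨trivial, fun y _ => comm_sZ y hx⟩)
    fun x hx => mem_sZ_of_comm fun y => (hx.2 y trivial).symm
  obtain ⟨τ, hτ, x, hx, hx'⟩ := hE.exists_not_central hF (topP 2) (by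
    rw [← hZ, Subgroup.commutator_le]
    intro a _ b _
    simpa [commutatorElement_def, mul_assoc] using cm_sZ b a⁻¹)
  rw [← hZ] at hx hx'
  have hZE : sZ K ≤ E := fun z hz => cent_of_comm hE.isCentric fun y _ => comm_sZ y hz
  have c1 : ∀ y ∈ E, τ x * y = y * τ x := fun y hy => by
    obtain ⟨y, hy', rfl⟩ := hτ.exists_eq hy
    rw [← hτ.homOn (hZE hx) hy', ← hτ.homOn hy' (hZE hx), comm_sZ y hx]
  obtain ⟨i, hi⟩ := exists_sQ (x := τ x) (by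
    rw [← hτ.homOn (hZE hx) (hZE hx), sq_sQ (sZ_le_sQ true hx), hτ.homOn.map_one])
  have a1 : E ≤ sQ K i := fun y hy => mem_sQ_of_comm hi hx' (c1 y hy)
  exact ⟨i, le_antisymm a1 fun y hy => cent_of_comm hE.isCentric fun z hz => comm_sQ (a1 hz) hy,
    τ, hτ, x, hx, hx'⟩

theorem aut_sQ {α : Perm (U4 K)} (hα : F.Iso ⊤ ⊤ α) {x : U4 K} (hx : x ∈ sQ K i) :
    α x ∈ sQ K i := by
  obtain ⟨β, hβ, g, -, e⟩ := exists_sq hF (topP 2) hα
  rw [e x trivial]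
  refine conj_mem_of_mem_normalizer (norm_of_le (sZ_le_sQ i) g) ?_
  obtain ⟨j, hj⟩ := aut_sQ_or hβ.homOn i
  obtain ⟨k, hk⟩ := aut_sQ_or hβ.homOn j
  by_cases h : j = i
  · subst h; exact hj _ (hj _ hx)
  by_cases h' : k = i
  · subst h'; exact hk _ (hj _ hx)
  obtain rfl : k = j := by cases i <;> cases j <;> cases k <;> simp_all
  have a1 : (jj i 1 0 0 : U4 K) ∈ sQ K k :=
    (mem_setStab_of_finite hk _).1 (hj _ (jj_mem ..))
  cases i <;> cases k <;> simp_all [mem_sQ, jj, oc]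

omit hF in
theorem fn_sQ (i : Bool) : F.IsFullyNormalized (sQ K i) :=
  F.isFullyNormalized_of_le_normalizer le_top fun g _ => norm_of_le (sZ_le_sQ i) g

omit hF in
theorem iso_cj_sQ (i : Bool) (g : U4 K) : F.Iso (sQ K i) (sQ K i) (cj g) :=
  F.iso_cj le_top trivial (norm_of_le (sZ_le_sQ i) g)

variable {τ : Perm (U4 K)}

theorem conj_inn (hτ : F.Iso (sQ K i) (sQ K i) τ) (hz : ∀ z ∈ sZ K, τ z ∈ sZ K) (g : U4 K) :
    τ * cj g * τ⁻¹ ∈ innS ⊤ (sQ K i) := by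
  have k2 := sZ_le_sQ (K := K) i
  have s2 := mem_setStab_of_finite hz
  have key : ∀ x ∈ sQ K i, x⁻¹ * (τ * cj g * τ⁻¹) x =
      τ ((τ⁻¹ x)⁻¹ * (g * τ⁻¹ x * g⁻¹)) := fun x hx => by
    have m := hτ.inv_mem hx
    rw [hτ.homOn ((sQ K i).inv_mem m) (conj_mem_of_mem_normalizer (norm_of_le k2 g) m),
      hτ.homOn.map_inv m, perm_apply_inv_self]
    rfl
  refine mem_innS_of_chain ((fn_sQ i).isFullyAutomized hF (topP 2)) (topP 2)
    (C := ch2 (sZ K) (sQ K i)) (n := 2) (fun i hi => ?_) (fun i hi => ?_) rfl rfl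
    (fun g _ _ i hi x hx => ?_) (hτ.conj (iso_cj_sQ i g)) fun i hi x hx => ?_
  · interval_cases i
    exacts [bot_le, k2, le_rfl]
  · interval_cases i
    exacts [bot_le, k2]
  · interval_cases i
    exacts [by rw [cj_sZ g hx]; exact inv_mul_cancel x, cm_sZ g x]
  · interval_cases i
    · rw [key x (k2 hx), cj_sZ g (((setStab _).inv_mem s2 x).2 hx), inv_mul_cancel]
      exact hτ.homOn.map_one
    · rw [key x hx]
      exact hz _ (cm_sZ g _)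

theorem conj_rel (hτ : F.Iso (sQ K i) (sQ K i) τ) (hz : ∀ z ∈ sZ K, τ z ∈ sZ K) (a : K) :
    ∃ g : U4 K, ∀ x y w, τ (jj i x (y + a * x) (w + bb i a x)) = g * τ (jj i x y w) * g⁻¹ := by
  obtain ⟨g, rfl⟩ := exists_oc i a
  obtain ⟨h, -, -, c⟩ := mem_innS.1 (conj_inn hF hτ hz g)
  refine ⟨h, fun x y w => ?_⟩
  rw [← c _ (hτ.mem (jj_mem ..)), ← conj_jj]
  simp

theorem ext_sQ (hτ : F.Iso (sQ K i) (sQ K i) τ) (hz : ∀ z ∈ sZ K, τ z ∈ sZ K) :
    ∃ α, F.Iso ⊤ ⊤ α ∧ ∀ x ∈ sQ K i, α x = τ x :=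
  exists_ext_top ((fn_sQ i).isReceptive hF (topP 2)) (fun g _ => norm_of_le (sZ_le_sQ i) g) hτ
    fun g _ => conj_inn hF hτ hz g

theorem two_trick (hτ : F.Iso (sQ K i) (sQ K i) τ) {z : U4 K} (hz : z ∈ sZ K) {a : K}
    (h : τ⁻¹ (jj i 0 (a * cc i (τ z)) (bb i a (cc i (τ z)))) ∈ sZ K) : a * cc i (τ z) = 0 := by
  have k2 := sZ_le_sQ (K := K) i
  obtain ⟨g, rfl⟩ := exists_oc i a
  set d := τ⁻¹ (jj i 0 (oc i g * cc i (τ z)) (bb i (oc i g) (cc i (τ z)))) with hd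
  have hc' : ∀ z ∈ sZ K, z ∈ Subgroup.centralizer
      ((normalizerIn ⊤ (sQ K i) : Subgroup (U4 K)) : Set (U4 K)) := fun z hz =>
    Subgroup.mem_centralizer_iff.2 fun y _ => comm_sZ y hz
  have b5 : (τ⁻¹ * cj g * τ⁻¹⁻¹) z = z * d ^ (1 : ℤ) := by
    simp only [inv_inv, Perm.mul_apply, cj_apply, zpow_one]
    rw [Perm.inv_eq_iff_eq, hτ.homOn.map_mul (k2 hz) (k2 h), hd, perm_apply_inv_self,
      ← eq_jj (hτ.mem (k2 hz)), conj_jj, jj_mul]
    simp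
  have := ((fn_sQ i).isFullyAutomized hF (topP 2)).fix_of_coset (k2 hz) (k2 h)
    (hc' z hz) (hc' d h) ((H8.qEl_cj (topP 2) le_top trivial (norm_of_le k2 g)).conj hτ.symm) (by
      simp only [inv_inv, Perm.mul_apply, cj_apply]
      rw [hd, perm_apply_inv_self, cj_sZ g (jj_mem_sZ.2 rfl)]) b5
  rw [b5, zpow_one, mul_eq_left, hd, Perm.inv_eq_iff_eq, hτ.homOn.map_one, ← jj_one,
    jj_inj] at this
  exact this.2.1

theorem two_surj (hτ : F.Iso (sQ K i) (sQ K i) τ) {z : U4 K} (hz : z ∈ sZ K) (hz' : τ z ∉ sZ K)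
    (y : K) : ∃ a, cc i (τ⁻¹ (jj i 0 (a * cc i (τ z)) (bb i a (cc i (τ z))))) = y := by
  have h0 := mt (cc_eq_zero (hτ.mem (sZ_le_sQ i hz))).1 hz'
  refine Finite.injective_iff_surjective.1 (fun a b e => ?_) y
  have := two_trick hF hτ hz (a := a + b) ((cc_eq_zero (hτ.inv_mem (jj_mem ..))).1 (by
    rw [add_mul, add_bb, ← add_zero (0 : K), ← jj_mul, hτ.symm.homOn (jj_mem ..) (jj_mem ..),
      cc_mul, add_zero, e, CharTwo.add_self_eq_zero]))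
  exact CharTwo.add_eq_zero.1 ((mul_eq_zero.1 this).resolve_right h0)

theorem two_W (hτ : F.Iso (sQ K i) (sQ K i) τ) {z : U4 K} (hz : z ∈ sZ K) (hz' : τ z ∉ sZ K)
    {d : U4 K} (hd : d ∈ sZ K) (hd' : τ⁻¹ d ∈ sZ K) : d.v = 0 ∨ d.w = 0 := by
  by_contra hn
  push Not at hn
  obtain ⟨a, x, e1, e2⟩ := bb_cover i hn.1 hn.2
  have h0 := mt (cc_eq_zero (hτ.mem (sZ_le_sQ i hz))).1 hz'
  obtain ⟨b, hb⟩ := two_surj hF hτ hz hz' 1
  obtain ⟨c, hc⟩ := two_surj hF hτ.symm (z := jj i 0 _ _) (jj_mem_sZ.2 rfl)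
    (mt (cc_eq_zero (hτ.inv_mem (jj_mem ..))).2 (by rw [hb]; exact one_ne_zero)) x
  rw [inv_inv] at hc
  have := two_trick hF hτ (jj_mem_sZ.2 rfl) (a := a) (by
    rw [hc, e1, e2, ← (cc_eq_zero (sZ_le_sQ i hd)).2 hd, eq_jj (sZ_le_sQ i hd)]; exact hd')
  rw [hc, e1] at this
  exact hn.1 this

theorem two_C (hτ : F.Iso (sQ K i) (sQ K i) τ) {z : U4 K} (hz : z ∈ sZ K) (hz' : τ z ∉ sZ K)
    {r : U4 K} (hr : r ∈ sC K) (hr1 : r ≠ 1) (hr' : τ⁻¹ r ∈ sZ K) :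
    (∀ d ∈ sZ K, τ⁻¹ d ∈ sZ K → d ∈ sC K) ∧ ∀ c ∈ sC K, τ⁻¹ c ∈ sZ K := by
  have k2 := sZ_le_sQ (K := K) i
  have hw : r.w ≠ 0 := fun e => hr1 (U4.ext hr.1 hr.2.1 hr.2.2 e)
  have a1 : ∀ d ∈ sZ K, τ⁻¹ d ∈ sZ K → d ∈ sC K := fun d hd hd' => by
    refine ⟨hd.1, hd.2, (two_W hF hτ hz hz' hd hd').elim id fun e => ?_⟩
    have := two_W hF hτ hz hz' ((sZ K).mul_mem hd (sC_le_sZ hr)) (by
      rw [hτ.symm.homOn (k2 hd) (k2 (sC_le_sZ hr))]; exact (sZ K).mul_mem hd' hr')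
    simpa [hd.1, hr.2.2, e, hw] using this
  refine ⟨a1, fun c hc => ?_⟩
  obtain ⟨a, ha⟩ := two_surj hF hτ hz hz' (cc i (τ⁻¹ c))
  have h0 := mt (cc_eq_zero (hτ.mem (k2 hz))).1 hz'
  have m := k2 (sC_le_sZ hc)
  have := (a1 _ ((sZ K).mul_mem (sC_le_sZ hc) (jj_mem_sZ.2 rfl))
    ((cc_eq_zero (hτ.inv_mem ((sQ K i).mul_mem m (jj_mem ..)))).1 (by
      rw [hτ.symm.homOn m (jj_mem ..), cc_mul, ha, CharTwo.add_self_eq_zero]))).2.2
  have a0 : a = 0 := by simpa [hc.1, hc.2.2, h0] using this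
  rw [a0, zero_mul, zero_bb, jj_one, hτ.symm.homOn.map_one] at ha
  exact (cc_eq_zero (hτ.inv_mem m)).1 (by rw [← ha, ← jj_one (i := i), cc_jj])

theorem two_inv {r : U4 K} (hr : r ∈ sC K) (hr1 : r ≠ 1)
    (hr' : ∀ τ, F.Iso (sQ K i) (sQ K i) τ → τ r ∈ sZ K) {τ₀ : Perm (U4 K)}
    (h₀ : F.Iso (sQ K i) (sQ K i) τ₀) {z : U4 K} (hz : z ∈ sZ K) (hz' : τ₀ z ∉ sZ K)
    (hτ : F.Iso (sQ K i) (sQ K i) τ) {c : U4 K} (hc : c ∈ sC K) : τ c ∈ sC K := by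
  have a1 : ∀ τ : Perm (U4 K), (∃ z ∈ sZ K, τ z ∉ sZ K) → ∃ z ∈ sZ K, τ⁻¹ z ∉ sZ K := by
    rintro τ ⟨z, h1, h2⟩
    by_contra hn
    push Not at hn
    exact h2 ((mem_setStab_of_finite hn _).1 (by simpa using h1))
  have key : ∀ τ, F.Iso (sQ K i) (sQ K i) τ → (∃ z ∈ sZ K, τ z ∉ sZ K) → ∀ c ∈ sC K,
      τ c ∈ sC K := fun τ hτ h c hc => by
    obtain ⟨z', h3, h4⟩ := a1 τ h
    obtain ⟨z, h1, h2⟩ := h
    exact (two_C hF hτ h1 h2 hr hr1 (hr' _ hτ.symm)).1 _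
      ((two_C hF hτ.symm h3 h4 hr hr1 (hr' _ hτ)).2 c hc) (by simpa using sC_le_sZ hc)
  by_cases h : ∃ z ∈ sZ K, τ z ∉ sZ K
  · exact key τ hτ h c hc
  · push Not at h
    simpa using key _ (h₀.trans hτ) ⟨z, hz, fun e => hz' ((mem_setStab_of_finite h _).1 e)⟩ _
      (key _ h₀.symm (a1 _ ⟨z, hz, hz'⟩) c hc)

end Two

end Cfsg.Agent.H4.Sp
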