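import Cfsg.Agent.H3.FS

/-! Taussky's theorem on `2`-groups whose commutator subgroup has index four. -/

set_option autoImplicit false

namespace Cfsg.Agent.H4

open Cfsg.Agent.H3 Subgroup

universe u

theorem index_commutator_of_index_two {R : Type*} [Group R] [Finite R] (A : Subgroup R)
    (hA : A.index = 2) (hab : ∀ a ∈ A, ∀ b ∈ A, a * b = b * a) {t : R} (ht : t ∉ A) :
    (commutator R).index = 2 * Nat.card ↥(A ⊓ centralizer ({t} : Set R)) := by
  have hN := normal_of_index_eq_two hA
  let f : A →* R :=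
    { toFun := fun x => t * x * t⁻¹ * (x : R)⁻¹
      map_one' := by simp
      map_mul' := fun x y => by
        have h1 := hab _ (A.inv_mem x.2) _ (mul_mem (hN.conj_mem _ y.2 t) (A.inv_mem y.2))
        push_cast
        calc t * (x * y) * t⁻¹ * (x * y : R)⁻¹
            = t * x * t⁻¹ * (t * y * t⁻¹ * (y : R)⁻¹ * (x : R)⁻¹) := by group
          _ = _ := by rw [← h1]; group }
  have hf : ∀ x : A, f x = t * x * t⁻¹ * (x : R)⁻¹ := fun _ => rfl
  have hdec : ∀ g, g ∈ A ∨ ∃ y ∈ A, g = y * t := fun g => by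
    by_cases hg : g ∈ A
    · exact Or.inl hg
    · exact Or.inr ⟨g * t⁻¹, by simp [mul_mem_iff_of_index_two hA, hg, ht], by simp⟩
  have hle : f.range ≤ A := by
    rintro _ ⟨x, rfl⟩
    exact mul_mem (hN.conj_mem _ x.2 t) (A.inv_mem x.2)
  have hcen : ∀ g, ∀ x ∈ A, g * x * g⁻¹ * x⁻¹ ∈ f.range := by
    intro g x hx
    rcases hdec g with hg | ⟨y, hy, rfl⟩
    · rw [hab g hg x hx]; simp
    · refine ⟨⟨x, hx⟩, ?_⟩
      rw [hf]
      have h1 := hab _ hy _ (hN.conj_mem _ hx t)
      calc t * x * t⁻¹ * x⁻¹ = (t * x * t⁻¹) * y * y⁻¹ * x⁻¹ := by group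
        _ = _ := by rw [← h1]; group
  have hnorm : f.range.Normal := ⟨fun r hr g => by
    have := mul_mem (hcen g r (hle hr)) hr
    simpa using this⟩
  have hcomm : commutator R = f.range := by
    apply le_antisymm
    · rw [commutator_def, commutator_le]
      intro g _ h _
      have hq : ∀ g : R, ∀ x ∈ A, (g : R ⧸ f.range) * x = x * g := fun g x hx => by
        have := (QuotientGroup.eq_one_iff _).2 (hcen g x hx)
        simpa only [QuotientGroup.mk_mul, QuotientGroup.mk_inv, one_mul,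
          mul_inv_eq_iff_eq_mul] using this
      rw [← QuotientGroup.eq_one_iff, commutatorElement_def]
      simp only [QuotientGroup.mk_mul, QuotientGroup.mk_inv, one_mul, mul_inv_eq_iff_eq_mul]
      rcases hdec h with hh | ⟨y, hy, rfl⟩
      · exact hq g h hh
      rcases hdec g with hg | ⟨x, hx, rfl⟩
      · exact (hq _ g hg).symm
      · rw [QuotientGroup.mk_mul (N := f.range) y t, ← mul_assoc, hq _ y hy, QuotientGroup.mk_mul,
          mul_assoc, mul_assoc, mul_assoc, ← mul_assoc (t : R ⧸ f.range) x, hq t x hx, mul_assoc]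
    · rintro _ ⟨x, rfl⟩
      exact commutator_mem_commutator (mem_top t) (mem_top x)
  have hker : Nat.card f.ker = Nat.card ↥(A ⊓ centralizer ({t} : Set R)) :=
    Nat.card_congr ⟨fun x => ⟨x.1, x.1.2, mem_centralizer_singleton_iff.2 (by
      have := x.2
      rw [MonoidHom.mem_ker, hf, mul_inv_eq_one, mul_inv_eq_iff_eq_mul] at this
      exact this.symm)⟩, fun x => ⟨⟨x.1, x.2.1⟩, by
      rw [MonoidHom.mem_ker, hf, mul_inv_eq_one, mul_inv_eq_iff_eq_mul]
      exact (mem_centralizer_singleton_iff.1 x.2.2).symm⟩, fun _ => rfl, fun _ => rfl⟩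
  have h1 := f.ker.card_mul_index
  rw [index_ker, ← hcomm, hker] at h1
  have h2 := A.card_mul_index
  have h3 := (commutator R).card_mul_index
  apply Nat.eq_of_mul_eq_mul_left (Nat.card_pos (α := commutator R))
  rw [h3, ← h2, ← h1, hA]
  ring

theorem exists_notMem_of_index_two {R : Type*} [Group R] {A : Subgroup R} (hA : A.index = 2) :
    ∃ t, t ∉ A := by
  by_contra h
  push Not at h
  rw [(eq_top_iff' A).2 h, index_top] at hA
  omega

theorem index_commutator_of_comm {R : Type*} [Group R] (h : ∀ a b : R, a * b = b * a) :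
    (commutator R).index = Nat.card R := by
  have : commutator R = ⊥ := by
    rw [eq_bot_iff, commutator_def, commutator_le]
    intro a _ b _
    rw [mem_bot, commutatorElement_eq_one_iff_mul_comm, h]
  rw [this, index_bot]

theorem exists_orderOf_of_index_commutator (k : ℕ) : ∀ (R : Type u) [Group R] [Finite R],
    Nat.card R = 2 ^ (k + 3) → (commutator R).index = 4 → ∃ a : R, orderOf a = 2 ^ (k + 2) := by
  have hnc : ∀ (k : ℕ) (R : Type u) [Group R] [Finite R], Nat.card R = 2 ^ (k + 3) →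
      (commutator R).index = 4 → ¬ ∀ a b : R, a * b = b * a := by
    intro k R _ _ h1 h2 h
    rw [index_commutator_of_comm h, h1, pow_add] at h2
    omega
  induction k with
  | zero =>
    intro R _ _ h1 h2
    obtain ⟨a, ha⟩ : ∃ a : R, a ^ 2 ≠ 1 := by
      by_contra h
      push Not at h
      exact hnc 0 R h1 h2 fun a b =>
        (Commute.of_orderOf_dvd_two (fun g => orderOf_dvd_of_pow_eq_one (h g)) a b).eq
    obtain ⟨j, hj, hj2⟩ := (Nat.dvd_prime_pow Nat.prime_two).1 (h1 ▸ orderOf_dvd_natCard a)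
    refine ⟨a, ?_⟩
    interval_cases j
    · exact absurd (orderOf_dvd_iff_pow_eq_one.1 (by rw [hj2]; norm_num)) ha
    · exact absurd (orderOf_dvd_iff_pow_eq_one.1 (by rw [hj2]; norm_num)) ha
    · exact hj2
    · have : IsCyclic R := isCyclic_of_orderOf_eq_card a (by rw [hj2, h1])
      exact absurd (fun a b => (IsCyclic.commutative.is_comm.comm a b)) (hnc 0 R h1 h2)
  | succ k ih =>
    intro R _ _ h1 h2
    have hR : IsPGroup 2 R := IsPGroup.of_card h1
    have hne : commutator R ≠ ⊥ := by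
      intro h
      rw [h, index_bot, h1, pow_add] at h2
      omega
    obtain ⟨z0, hz0, hz01, hz0c⟩ := exists_mem_center_of_normal hR _ hne
    obtain ⟨j, hj⟩ := IsPGroup.iff_orderOf.1 hR z0
    have hj0 : j ≠ 0 := by
      rintro rfl
      exact hz01 (orderOf_eq_one_iff.1 hj)
    set z := z0 ^ (orderOf z0 / 2) with hzdef
    have hz : orderOf z = 2 := orderOf_pow_orderOf_div (orderOf_pos z0).ne'
      (hj ▸ dvd_pow_self 2 hj0)
    have hzc : z ∈ center R := pow_mem hz0c _
    have hz2 : z ^ 2 = 1 := hz ▸ pow_orderOf_eq_one z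
    have hz1 : z ≠ 1 := fun h => by rw [h, orderOf_one] at hz; omega
    have hZc : zpowers z ≤ center R := zpowers_le.2 hzc
    have hZn : (zpowers z).Normal := ⟨fun x hx g => by
      rw [mem_center_iff.1 (hZc hx) g]; simpa using hx⟩
    have hZ : ∀ x ∈ zpowers z, x ^ 2 = 1 := by
      rintro _ ⟨i, rfl⟩
      rw [← zpow_natCast, ← zpow_mul, mul_comm, zpow_mul, zpow_natCast, hz2, one_zpow]
    have hsurj := QuotientGroup.mk'_surjective (zpowers z)
    obtain ⟨a', ha'⟩ := ih (R ⧸ zpowers z) (by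
      have := card_eq_card_quotient_mul_card_subgroup (zpowers z)
      rw [h1, Nat.card_zpowers, hz, show k + 1 + 3 = k + 3 + 1 by ring, pow_succ] at this
      exact (Nat.eq_of_mul_eq_mul_right two_pos this).symm) (by
      rw [← h2, ← index_map_eq (commutator R) hsurj (by
        rw [QuotientGroup.ker_mk']; exact zpowers_le.2 (pow_mem hz0 _)),
        map_commutator_eq, MonoidHom.range_eq_top.2 hsurj, _root_.commutator_def])
    obtain ⟨a, rfl⟩ := hsurj a'
    have ha1 : a ^ 2 ^ (k + 2) ∈ zpowers z := by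
      rw [← QuotientGroup.eq_one_iff, ← ha']
      exact pow_orderOf_eq_one (QuotientGroup.mk' (zpowers z) a)
    refine ⟨a, orderOf_eq_prime_pow (fun ha2 => ?_) (by rw [pow_succ, pow_mul]; exact hZ _ ha1)⟩
    let A := (zpowers (QuotientGroup.mk' (zpowers z) a)).comap (QuotientGroup.mk' (zpowers z))
    have hA : ∀ x ∈ A, ∃ i : ℤ, ∃ w ∈ zpowers z, x = a ^ i * w := by
      rintro x ⟨i, hi⟩
      refine ⟨i, (a ^ i)⁻¹ * x, QuotientGroup.eq.1 hi, by simp⟩
    have hAi : A.index = 2 := by
      rw [index_comap_of_surjective _ hsurj]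
      have e1 := (zpowers (QuotientGroup.mk' (zpowers z) a)).card_mul_index
      have e2 := card_eq_card_quotient_mul_card_subgroup (zpowers z)
      rw [Nat.card_zpowers, ha'] at e1
      rw [h1, Nat.card_zpowers, hz, ← e1, show k + 1 + 3 = k + 2 + 1 + 1 by ring, pow_succ,
        pow_succ] at e2
      exact (Nat.eq_of_mul_eq_mul_left (by positivity)
        (Nat.eq_of_mul_eq_mul_right two_pos e2)).symm
    have hAab : ∀ x ∈ A, ∀ y ∈ A, x * y = y * x := by
      intro x hx y hy
      obtain ⟨i, w, hw, rfl⟩ := hA x hx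
      obtain ⟨j, w', hw', rfl⟩ := hA y hy
      have c1 : ∀ g, Commute g w := fun g => mem_center_iff.1 (hZc hw) g
      have c2 : ∀ g, Commute g w' := fun g => mem_center_iff.1 (hZc hw') g
      exact (((Commute.refl a).zpow_zpow i j).mul_right (c2 _)).mul_left (c1 _).symm
    obtain ⟨t, ht⟩ := exists_notMem_of_index_two hAi
    have h3 := index_commutator_of_index_two A hAi hAab ht
    rw [h2] at h3
    have haA : a ∈ A := mem_zpowers _
    set u := a ^ 2 ^ (k + 1) with hu
    have huZ : u ∉ zpowers z := by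
      intro h
      rw [← QuotientGroup.eq_one_iff] at h
      have := orderOf_dvd_of_pow_eq_one (x := QuotientGroup.mk' (zpowers z) a) h
      rw [ha', Nat.pow_dvd_pow_iff_le_right one_lt_two] at this
      omega
    have hu2 : u ^ 2 = 1 := by rw [hu, ← pow_mul, ← pow_succ, ha2]
    have hut : t * u * t⁻¹ = u := by
      obtain ⟨i, w, hw, e⟩ := hA _ ((normal_of_index_eq_two hAi).conj_mem a haA t)
      have c1 : ∀ g, Commute g w := fun g => mem_center_iff.1 (hZc hw) g
      have e2 : t * u * t⁻¹ = u ^ i := by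
        rw [hu, ← conj_pow, e, (c1 _).mul_pow, pow_succ' 2 k, pow_mul w, hZ w hw, one_pow, mul_one,
          ← zpow_natCast, ← zpow_natCast a, ← zpow_mul, ← zpow_mul, mul_comm]
      rcases Int.even_or_odd' i with ⟨c, rfl | rfl⟩
      · rw [zpow_mul, zpow_ofNat, hu2, one_zpow, mul_inv_eq_one, mul_eq_left] at e2
        exact absurd (e2 ▸ one_mem _) huZ
      · rw [e2, zpow_add_one, zpow_mul, zpow_ofNat, hu2, one_zpow, one_mul]
    have h4 : ({1, z, u} : Set R) ⊆ (A ⊓ centralizer ({t} : Set R) : Subgroup R) := by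
      rintro x (rfl | rfl | rfl)
      · exact one_mem _
      · exact ⟨by
          change QuotientGroup.mk' (zpowers z) z ∈ zpowers _
          rw [QuotientGroup.mk'_apply _ z, (QuotientGroup.eq_one_iff _).2 (mem_zpowers _)]
          exact one_mem _, mem_centralizer_singleton_iff.2 (mem_center_iff.1 hzc t).symm⟩
      · exact ⟨pow_mem haA _, mem_centralizer_singleton_iff.2
          (mul_inv_eq_iff_eq_mul.1 hut).symm⟩
    have h5 := Set.ncard_le_ncard h4
    rw [Set.ncard_eq_three.2 ⟨1, z, u, hz1.symm, fun h => huZ (h ▸ one_mem _),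
      fun h => huZ (h ▸ mem_zpowers _), rfl⟩, ← Nat.card_coe_set_eq] at h5
    have h6 : 3 ≤ Nat.card ↥(A ⊓ centralizer ({t} : Set R)) := h5
    omega

theorem index_zpowers_eq_two {R : Type*} [Group R] [Finite R] {k : ℕ}
    (h1 : Nat.card R = 2 ^ (k + 1)) {a : R} (ha : orderOf a = 2 ^ k) : (zpowers a).index = 2 := by
  have := (zpowers a).card_mul_index
  rw [Nat.card_zpowers, ha, h1, pow_succ] at this
  exact Nat.eq_of_mul_eq_mul_left (by positivity) this

theorem zpowers_comm {R : Type*} [Group R] (a : R) :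
    ∀ x ∈ zpowers a, ∀ y ∈ zpowers a, x * y = y * x := by
  rintro _ ⟨i, rfl⟩ _ ⟨j, rfl⟩
  exact ((Commute.refl a).zpow_zpow i j).eq

theorem conj_cases_of_index_two {R : Type*} [Group R] {a t : R} (hA : (zpowers a).index = 2)
    (ht : t ∉ zpowers a) (y : R) : y * a * y⁻¹ = a ∨ y * a * y⁻¹ = t * a * t⁻¹ := by
  by_cases hy : y ∈ zpowers a
  · left; rw [zpowers_comm a y hy a (mem_zpowers a)]; simp
  · right
    have h1 : t⁻¹ * y ∈ zpowers a := by simp [mul_mem_iff_of_index_two hA, hy, ht]
    have h2 := zpowers_comm a _ h1 a (mem_zpowers a)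
    calc y * a * y⁻¹ = t * (t⁻¹ * y * a) * y⁻¹ := by group
      _ = _ := by rw [h2]; group

/-- Taussky's theorem. -/
theorem taussky {R : Type u} [Group R] [Finite R] {k : ℕ} (h1 : Nat.card R = 2 ^ (k + 3))
    (h2 : (commutator R).index = 4) : ∃ a t : R, orderOf a = 2 ^ (k + 2) ∧ t ∉ zpowers a ∧
      (t * a * t⁻¹ = a⁻¹ ∨ t * a * t⁻¹ = a⁻¹ * a ^ 2 ^ (k + 1)) ∧ t * a * t⁻¹ ≠ a := by
  obtain ⟨a, ha⟩ := exists_orderOf_of_index_commutator k R h1 h2
  have hA := index_zpowers_eq_two h1 ha
  obtain ⟨t, ht⟩ := exists_notMem_of_index_two hA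
  have h3 := index_commutator_of_index_two _ hA (zpowers_comm a) ht
  rw [h2] at h3
  have hN := normal_of_index_eq_two hA
  have h4 : Nat.card ↥(zpowers a ⊓ centralizer ({t} : Set R)) = 2 := by omega
  have hsq : ∀ x ∈ zpowers a ⊓ centralizer ({t} : Set R), x ^ 2 = 1 := fun x hx => by
    have := pow_card_eq_one' (x := (⟨x, hx⟩ : ↥(zpowers a ⊓ centralizer ({t} : Set R))))
    rw [h4] at this
    exact congrArg Subtype.val this
  refine ⟨a, t, ha, ht, ?_, fun h => ?_⟩
  · have hb : a * (t * a * t⁻¹) ∈ zpowers a ⊓ centralizer ({t} : Set R) := by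
      refine ⟨mul_mem (mem_zpowers a) (hN.conj_mem _ (mem_zpowers a) t),
        mem_centralizer_singleton_iff.2 ?_⟩
      have e1 := zpowers_comm a _ (mul_self_mem_of_index_two hA t) a (mem_zpowers a)
      have e2 := zpowers_comm a _ (hN.conj_mem _ (mem_zpowers a) t) a (mem_zpowers a)
      calc a * (t * a * t⁻¹) * t = (t * a * t⁻¹) * a * t := by rw [e2]
        _ = t * a * t⁻¹ * (a * (t * t)) * t⁻¹ := by group
        _ = _ := by rw [← e1]; group
    obtain ⟨i, hi⟩ := (mem_powers_iff_mem_zpowers.2 hb.1 : _ ∈ Submonoid.powers a)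
    have hi' : a ^ i = a * (t * a * t⁻¹) := hi
    have e := hsq _ hb
    rw [← hi', ← pow_mul, ← orderOf_dvd_iff_pow_eq_one, ha, pow_succ] at e
    obtain ⟨c, rfl⟩ := Nat.dvd_of_mul_dvd_mul_right two_pos e
    have e3 : (a ^ 2 ^ (k + 1)) ^ 2 = 1 := by rw [← pow_mul, ← pow_succ, ← ha, pow_orderOf_eq_one]
    rw [pow_mul] at hi'
    rcases Nat.even_or_odd' c with ⟨c, rfl | rfl⟩
    · left
      rw [pow_mul, e3, one_pow] at hi'
      exact eq_inv_of_mul_eq_one_right hi'.symm
    · right
      rw [pow_succ, pow_mul, e3, one_pow, one_mul] at hi'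
      rw [hi']; group
  · have := hsq a ⟨mem_zpowers a, mem_centralizer_singleton_iff.2 (mul_inv_eq_iff_eq_mul.1 h).symm⟩
    rw [← orderOf_dvd_iff_pow_eq_one, ha] at this
    have := Nat.le_of_dvd two_pos this
    rw [pow_add] at this
    have := Nat.one_le_two_pow (n := k)
    omega

theorem index_commutator_eq_four_of_conj {R : Type*} [Group R] [Finite R] {k : ℕ}
    (h1 : Nat.card R = 2 ^ (k + 3)) {a t : R} (ha : orderOf a = 2 ^ (k + 2)) {m : ℕ}
    (hm : m % 4 = 3) (ht : t * a * t⁻¹ = a ^ m) : (commutator R).index = 4 := by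
  have hA := index_zpowers_eq_two h1 ha
  obtain ⟨c, rfl⟩ : ∃ c, m = 2 * (2 * c + 1) + 1 := ⟨m / 4, by omega⟩
  have key : ∀ i : ℕ, t * a ^ i * t⁻¹ = a ^ i ↔ 2 ^ (k + 1) ∣ i := by
    intro i
    rw [← conj_pow, ht, ← pow_mul, add_mul, one_mul, pow_add, mul_eq_right,
      ← orderOf_dvd_iff_pow_eq_one, ha, pow_succ', mul_assoc, Nat.mul_dvd_mul_iff_left two_pos]
    exact Nat.Coprime.dvd_mul_left (Nat.Coprime.pow_left _ (by simp))
  have ht' : t ∉ zpowers a := by
    intro h
    have := (key 1).1 (by rw [pow_one, zpowers_comm a t h a (mem_zpowers a)]; simp)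
    have := Nat.le_of_dvd one_pos this
    rw [pow_succ] at this
    have := Nat.one_le_two_pow (n := k)
    omega
  rw [index_commutator_of_index_two _ hA (zpowers_comm a) ht']
  have : zpowers a ⊓ centralizer ({t} : Set R) = zpowers (a ^ 2 ^ (k + 1)) := by
    apply le_antisymm
    · rintro x ⟨hx, hx'⟩
      obtain ⟨i, rfl⟩ := (mem_powers_iff_mem_zpowers.2 hx : _ ∈ Submonoid.powers a)
      obtain ⟨j, rfl⟩ := (key i).1 (mul_inv_eq_iff_eq_mul.2
        (mem_centralizer_singleton_iff.1 hx').symm)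
      exact ⟨j, by simp [pow_mul]⟩
    · rw [zpowers_le]
      exact ⟨pow_mem (mem_zpowers a) _, mem_centralizer_singleton_iff.2
        (mul_inv_eq_iff_eq_mul.1 ((key _).2 dvd_rfl)).symm⟩
  rw [this, Nat.card_zpowers, orderOf_pow_of_dvd (by positivity) (ha ▸ pow_dvd_pow 2 (by omega)),
    ha, pow_succ, Nat.mul_div_cancel_left _ (by positivity)]

theorem index_commutator_eq_four_of_card_eight {R : Type*} [Group R] [Finite R]
    (h1 : Nat.card R = 2 ^ 3) (h : ¬ ∀ a b : R, a * b = b * a) : (commutator R).index = 4 := by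
  have hR : IsPGroup 2 R := IsPGroup.of_card h1
  obtain ⟨A, hA⟩ := Sylow.exists_subgroup_card_pow_prime (G := R) 2 (n := 2) (by rw [h1]; norm_num)
  have hAi : A.index = 2 := by
    have := A.card_mul_index
    rw [hA, h1] at this
    omega
  have hAab : ∀ x ∈ A, ∀ y ∈ A, x * y = y * x := fun x hx y hy =>
    congrArg Subtype.val ((IsPGroup.isMulCommutative_of_card_eq_prime_sq hA).is_comm.comm
      (⟨x, hx⟩ : A) ⟨y, hy⟩)
  obtain ⟨t, ht⟩ := exists_notMem_of_index_two hAi
  have h3 := index_commutator_of_index_two A hAi hAab ht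
  have hN := normal_of_index_eq_two hAi
  obtain ⟨z, hz, hz1, hzc⟩ := exists_mem_center_of_normal hR A (by
    rintro rfl; simp at hA)
  have h4 : Nat.card ↥(A ⊓ centralizer ({t} : Set R)) ≠ 1 := by
    rw [Ne, card_eq_one, eq_bot_iff]
    exact fun h => hz1 (h ⟨hz, mem_centralizer_singleton_iff.2 (mem_center_iff.1 hzc t).symm⟩)
  have h5 : (commutator R).index ≠ 8 := by
    intro h5
    have := (commutator R).card_mul_index
    rw [h5, h1] at this
    have h6 : commutator R = ⊥ := card_eq_one.1 (by omega)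
    refine h fun a b => commutatorElement_eq_one_iff_mul_comm.1 ?_
    rw [← mem_bot, ← h6]
    exact commutator_mem_commutator (mem_top a) (mem_top b)
  obtain ⟨j, hj, hj2⟩ := (Nat.dvd_prime_pow Nat.prime_two).1
    (hA ▸ card_dvd_of_le (inf_le_left : A ⊓ centralizer ({t} : Set R) ≤ A))
  rw [hj2] at h3 h4
  interval_cases j <;> simp_all

/-- Galois correspondence inside `ℂ`. -/
theorem mem_of_forall_ringEquiv (K : IntermediateField ℚ ℂ) {x : ℂ} (hx : IsIntegral K x)
    (h : ∀ τ : ℂ ≃+* ℂ, (∀ k ∈ K, τ k = k) → τ x = x) : x ∈ K := by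
  have hsep : (minpoly K x).Separable := (minpoly.irreducible hx).separable
  have hdeg : (minpoly K x).natDegree = 1 := by
    have h1 := Polynomial.card_rootSet_eq_natDegree (K := ℂ) hsep (IsAlgClosed.splits _)
    have h2 : (minpoly K x).rootSet ℂ = {x} := by
      ext y
      rw [Polynomial.mem_rootSet_of_ne (minpoly.ne_zero hx), Set.mem_singleton_iff]
      constructor
      · intro hy
        have hyi : IsIntegral K y := ⟨minpoly K x, minpoly.monic hx, hy⟩
        let L := algebraicClosure K ℂ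
        have : IsAlgClosure K L := algebraicClosure.isAlgClosure K ℂ
        have : Algebra.IsAlgebraic K L := algebraicClosure.isAlgebraic K ℂ
        have : Normal K L := IsAlgClosure.normal K L
        let x' : L := ⟨x, mem_algebraicClosure_iff'.mpr hx⟩
        let y' : L := ⟨y, mem_algebraicClosure_iff'.mpr hyi⟩
        have hm : minpoly K x' = minpoly K x := IntermediateField.minpoly_eq x'
        have hev : Polynomial.aeval y' (minpoly K x') = 0 := by
          apply (algebraMap L ℂ).injective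
          rw [hm, map_zero, ← Polynomial.aeval_algebraMap_apply]
          exact hy
        obtain ⟨σ, hσ⟩ := minpoly.exists_algEquiv_of_root' (K := K) (L := L) (x := y') (y := x')
          (Algebra.IsAlgebraic.isAlgebraic x') hev
        obtain ⟨τ, hτ⟩ := exists_ringEquiv_extend (L.restrictScalars ℚ) σ.toRingEquiv
        have e : τ x = y := (hτ x').trans (congrArg Subtype.val hσ)
        rw [← e, h τ]
        intro k hk
        exact (hτ (algebraMap K L ⟨k, hk⟩)).trans (congrArg Subtype.val (σ.commutes ⟨k, hk⟩))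
      · rintro rfl
        exact minpoly.aeval K y
    rw [← h1]
    simp [h2]
  obtain ⟨q, hq⟩ := (minpoly.natDegree_eq_one_iff).mp hdeg
  exact hq ▸ q.2

theorem forall_adjoin_fixed_iff (S : Set ℂ) (τ : ℂ ≃+* ℂ) :
    (∀ k ∈ IntermediateField.adjoin ℚ S, τ k = k) ↔ ∀ s ∈ S, τ s = s := by
  refine ⟨fun h s hs => h s (IntermediateField.subset_adjoin ℚ S hs), fun h k hk => ?_⟩
  induction hk using IntermediateField.adjoin_induction with
  | mem x hx => exact h x hx
  | algebraMap x => simp
  | add x y _ _ hx hy => rw [map_add, hx, hy]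
  | inv x _ hx => rw [map_inv₀, hx]
  | mul x y _ _ hx hy => rw [map_mul, hx, hy]

theorem adjoin_eq_adjoin_iff {S T : Set ℂ} (hS : ∀ s ∈ S, IsIntegral ℤ s)
    (hT : ∀ s ∈ T, IsIntegral ℤ s) :
    IntermediateField.adjoin ℚ S = IntermediateField.adjoin ℚ T ↔
      ∀ τ : ℂ ≃+* ℂ, (∀ s ∈ S, τ s = s) ↔ ∀ s ∈ T, τ s = s := by
  constructor
  · intro h τ
    rw [← forall_adjoin_fixed_iff, h, forall_adjoin_fixed_iff]
  · intro h
    apply le_antisymm <;> rw [IntermediateField.adjoin_le_iff] <;> intro s hs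
    · exact mem_of_forall_ringEquiv _ (hS s hs).tower_top fun τ hτ =>
        (h τ).2 ((forall_adjoin_fixed_iff T τ).1 hτ) s hs
    · exact mem_of_forall_ringEquiv _ (hT s hs).tower_top fun τ hτ =>
        (h τ).1 ((forall_adjoin_fixed_iff S τ).1 hτ) s hs

end Cfsg.Agent.H4
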